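import Groth.Agent.H21Split.R3.Generic
import Groth.Agent.H21Split.HomExt

/-!
The big cell as an open part for the extension theorem.
-/

open CategoryTheory MonoidalCategory CartesianMonoidalCategory MonObj GrpObj AlgebraicGeometry
open CategoryTheory.Limits

universe u

set_option backward.isDefEq.respectTransparency false
set_option linter.style.haveILetI false
set_option linter.unusedSectionVars false
set_option synthInstance.maxHeartbeats 400000

noncomputable section

namespace Groth.Agent.H21Split.R3

variable {S : Scheme.{u}}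

theorem isAffineHom_tensor' {X Y : Over S} (hX : IsAffineHom X.hom) (hY : IsAffineHom Y.hom) :
    IsAffineHom (X ⊗ Y).hom :=
  MorphismProperty.comp_mem @IsAffineHom (pullback.fst X.hom Y.hom) X.hom
    (MorphismProperty.pullback_fst (P := @IsAffineHom) _ _ hY) hX

theorem isAffineHom_Ga : IsAffineHom (Red.Ga S).hom :=
  MorphismProperty.pullback_snd (P := @IsAffineHom) _ _ (@isAffineHom_of_isAffine _ _ _ (inferInstanceAs (IsAffine (Spec _))) _)

theorem isAffineHom_pow {X : Over S} (hX : IsAffineHom X.hom) : ∀ n, IsAffineHom (RedSub.pow X n).hom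
  | 0 => inferInstanceAs (IsAffineHom (𝟙 S))
  | n + 1 => isAffineHom_tensor' hX (isAffineHom_pow hX n)

variable {G : Over S} [GrpObj G] (D : Red.SplitRed G)

theorem isAffineHom_T : IsAffineHom D.T.hom := by
  let e := (Over.forget S).mapIso ((Grp.forget (Over S)).mapIso D.split)
  rw [show D.T.hom = e.hom ≫ (Red.DS S D.M).hom from (Over.w D.split.hom.hom.hom).symm]
  haveI := H21Diag.isAffineHom_DS S D.M
  infer_instance

theorem isAffineHom_cell (n m : ℕ) :
    IsAffineHom (RedSub.pow (Red.Ga S) n ⊗ (D.T ⊗ RedSub.pow (Red.Ga S) m)).hom :=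
  isAffineHom_tensor' (isAffineHom_pow isAffineHom_Ga n)
    (isAffineHom_tensor' (isAffineHom_T D) (isAffineHom_pow isAffineHom_Ga m))

/-- A morphism on the big cell all of whose points give compatible pairs extends uniquely to a homomorphism. -/
theorem existsUnique_extension {H : Over S} [GrpObj H] {n m : ℕ} {en : Fin n → D.idx} {ep : Fin m → D.idx}
    (hD : IsCellData D en ep) (hbij : Function.Bijective (Sum.elim en ep))
    (f : RedSub.pow (Red.Ga S) n ⊗ (D.T ⊗ RedSub.pow (Red.Ga S) m) ⟶ H)
    (hf : ∀ (_ : GeometricallyIrreducible G.hom) (_ : Flat G.hom) (_ : UniversallyOpen G.hom)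
      (_ : IsOpenImmersion (RedSub.cellMap D en ep).left) (X : Over S) (z : X ⟶ _),
      Good (RedSub.cellMap D en ep) f (z ≫ RedSub.cellMap D en ep) (z ≫ f)) :
    ∃! g : G ⟶ H, IsMonHom g ∧ RedSub.cellMap D en ep ≫ g = f := by
  haveI := smooth_hom D
  haveI := isAffineHom_hom D
  haveI := isAffineHom_cell D n m
  haveI := H21Rank1.geometricallyIrreducible_of_isReductive D.reductive
  haveI := isOpenImmersion_cellMap D en ep hD hbij
  exact existsUnique_hom (fun s => eta_mem_range D en ep s) (hf inferInstance inferInstance inferInstance inferInstance)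

end Groth.Agent.H21Split.R3
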