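import Groth.Agent.H21Split.R2.Pinned
import Groth.Agent.H21Split.HomExt

/-!
An endomorphism fixing the torus and a root group fixes the root group in duality with it.
-/

open CategoryTheory MonoidalCategory CartesianMonoidalCategory MonObj GrpObj AlgebraicGeometry
open CategoryTheory.Limits

universe u

set_option backward.isDefEq.respectTransparency false
set_option linter.style.haveILetI false
set_option linter.unusedSectionVars false
set_option synthInstance.maxHeartbeats 400000
set_option maxHeartbeats 400000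

noncomputable section

namespace Groth.Agent.H21Split.R3

variable {S : Scheme.{u}} {R : Type u} [CommRing R] (g : Spec (CommRingCat.of R) ⟶ S)
variable {G : Over S} [GrpObj G] (D : Red.SplitRed G) (θ : G ⟶ G) [IsMonHom θ]

theorem tPt_fix (hT : D.i ≫ θ = D.i) {B : Type u} [CommRing B] [Algebra R B] (χ : Multiplicative D.M →* B) :
    tPt g D χ ≫ θ = tPt g D χ := by rw [tPt, Category.assoc, Category.assoc, hT]

theorem isEquivariant_map (hT : D.i ≫ θ = D.i) {σ : Type} (w : σ → D.M) {φ : pt g (MvPolynomial σ R) ⟶ G}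
    (h : IsEquivariant g D w φ) : IsEquivariant g D w (φ ≫ θ) := by
  unfold IsEquivariant at h ⊢
  rw [← Category.assoc, h, MonObj.mul_comp, MonObj.mul_comp, GrpObj.inv_comp, tPt_fix g D θ hT, Category.assoc]

theorem exists_scalar [IsAffineHom G.hom] (hT : D.i ≫ θ = D.i) (a : D.idx)
    (hred : (2 : ℤ) • D.P.root a ∉ Set.range D.P.root) :
    ∃ c : R, ∀ (B : Type u) [CommRing B] [Algebra R B] (x : B),
      uPt g D a x ≫ θ = uPt g D a (algebraMap R B c * x) := by
  let e : Fin 1 → D.idx := fun _ => a
  have hone : ∀ {B : Type u} [CommRing B] [Algebra R B] (v : Fin 1 → B), uProd g D e v = uPt g D a (v 0) :=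
    fun v => by rw [uProd, List.ofFn_succ, List.ofFn_zero, List.prod_cons, List.prod_nil, _root_.mul_one]
  obtain ⟨P, hP, -, hPe⟩ := exists_uProd_eval g D (isPosSet_singleton D a hred) e
    (fun _ _ _ => Subsingleton.elim _ _) Set.range_const e (fun _ => rfl)
    (isEquivariant_map g D θ hT _ (isEquivariant_uProd_X (R := R) g D (w := e) e id fun _ => rfl)) (by
      rw [← Category.assoc, pmap_uProd, hone]
      simp only [MvPolynomial.aeval_X, id_eq]
      rw [uPt_zero, MonObj.one_comp])
  have hsupp : ∀ x, (P 0).coeff x ≠ 0 → x = Finsupp.single 0 1 := fun x hx => by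
    obtain ⟨-, h2⟩ := hP 0 x hx
    have ex : x = Finsupp.single 0 (x 0) := Finsupp.ext fun i => by rw [Subsingleton.elim i 0]; simp
    obtain ⟨hf, hpos⟩ := (isPosSet_singleton D a hred).exists_functional
    have h3 := congrArg hf h2
    rw [ex, wt_single, map_nsmul, nsmul_eq_mul] at h3
    have h4 := hpos a rfl
    have h5 : ((x 0 : ℕ) : ℤ) = 1 := mul_right_cancel₀ (ne_of_gt h4) (h3.trans (_root_.one_mul _).symm)
    rw [ex]
    congr
    omega
  have hform : P 0 = MvPolynomial.monomial (Finsupp.single 0 1) ((P 0).coeff (Finsupp.single 0 1)) := by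
    classical
    refine MvPolynomial.ext _ _ fun x => ?_
    rw [MvPolynomial.coeff_monomial]
    split_ifs with h
    · rw [h]
    · exact not_not.mp fun hx => h (hsupp x hx).symm
  refine ⟨(P 0).coeff (Finsupp.single 0 1), fun B _ _ x => ?_⟩
  have h := hPe B fun _ => x
  rw [← Category.assoc, pmap_uProd, hone, hone] at h
  simp only [MvPolynomial.aeval_X, id_eq] at h
  rw [h]
  congr 1
  conv_lhs => rw [hform]
  simp [MvPolynomial.aeval_monomial]

/-- an endomorphism fixing the torus and a root group fixes the dual root group -/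
theorem fix_dual [IsAffineHom G.hom] [D.P.IsReduced] (b : D.P.Base) (hT : D.i ≫ θ = D.i) {a : D.idx}
    (ha : D.u a ≫ θ = D.u a) {av : Red.Gm S ⟶ D.T}
    (hav : av = Red.DSmap S (D.P.coroot a).toAddMonoidHom ≫ D.split.inv.hom.hom) (h : R2.Pair1 D a av) :
    D.u (D.P.reflectionPerm a a) ≫ θ = D.u (D.P.reflectionPerm a a) := by
  refine hom_ext_pt fun R _ g j => ?_
  set a' := D.P.reflectionPerm a a
  have hd : Dual g D a a' ((1 : Rˣ) : R) := R2.dual_of_pair1 D g hav h
  obtain ⟨c, hc⟩ := exists_scalar g D θ hT a' (two_smul_root_notMem D b _)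
  have hc1 : (1 : R) = c := by
    let B := DualNumber R
    let ε : B := TrivSqZeroExt.inr 1
    have hu : ∀ x : R, ∃ z : Bˣ, (z : B) = 1 + algebraMap R B x * 1 * ε := fun x =>
      ⟨⟨1 + TrivSqZeroExt.inr x, 1 - TrivSqZeroExt.inr x, by
          linear_combination -(TrivSqZeroExt.inr_mul_inr R x x),
        by linear_combination -(TrivSqZeroExt.inr_mul_inr R x x)⟩, by
          ext <;> simp [ε, B, TrivSqZeroExt.algebraMap_eq_inl]⟩
    obtain ⟨z, hz⟩ := hu 1
    obtain ⟨z', hz'⟩ := hu c
    have hfix : ∀ x : B, uPt g D a x ≫ θ = uPt g D a x := fun x => by rw [uPt, Category.assoc, ha]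
    have h1 := congrArg (fun w => w ≫ θ) (hd B 1 ε z (by rw [hz, Units.val_one]))
    simp only [MonObj.mul_comp, tPt_fix g D θ hT, hc, hfix, _root_.mul_one] at h1
    have h2 := hd B 1 (algebraMap R B c * ε) z' (by
      rw [hz', Units.val_one, map_one, _root_.one_mul, _root_.mul_one, _root_.one_mul])
    have e := h1.symm.trans h2
    rw [_root_.mul_assoc, _root_.mul_assoc, ← cellPt_pair, ← cellPt_pair] at e
    have hT' := (cellPt_injective g D (isCellData_pair D (d := a) (c := a') (by rw [R2.root_opp, neg_neg])) e)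
    have hzz : z = z' := by
      have h3 := congrFun hT'.2.2 0
      simp only [Matrix.cons_val_zero, _root_.mul_one] at h3
      exact _root_.inv_inj.mp (Units.ext h3)
    subst hzz
    have := congrArg TrivSqZeroExt.snd (hz.symm.trans hz')
    simpa [ε, B, TrivSqZeroExt.algebraMap_eq_inl] using this
  have e : j = ga g (gv g j) := (ga_gv g j).symm
  rw [e, ← Category.assoc, ← uPt, hc, ← hc1, Algebra.algebraMap_self_apply, _root_.one_mul]

end Groth.Agent.H21Split.R3
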