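import Groth.Agent.H21Split.R3.Hom
import Groth.Agent.H21Split.R3.Fix
import Groth.Agent.H21Split.Rescale
import Groth.Agent.H21Diag.SplitSubtori

/-!
The isomorphism theorem for pinned groups.
-/

open CategoryTheory MonoidalCategory CartesianMonoidalCategory MonObj GrpObj AlgebraicGeometry
open CategoryTheory.Limits
open Groth.Agent.H27Witt.GaCoord (gaFn_comp gaFn_surjective gaFn_injective gaFn_one gaFn_mul)

universe u

set_option backward.isDefEq.respectTransparency false
set_option linter.style.haveILetI false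
set_option linter.unusedSectionVars false
set_option linter.unusedVariables false
set_option synthInstance.maxHeartbeats 400000
set_option maxHeartbeats 400000

noncomputable section

namespace Groth.Agent.H21Split.R3

variable {S : Scheme.{u}} {G : Over S} [GrpObj G] (D : Red.Pinning G)

/-- a scalar putting the pair of a root and its opposite in duality -/
def dualScale (a : D.idx) : 𝟙_ (Over S) ⟶ Red.Gm S :=
  haveI : D.P.IsReduced := isReduced_of_base D.P D.base
  (exists_pairing D.toSplitRed a).choose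

open scoped Classical in
/-- the pinning with the root homomorphisms of the opposites of the simple roots dual to those of the simple roots -/
def dualPin : Red.Pinning G :=
  { D with
    u := fun b => if b ∈ D.base.support then D.u b else
      H21Rank1.powScale 1 (dualScale D (D.P.reflectionPerm b b)) ≫ D.u b
    rootHom := fun b => by
      by_cases h : b ∈ D.base.support
      · simp only [if_pos h]; exact D.rootHom b
      · simp only [if_neg h]; exact isRootHom_scale D.toSplitRed b _ }

theorem dualPin_u {a : D.idx} (ha : a ∈ D.base.support) : (dualPin D).u a = D.u a := if_pos ha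

theorem opp_notMem_support {a : D.idx} (ha : a ∈ D.base.support) : D.P.reflectionPerm a a ∉ D.base.support := by
  haveI := D.fintypeIdx
  haveI : Finite D.idx := Finite.of_fintype _
  intro h
  exact (isPosSet_posRoots (P := D.P) D.base).noNeg a _ (AddSubmonoid.subset_closure ⟨a, ha, rfl⟩)
    (root_opp' D.toSplitRed a) (AddSubmonoid.subset_closure ⟨_, h, rfl⟩)

theorem dualPin_opp {a : D.idx} (ha : a ∈ D.base.support) : (dualPin D).u (D.P.reflectionPerm a a) =
    H21Rank1.powScale 1 (dualScale D a) ≫ D.u (D.P.reflectionPerm a a) := by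
  refine (if_neg (opp_notMem_support D ha)).trans ?_
  have e : D.P.reflectionPerm (D.P.reflectionPerm a a) (D.P.reflectionPerm a a) = a :=
    D.P.root.injective (by rw [root_opp', root_opp', neg_neg])
  rw [e]

/-- the coroots read through the splitting -/
def avcOf (a : D.idx) : Red.Gm S ⟶ D.T :=
  Red.DSmap S (D.P.coroot a).toAddMonoidHom ≫ D.split.inv.hom.hom

theorem pairHyp_dualPin : PairHyp (dualPin D) (avcOf (dualPin D)) := by
  haveI : D.P.IsReduced := isReduced_of_base D.P D.base
  intro a ha X x y hu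
  obtain ⟨x', y', z, h1, h2, h3, h4⟩ := (exists_pairing D.toSplitRed a).choose_spec X x y hu
  refine ⟨x', y', z, h1, h2, h3, ?_⟩
  have e1 : (dualPin D).u ((dualPin D).P.reflectionPerm a a) =
      H21Rank1.powScale 1 (dualScale D a) ≫ D.u (D.P.reflectionPerm a a) := dualPin_opp D ha
  rw [e1, dualPin_u D ha]
  exact h4

/-- a pinned group has no endomorphism other than the identity fixing the torus and the simple root groups -/
theorem eq_id (θ : G ⟶ G) [IsMonHom θ] (hT : D.i ≫ θ = D.i) (hU : ∀ a ∈ D.base.support, D.u a ≫ θ = D.u a) :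
    θ = 𝟙 G := by
  haveI := D.fintypeIdx
  haveI : Finite D.idx := Finite.of_fintype _
  haveI : D.P.IsReduced := isReduced_of_base D.P D.base
  haveI := isAffineHom_hom D.toSplitRed
  have hU' : ∀ a ∈ D.base.support, (dualPin D).u a ≫ θ = (dualPin D).u a := fun a ha => by
    rw [dualPin_u D ha]; exact hU a ha
  haveI : (dualPin D).P.IsReduced := isReduced_of_base D.P D.base
  refine hom_ext_simple (dualPin D).toSplitRed D.base θ (𝟙 G) (hT.trans (Category.comp_id _).symm) fun a ha => ?_
  rw [Category.comp_id, Category.comp_id]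
  exact ⟨hU' a ha, fix_dual (dualPin D).toSplitRed θ D.base hT (hU' a ha) rfl (pairHyp_dualPin D a ha)⟩

variable {G' : Over S} [GrpObj G'] (D' : Red.Pinning G')

theorem coroot_weightMap (h : RootPairing.Equiv D'.P D.P) (a : D.idx) (m : D'.M) :
    D.P.coroot a (h.weightMap m) = D'.P.coroot (h.indexEquiv.symm a) m := by
  have h1 := LinearMap.congr_fun (LinearMap.congr_fun h.weight_coweight_transpose (D.P.coroot a)) m
  have h2 := congrFun h.coroot_coweightMap a
  simp only [Function.comp_apply] at h2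
  simp only [LinearMap.coe_comp, LinearEquiv.coe_coe, Function.comp_apply, LinearMap.dualMap_apply,
    LinearMap.toPerfPair_apply, h2] at h1
  rw [coroot_apply D.toSplitRed, coroot_apply D'.toSplitRed]
  exact h1

theorem root_weightMap (h : RootPairing.Equiv D'.P D.P) (a : D'.idx) :
    h.weightMap (D'.P.root a) = D.P.root (h.indexEquiv a) :=
  congrFun h.root_weightMap a

variable (h : RootPairing.Equiv D'.P D.P)
  (hΔ : ∀ a' : D'.idx, a' ∈ D'.base.support ↔ h.indexEquiv a' ∈ D.base.support)
  (e₁ : 𝟙_ (Over S) ⟶ Red.Ga S) (he₁ : Red.gaFn e₁ = 1)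

/-- an isomorphism of pinned root data, in one direction -/
def equivData : PData (dualPin D) (dualPin D') where
  e₁ := e₁
  he₁ := he₁
  avc := avcOf (dualPin D)
  havc _ := rfl
  hpair := pairHyp_dualPin D
  avc' := avcOf (dualPin D')
  havc' _ := rfl
  hpair' := pairHyp_dualPin D'
  p := 1
  hp0 := one_pos
  hp X a b := by simp
  hM := h.weightMap
  d := h.indexEquiv.symm
  q _ := 1
  hq _ := ⟨0, rfl⟩
  hroot (a : D.idx) := show h.weightMap (D'.P.root (h.indexEquiv.symm a)) = ((1 : ℕ) : ℤ) • D.P.root a by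
    rw [root_weightMap D D' h, Equiv.apply_symm_apply, Nat.cast_one, one_smul]
  hcoroot (a : D.idx) := LinearMap.ext fun m => show D.P.coroot a (h.weightMap m) =
      (((1 : ℕ) : ℤ) • D'.P.coroot (h.indexEquiv.symm a)) m by
    rw [coroot_weightMap D D' h, Nat.cast_one, one_smul]
  hΔ (a : D.idx) := show a ∈ D.base.support ↔ h.indexEquiv.symm a ∈ D'.base.support by
    rw [hΔ, Equiv.apply_symm_apply]

/-- an isomorphism of pinned root data, in the other direction -/
def equivData' : PData (dualPin D') (dualPin D) where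
  e₁ := e₁
  he₁ := he₁
  avc := avcOf (dualPin D')
  havc _ := rfl
  hpair := pairHyp_dualPin D'
  avc' := avcOf (dualPin D)
  havc' _ := rfl
  hpair' := pairHyp_dualPin D
  p := 1
  hp0 := one_pos
  hp X a b := by simp
  hM := (RootPairing.Equiv.weightEquiv D'.P D.P h).symm.toLinearMap
  d := h.indexEquiv
  q _ := 1
  hq _ := ⟨0, rfl⟩
  hroot (a : D'.idx) := show (RootPairing.Equiv.weightEquiv D'.P D.P h).symm (D.P.root (h.indexEquiv a)) =
      ((1 : ℕ) : ℤ) • D'.P.root a by
    rw [← root_weightMap D D' h, Nat.cast_one, one_smul]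
    exact RootPairing.Equiv.weightEquiv_symm_weightMap D'.P D.P h _
  hcoroot (a : D'.idx) := LinearMap.ext fun m => show
      D'.P.coroot a ((RootPairing.Equiv.weightEquiv D'.P D.P h).symm m) =
        (((1 : ℕ) : ℤ) • D.P.coroot (h.indexEquiv a)) m by
    have e := coroot_weightMap D D' h (h.indexEquiv a) ((RootPairing.Equiv.weightEquiv D'.P D.P h).symm m)
    rw [RootPairing.Equiv.weightMap_weightEquiv_symm, Equiv.symm_apply_apply] at e
    rw [Nat.cast_one, one_smul]
    exact e.symm
  hΔ (a : D'.idx) := hΔ a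

include hΔ in
/-- the isomorphism of pinned groups -/
theorem existsUnique_iso : ∃! f : G ≅ G', IsMonHom f.hom ∧
    D.i ≫ f.hom = D.split.hom.hom.hom ≫ Red.DSmap S h.weightMap.toAddMonoidHom ≫ D'.split.inv.hom.hom ≫ D'.i ∧
    ∀ a' : D'.idx, a' ∈ D'.base.support → D.u (h.indexEquiv a') ≫ f.hom = D'.u a' := by
  obtain ⟨e₁, he₁⟩ := gaFn_surjective (X := 𝟙_ (Over S)) 1
  obtain ⟨f, hf, -⟩ := (equivData D D' h hΔ e₁ he₁).existsUnique_isHomOf
  obtain ⟨g, hg, -⟩ := (equivData' D D' h hΔ e₁ he₁).existsUnique_isHomOf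
  obtain ⟨hfm, hfT, hfu⟩ := hf
  obtain ⟨hgm, hgT, hgu⟩ := hg
  haveI := hfm
  haveI := hgm
  have hw : ∀ m, (RootPairing.Equiv.weightEquiv D'.P D.P h).symm (h.weightMap m) = m :=
    RootPairing.Equiv.weightEquiv_symm_weightMap D'.P D.P h
  have hw' : ∀ m, h.weightMap ((RootPairing.Equiv.weightEquiv D'.P D.P h).symm m) = m :=
    RootPairing.Equiv.weightMap_weightEquiv_symm D'.P D.P h
  change D.i ≫ f = D.split.hom.hom.hom ≫ Red.DSmap S h.weightMap.toAddMonoidHom ≫
    D'.split.inv.hom.hom ≫ D'.i at hfT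
  change D'.i ≫ g = D'.split.hom.hom.hom ≫
    Red.DSmap S (RootPairing.Equiv.weightEquiv D'.P D.P h).symm.toLinearMap.toAddMonoidHom ≫
    D.split.inv.hom.hom ≫ D.i at hgT
  have hone : ∀ x : Red.Ga S ⟶ Red.Ga S, Red.gaFn x = Red.gaFn x ^ 1 := fun x => (pow_one _).symm
  have hfu' : ∀ a' ∈ D'.base.support, D.u (h.indexEquiv a') ≫ f = D'.u a' := fun a' ha' => by
    have ha := (hΔ a').mp ha'
    have h1 := (hfu (h.indexEquiv a') ha _ (𝟙 _) (𝟙 _) (hone _)).1
    change (𝟙 _ ≫ (dualPin D).u (h.indexEquiv a')) ≫ f =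
      𝟙 _ ≫ (dualPin D').u (h.indexEquiv.symm (h.indexEquiv a')) at h1
    rwa [Equiv.symm_apply_apply, dualPin_u D ha, dualPin_u D' ha', Category.id_comp, Category.id_comp] at h1
  have hgu' : ∀ a' ∈ D'.base.support, D'.u a' ≫ g = D.u (h.indexEquiv a') := fun a' ha' => by
    have h1 := (hgu a' ha' _ (𝟙 _) (𝟙 _) (hone _)).1
    change (𝟙 _ ≫ (dualPin D').u a') ≫ g = 𝟙 _ ≫ (dualPin D).u (h.indexEquiv a') at h1
    rwa [dualPin_u D ((hΔ a').mp ha'), dualPin_u D' ha', Category.id_comp, Category.id_comp] at h1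
  have hfg : f ≫ g = 𝟙 G := by
    refine eq_id D (f ≫ g) ?_ fun a ha => ?_
    · rw [reassoc_of% hfT, hgT, reassoc_of% (split_inv_hom D'.toSplitRed),
        ← Category.assoc (Red.DSmap S _) (Red.DSmap S _)]
      rw [H21Diag.DSmap_comp_eq_id _ _ (AddMonoidHom.ext hw'), Category.id_comp,
        reassoc_of% (split_hom_inv D.toSplitRed)]
    · obtain ⟨a', rfl⟩ := h.indexEquiv.surjective a
      rw [← Category.assoc, hfu' a' ((hΔ a').mpr ha), hgu' a' ((hΔ a').mpr ha)]
  have hgf : g ≫ f = 𝟙 G' := by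
    refine eq_id D' (g ≫ f) ?_ fun a ha => ?_
    · rw [reassoc_of% hgT, hfT, reassoc_of% (split_inv_hom D.toSplitRed),
        ← Category.assoc (Red.DSmap S _) (Red.DSmap S _)]
      rw [H21Diag.DSmap_comp_eq_id _ _ (AddMonoidHom.ext hw), Category.id_comp,
        reassoc_of% (split_hom_inv D'.toSplitRed)]
    · rw [← Category.assoc, hgu' a ha, hfu' a ha]
  refine ⟨⟨f, g, hfg, hgf⟩, ⟨hfm, hfT, hfu'⟩, ?_⟩
  rintro f' ⟨hm', hT', hu'⟩
  haveI := hm'
  refine Iso.ext ?_
  have hθ : f'.hom ≫ g = 𝟙 G := by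
    refine eq_id D (f'.hom ≫ g) ?_ fun a ha => ?_
    · rw [reassoc_of% hT', hgT, reassoc_of% (split_inv_hom D'.toSplitRed),
        ← Category.assoc (Red.DSmap S _) (Red.DSmap S _)]
      rw [H21Diag.DSmap_comp_eq_id _ _ (AddMonoidHom.ext hw'), Category.id_comp,
        reassoc_of% (split_hom_inv D.toSplitRed)]
    · obtain ⟨a', rfl⟩ := h.indexEquiv.surjective a
      rw [← Category.assoc, hu' a' ((hΔ a').mpr ha), hgu' a' ((hΔ a').mpr ha)]
  calc f'.hom = (f'.hom ≫ g) ≫ f := by rw [Category.assoc, hgf, Category.comp_id]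
    _ = f := by rw [hθ, Category.id_comp]

end Groth.Agent.H21Split.R3
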