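import Groth.Agent.H21Split.R3.Consist

/-!
The line of every root and the images of the root groups.
-/

open CategoryTheory MonoidalCategory CartesianMonoidalCategory MonObj GrpObj AlgebraicGeometry
open CategoryTheory.Limits
open Groth.Agent.H27Witt.GaCoord (gaFn_comp gaFn_surjective gaFn_injective gaFn_one gaFn_mul)
open Groth.Agent.H21Root (sr wl)

universe u

set_option backward.isDefEq.respectTransparency false
set_option linter.style.haveILetI false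
set_option linter.unusedSectionVars false
set_option linter.unusedVariables false
set_option synthInstance.maxHeartbeats 400000
set_option maxHeartbeats 400000

noncomputable section

namespace Groth.Agent.H21Split.R3

variable {S : Scheme.{u}} {G G' : Over S} [GrpObj G] [GrpObj G']

/-- the Weyl point of a simple root sends its root group to that of the opposite root -/
theorem weyl_conj_self (D₀ : Red.Pinning G) (e₁ : 𝟙_ (Over S) ⟶ Red.Ga S) (he₁ : Red.gaFn e₁ = 1) {a : D₀.idx}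
    {av : Red.Gm S ⟶ D₀.T} (hav : av = Red.DSmap S (D₀.P.coroot a).toAddMonoidHom ≫ D₀.split.inv.hom.hom)
    (h : ∀ (X : Over S) (x y : X ⟶ Red.Ga S), IsUnit (1 + Red.gaFn x * Red.gaFn y) →
      ∃ (x' y' : X ⟶ Red.Ga S) (z : X ⟶ Red.Gm S), Red.gmFn z = 1 + Red.gaFn x * Red.gaFn y ∧
        Red.gaFn x' * Red.gmFn z = Red.gaFn x ∧ Red.gaFn y' * Red.gmFn z = Red.gaFn y ∧
        (x ≫ D₀.u a) * (y ≫ D₀.u (D₀.P.reflectionPerm a a)) =
          (y' ≫ D₀.u (D₀.P.reflectionPerm a a)) * (z ≫ av ≫ D₀.i) * (x' ≫ D₀.u a))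
    {X : Over S} (x : X ⟶ Red.Ga S) :
    (toUnit X ≫ ((e₁ ≫ D₀.u a) * (e₁ ≫ D₀.u (D₀.P.reflectionPerm a a))⁻¹ * (e₁ ≫ D₀.u a))) * (x ≫ D₀.u a) *
      (toUnit X ≫ ((e₁ ≫ D₀.u a) * (e₁ ≫ D₀.u (D₀.P.reflectionPerm a a))⁻¹ * (e₁ ≫ D₀.u a)))⁻¹ =
      x⁻¹ ≫ D₀.u (D₀.P.reflectionPerm a a) := by
  haveI := isAffineHom_hom D₀.toSplitRed
  refine hom_ext_pt fun R _ g j => ?_
  rw [MonObj.comp_mul, MonObj.comp_mul, GrpObj.comp_inv, R2.comp_weyl D₀.toSplitRed g j e₁ he₁ a,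
    R2.comp_u D₀.toSplitRed g j, R2.comp_u D₀.toSplitRed g j,
    R2.hasN_self g D₀.toSplitRed (root_opp' D₀.toSplitRed a) (R2.dual_of_pair1 D₀.toSplitRed g hav h) R]
  congr 1
  rw [R2.gv_comp, R2.gv_comp, H21Rank1.gaFn_inv, map_neg, Algebra.algebraMap_self_apply, inv_one, Units.val_one,
    neg_mul, _root_.one_mul]
  exact (map_neg _ _).symm

theorem inv_inv_comp {X Y Z : Over S} [GrpObj Y] (x : X ⟶ Y) (f : Y ⟶ Z) : x⁻¹⁻¹ ≫ f = x ≫ f :=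
  congrArg (fun z => z ≫ f) (_root_.inv_inv x)

theorem inv_comp_inv_comp {X Y Z : Over S} [GrpObj Y] (x : X ⟶ Y) (f : Y ⟶ Y) [IsMonHom f] (k : Y ⟶ Z) :
    (x⁻¹ ≫ f)⁻¹ ≫ k = (x ≫ f) ≫ k :=
  congrArg (fun z => z ≫ k) (by rw [GrpObj.inv_comp, _root_.inv_inv])

/-- every point of a root group is a conjugate -/
theorem conj_root_surj (D₀ : Red.Pinning G) (a d : D₀.idx) (n : 𝟙_ (Over S) ⟶ G)
    (hn : ∀ (X : Over S) (t : X ⟶ D₀.T), (toUnit X ≫ n) * (t ≫ D₀.i) * (toUnit X ≫ n)⁻¹ =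
      t ≫ D₀.split.hom.hom.hom ≫ Red.DSmap S (D₀.P.reflection a).toLinearMap.toAddMonoidHom ≫
        D₀.split.inv.hom.hom ≫ D₀.i) {X : Over S} (y : X ⟶ Red.Ga S) :
    ∃ x : X ⟶ Red.Ga S, (toUnit X ≫ n) * (x ≫ D₀.u d) * (toUnit X ≫ n)⁻¹ = y ≫ D₀.u (D₀.P.reflectionPerm a d) := by
  have hn' : ∀ (X : Over S) (t : X ⟶ D₀.T), (toUnit X ≫ n⁻¹) * (t ≫ D₀.i) * (toUnit X ≫ n⁻¹)⁻¹ =
      t ≫ D₀.split.hom.hom.hom ≫ Red.DSmap S (D₀.P.reflection a).toLinearMap.toAddMonoidHom ≫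
        D₀.split.inv.hom.hom ≫ D₀.i := by
    intro X t
    have h := hn X (t ≫ R2.phi D₀.toSplitRed a)
    have e : (t ≫ R2.phi D₀.toSplitRed a) ≫ D₀.split.hom.hom.hom ≫
        Red.DSmap S (D₀.P.reflection a).toLinearMap.toAddMonoidHom ≫ D₀.split.inv.hom.hom ≫ D₀.i = t ≫ D₀.i := by
      have h2 := congrArg (fun f => t ≫ f ≫ D₀.i) (R2.phi_phi D₀.toSplitRed a)
      simpa only [R2.phi, Category.assoc, Category.id_comp] using h2
    rw [e] at h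
    rw [GrpObj.comp_inv, _root_.inv_inv, ← h]
    simp only [R2.phi, Category.assoc]
    group
  obtain ⟨x, hx⟩ := PData.conj_root D₀ a (D₀.P.reflectionPerm a d) n⁻¹ hn' y
  rw [D₀.P.reflectionPerm_self, GrpObj.comp_inv, _root_.inv_inv] at hx
  exact ⟨x, by rw [← hx]; group⟩

namespace PData

variable {D : Red.Pinning G} {D' : Red.Pinning G'} (Φ : PData D D')

/-- every point of the root group is the first component of a member -/
def Onto (ℓ : Line D D') (c : D.idx) : Prop :=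
  ∀ (X : Over S) (y : X ⟶ Red.Ga S), ∃ z ∈ ℓ X, z.1 = y ≫ D.u c

/-- a member is determined by its first component -/
def Det (ℓ : Line D D') : Prop := ∀ (X : Over S), ∀ z ∈ ℓ X, ∀ w ∈ ℓ X, z.1 = w.1 → z = w

/-- closed under products -/
def MulC (ℓ : Line D D') : Prop := ∀ (X : Over S), ∀ z ∈ ℓ X, ∀ w ∈ ℓ X, z * w ∈ ℓ X

/-- closed under restriction -/
def PullC (ℓ : Line D D') : Prop :=
  ∀ (X Y : Over S) (f : Y ⟶ X), ∀ z ∈ ℓ X, Sys.pull f z ∈ ℓ Y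

theorem onto_base (a : D.idx) : Onto (Φ.base a) a := fun X y => ⟨_, ⟨y, rfl⟩, rfl⟩

theorem det_base (a : D.idx) : Det (Φ.base a) := by
  rintro X _ ⟨x, rfl⟩ _ ⟨y, rfl⟩ h
  haveI := mono_u D.toSplitRed a
  exact congrArg (Φ.L a) ((cancel_mono (D.u a)).mp h)

theorem mulC_base (a : D.idx) : MulC (Φ.base a) := by
  rintro X _ ⟨x, rfl⟩ _ ⟨y, rfl⟩
  exact ⟨x * y, Φ.L_mul a x y⟩

theorem pullC_base (a : D.idx) : PullC (Φ.base a) := by
  rintro X Y f _ ⟨x, rfl⟩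
  exact ⟨f ≫ x, (Φ.pull_L a f x).symm⟩

theorem Det.cl {ℓ : Line D D'} (h : Det ℓ) (W : (𝟙_ (Over S) ⟶ G) × (𝟙_ (Over S) ⟶ G')) : Det (PData.cl W ℓ) := by
  rintro X _ ⟨z, hz, rfl⟩ _ ⟨w, hw, rfl⟩ e
  exact congrArg (cjp W) (h X z hz w hw (mul_left_cancel (mul_right_cancel (e :
    (Sys.pull (toUnit X) W).1 * z.1 * (Sys.pull (toUnit X) W).1⁻¹ =
      (Sys.pull (toUnit X) W).1 * w.1 * (Sys.pull (toUnit X) W).1⁻¹))))

theorem MulC.cl {ℓ : Line D D'} (h : MulC ℓ) (W : (𝟙_ (Over S) ⟶ G) × (𝟙_ (Over S) ⟶ G')) :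
    MulC (PData.cl W ℓ) := by
  rintro X _ ⟨z, hz, rfl⟩ _ ⟨w, hw, rfl⟩
  exact ⟨z * w, h X z hz w hw, (conj_mul3 _ _ _).symm⟩

theorem PullC.cl {ℓ : Line D D'} (h : PullC ℓ) (W : (𝟙_ (Over S) ⟶ G) × (𝟙_ (Over S) ⟶ G')) :
    PullC (PData.cl W ℓ) := by
  rintro X Y f _ ⟨z, hz, rfl⟩
  refine ⟨_, h X Y f z hz, ?_⟩
  rw [map_mul, map_mul, map_inv]
  have e : Sys.pull f (Sys.pull (toUnit X) W) = Sys.pull (toUnit Y) W := by
    simp only [Sys.pull_apply, ← Category.assoc, toUnit_unique (f ≫ toUnit X) (toUnit Y)]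
  rw [e]

theorem onto_cl_W {ℓ : Line D D'} {c : D.idx} (h : Onto ℓ c) {a : D.idx} (ha : a ∈ D.base.support) :
    Onto (cl (Φ.W a) ℓ) (D.P.reflectionPerm a c) := fun X y => by
  obtain ⟨x, hx⟩ := conj_root_surj D a c _
    (weyl_acts D.toSplitRed Φ.e₁ Φ.he₁ a (Φ.avc a) (Φ.havc a) (Φ.hpair a ha)) y
  obtain ⟨z, hz, hz'⟩ := h X x
  refine ⟨cjp (Φ.W a) z, ⟨z, hz, rfl⟩, ?_⟩
  rw [← hx, ← hz']
  rfl

theorem onto_wW {a : D.idx} : ∀ l : List D.idx, IsWord D l → Onto (cl (Φ.wW l) (Φ.base a)) (wl D.P l • a)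
  | [], _ => by simpa [wW, cl_one, Groth.Agent.H21Root.wl] using Φ.onto_base a
  | t :: l, h => by
    rw [wW_cons, cl_mul, Groth.Agent.H21Root.wl_cons, mul_smul, Groth.Agent.H21Root.sr_smul]
    exact Φ.onto_cl_W (onto_wW l fun c hc => h c (List.mem_cons_of_mem t hc)) (h t List.mem_cons_self)

theorem rl_wW {a : D.idx} : ∀ l : List D.idx, IsWord D l →
    ∃ c', RL (cl (Φ.wW l) (Φ.base a)) (wl D.P l • a) c'
  | [], _ => ⟨Φ.d a, by simpa [wW, cl_one, Groth.Agent.H21Root.wl] using Φ.rl_base a⟩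
  | t :: l, h => by
    obtain ⟨c', hc'⟩ := rl_wW l fun c hc => h c (List.mem_cons_of_mem t hc)
    refine ⟨D'.P.reflectionPerm (Φ.d t) c', ?_⟩
    rw [wW_cons, cl_mul, Groth.Agent.H21Root.wl_cons, mul_smul, Groth.Agent.H21Root.sr_smul]
    exact hc'.cl_W (h t List.mem_cons_self)

variable [Finite D.idx] [D.P.IsReduced]

theorem exists_presentation (c : D.idx) : ∃ p : List D.idx × D.idx, IsWord D p.1 ∧ p.2 ∈ D.base.support ∧
    wl D.P p.1 • p.2 = c := by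
  haveI : Module.IsReflexive ℤ D.M := .of_isPerfPair D.P.toLinearMap
  haveI : IsAddTorsionFree D.M := .of_isTorsionFree ℤ D.M
  have hind : RootD.IsIndiv D.P c := fun j h => by
    refine D.P.nsmul_notMem_range_root (n := 2) (i := j) ⟨c, ?_⟩
    rw [← h, two_nsmul, two_smul]
  obtain ⟨w, hw, a, ha, he⟩ := (zD D).exists_smul_eq hind
  obtain ⟨l, hl, rfl⟩ := Groth.Agent.H21Root.exists_word D.P hw
  exact ⟨(l, a), hl, ha, he⟩

/-- the line of a root -/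
def line (c : D.idx) : Line D D' :=
  cl (Φ.wW (exists_presentation c).choose.1) (Φ.base (exists_presentation c).choose.2)

theorem line_eq {c a : D.idx} {l : List D.idx} (hl : IsWord D l) (ha : a ∈ D.base.support) (h : wl D.P l • a = c) :
    cl (Φ.wW l) (Φ.base a) = Φ.line c :=
  Φ.cl_eq_of_smul_eq hl (exists_presentation c).choose_spec.1 ha (exists_presentation c).choose_spec.2.1
    (h.trans (exists_presentation c).choose_spec.2.2.symm)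

theorem line_simple {a : D.idx} (ha : a ∈ D.base.support) : Φ.line a = Φ.base a :=
  (Φ.line_eq (l := []) (by simp [IsWord]) ha (by simp [Groth.Agent.H21Root.wl])).symm.trans (cl_one _)

theorem line_onto (c : D.idx) : Onto (Φ.line c) c := by
  obtain ⟨hl, -, he⟩ := (exists_presentation c).choose_spec
  have h := Φ.onto_wW (a := (exists_presentation c).choose.2) _ hl
  rwa [he] at h

theorem line_fst (c : D.idx) {X : Over S} {z : (X ⟶ G) × (X ⟶ G')} (hz : z ∈ Φ.line c X) :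
    ∃ y : X ⟶ Red.Ga S, z.1 = y ≫ D.u c := by
  obtain ⟨hl, -, he⟩ := (exists_presentation c).choose_spec
  obtain ⟨c', h⟩ := Φ.rl_wW (a := (exists_presentation c).choose.2) _ hl
  rw [he] at h
  exact (h X z hz).1

theorem line_det (c : D.idx) : Det (Φ.line c) := (Φ.det_base _).cl _

theorem line_mulC (c : D.idx) : MulC (Φ.line c) := (Φ.mulC_base _).cl _

theorem line_pullC (c : D.idx) : PullC (Φ.line c) := (Φ.pullC_base _).cl _

/-- the image of a root group -/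
def φ (c : D.idx) : Red.Ga S ⟶ G' := (Φ.line_onto c (Red.Ga S) (𝟙 _)).choose.2

theorem pair_mem (c : D.idx) {X : Over S} (x : X ⟶ Red.Ga S) :
    ((x ≫ D.u c, x ≫ Φ.φ c) : (X ⟶ G) × (X ⟶ G')) ∈ Φ.line c X := by
  obtain ⟨h1, h2⟩ := (Φ.line_onto c (Red.Ga S) (𝟙 _)).choose_spec
  have h := Φ.line_pullC c _ _ x _ h1
  rw [Sys.pull_apply] at h
  have e : x ≫ (Φ.line_onto c (Red.Ga S) (𝟙 _)).choose.1 = x ≫ D.u c :=
    (congrArg (fun f => x ≫ f) h2).trans (by rw [Category.id_comp])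
  exact (Prod.ext e rfl : ((x ≫ (Φ.line_onto c (Red.Ga S) (𝟙 _)).choose.1, x ≫ Φ.φ c) :
    (X ⟶ G) × (X ⟶ G')) = (x ≫ D.u c, x ≫ Φ.φ c)) ▸ h

theorem eq_pair (c : D.idx) {X : Over S} {z : (X ⟶ G) × (X ⟶ G')} (hz : z ∈ Φ.line c X) (x : X ⟶ Red.Ga S)
    (h : z.1 = x ≫ D.u c) : z = (x ≫ D.u c, x ≫ Φ.φ c) :=
  Φ.line_det c X z hz _ (Φ.pair_mem c x) h

theorem mem_line_iff (c : D.idx) {X : Over S} {z : (X ⟶ G) × (X ⟶ G')} :
    z ∈ Φ.line c X ↔ ∃ x : X ⟶ Red.Ga S, z = (x ≫ D.u c, x ≫ Φ.φ c) :=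
  ⟨fun hz => by obtain ⟨x, hx⟩ := Φ.line_fst c hz; exact ⟨x, Φ.eq_pair c hz x hx⟩,
    fun ⟨x, hx⟩ => hx ▸ Φ.pair_mem c x⟩

instance isMonHom_φ (c : D.idx) : IsMonHom (Φ.φ c) :=
  H21Diag.isMonHom_of_mul _ fun {Y} x y => by
    have h := Φ.eq_pair c (Φ.line_mulC c Y _ (Φ.pair_mem c x) _ (Φ.pair_mem c y)) (x * y)
      (MonObj.mul_comp x y (D.u c)).symm
    exact (congrArg Prod.snd h).symm

/-- the system of pairs -/
def sys : Sys D.toSplitRed G' where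
  φ := Φ.φ
  hφ c := Φ.isMonHom_φ c
  fT := Φ.fT₀ ≫ D'.i
  hfT := inferInstance

theorem sys_U (c : D.idx) {X : Over S} (x : X ⟶ Red.Ga S) : Φ.sys.U c x = (x ≫ D.u c, x ≫ Φ.φ c) := rfl

theorem sys_Tt {X : Over S} (t : X ⟶ D.T) : Φ.sys.Tt t = Φ.T2 t :=
  Prod.ext rfl (Category.assoc _ _ _).symm

theorem U_simple {a : D.idx} (ha : a ∈ D.base.support) {X : Over S} (x : X ⟶ Red.Ga S) :
    Φ.sys.U a x = Φ.L a x :=
  (Φ.eq_pair a (z := Φ.L a x) (by rw [Φ.line_simple ha]; exact ⟨x, rfl⟩) x rfl).symm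

theorem U_opp {a : D.idx} (ha : a ∈ D.base.support) {X : Over S} (x : X ⟶ Red.Ga S) :
    Φ.sys.U (D.P.reflectionPerm a a) x = Φ.Ln a x := by
  have hl : cl (Φ.wW [a]) (Φ.base a) = Φ.line (D.P.reflectionPerm a a) :=
    Φ.line_eq (fun c hc => (List.mem_singleton.mp hc).symm ▸ ha) ha
      (by rw [Groth.Agent.H21Root.wl_singleton]; rfl)
  refine (Φ.eq_pair _ (z := Φ.Ln a x) ?_ x rfl).symm
  rw [← hl, wW_one]
  refine ⟨Φ.L a x⁻¹, ⟨_, rfl⟩, Prod.ext ?_ ?_⟩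
  · refine (weyl_conj_self D Φ.e₁ Φ.he₁ (Φ.havc a) (Φ.hpair a ha) x⁻¹).trans ?_
    exact inv_inv_comp x _
  · refine (weyl_conj_self D' Φ.e₁ Φ.he₁ (Φ.havc' (Φ.d a)) (Φ.hpair' _ ((Φ.hΔ a).mp ha)) (x⁻¹ ≫ Φ.fr a)).trans ?_
    haveI : IsMonHom (Φ.fr a) := Φ.isMonHom_fr a
    exact inv_comp_inv_comp x (Φ.fr a) _

end PData

end Groth.Agent.H21Split.R3
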