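import Groth.Agent.H21Split.R3.Tables

/-!
The tables of simple roots of type B₂, with the type preserved or exchanged.
-/

open CategoryTheory MonoidalCategory CartesianMonoidalCategory MonObj GrpObj AlgebraicGeometry
open CategoryTheory.Limits
open Groth.Agent.H27Witt.GaCoord (gaFn_comp gaFn_surjective gaFn_injective gaFn_one gaFn_mul)

universe u

set_option backward.isDefEq.respectTransparency false
set_option linter.style.haveILetI false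
set_option linter.unusedSectionVars false
set_option linter.unusedVariables false
set_option synthInstance.maxHeartbeats 400000
set_option maxHeartbeats 400000

noncomputable section

namespace Groth.Agent.H21Split.R3

variable {S : Scheme.{u}} {G G' : Over S} [GrpObj G] [GrpObj G']

/-- a sum of two members of a span of type B₂ is not a root, twice a root included -/
theorem sum_notMem2 {G₀ : Over S} [GrpObj G₀] (D₀ : Red.Pinning G₀) {a s : D₀.idx} (ha : a ∈ D₀.base.support)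
    (hs : s ∈ D₀.base.support) (hA : D₀.P.pairing s a = -2) (hB : D₀.P.pairing a s = -1) {c c' : D₀.idx}
    {i j k l : ℤ} (hc : D₀.P.root c = i • D₀.P.root a + j • D₀.P.root s)
    (hc' : D₀.P.root c' = k • D₀.P.root a + l • D₀.P.root s)
    (hn : 1 ≤ i + k ∧ 1 ≤ j + l ∧ ¬((i + k = 1 ∧ j + l = 1) ∨ (i + k = 2 ∧ j + l = 1))) :
    D₀.P.root c + D₀.P.root c' ≠ 0 ∧ D₀.P.root c + D₀.P.root c' ∉ Set.range D₀.P.root := by
  haveI := D₀.fintypeIdx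
  haveI : Finite D₀.idx := Finite.of_fintype _
  have e : D₀.P.root c + D₀.P.root c' = (i + k) • D₀.P.root a + (j + l) • D₀.P.root s := by rw [hc, hc']; module
  rw [e]
  by_cases h22 : i + k = 2 ∧ j + l = 2
  · rw [h22.1, h22.2]
    obtain ⟨he, -, -, -⟩ := PData.roots_span D₀.toSplitRed hA hB
    have e2 : (2 : ℤ) • D₀.P.root a + (2 : ℤ) • D₀.P.root s = (2 : ℤ) • D₀.P.root (D₀.P.reflectionPerm s a) := by
      rw [he]; module
    refine ⟨fun h => ?_, by rw [e2]; exact two_smul_root_notMem D₀.toSplitRed D₀.base _⟩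
    have := R2.comb_eq_zero D₀.P hA hB (by norm_num) h
    omega
  · refine comb_notMem D₀ ha hs hA hB (by norm_num) hn.1 hn.2.1 fun h => ?_
    simp only [R2.IsPosRootCoord] at h
    omega

theorem comm_swap_aux {M : Type*} [Group M] {a b U V : M} (h : b * a = a * b * U * V) :
    a * b = b * a * (V⁻¹ * U⁻¹) := by
  rw [h]; group

namespace PData

variable {D : Red.Pinning G} {D' : Red.Pinning G'} (Φ : PData D D')

/-- the first components of the Weyl pairs -/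
abbrev w (c : D.idx) : 𝟙_ (Over S) ⟶ G :=
  (Φ.e₁ ≫ D.u c) * (Φ.e₁ ≫ D.u (D.P.reflectionPerm c c))⁻¹ * (Φ.e₁ ≫ D.u c)

/-- the Weyl points of the target -/
abbrev w' (c : D'.idx) : 𝟙_ (Over S) ⟶ G' :=
  (Φ.e₁ ≫ D'.u c) * (Φ.e₁ ≫ D'.u (D'.P.reflectionPerm c c))⁻¹ * (Φ.e₁ ≫ D'.u c)

theorem L_snd {a s : D.idx} (hq : Φ.q a = Φ.q s) {X : Over S} (y : X ⟶ Red.Ga S) :
    (Φ.L s y).2 = (y ≫ Φ.fr a) ≫ D'.u (Φ.d s) := by rw [Φ.fr_eq hq]; rfl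

theorem CommT.of_commute {tb : List (D.idx × Line D D')} {e e' : D.idx × Line D D'}
    (h : ∀ (X : Over S), ∀ z ∈ e.2 X, ∀ w ∈ e'.2 X, z.1 * w.1 = w.1 * z.1 ∧ z.2 * w.2 = w.2 * z.2) :
    CommT tb e e' := fun X z hz w hw => by
  have hzw : z * w = w * z := Prod.ext (h X z hz w hw).1 (h X z hz w hw).2
  rw [hzw, mul_inv_cancel_right, mul_inv_cancel]
  exact one_mem _

variable {a s : D.idx} (ha : a ∈ D.base.support) (hs : s ∈ D.base.support) (hne : a ≠ s)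
  (hA : D.P.pairing s a = -2) (hB : D.P.pairing a s = -1)
include ha hs hne hA hB

/-- the parts of the table of type B₂ which concern `G` only -/
theorem table_two_of (hstepA : cl (Φ.W a) (cl (Φ.wW [s]) (Φ.base a)) ≤ cl (Φ.wW [s]) (Φ.base a))
    (hstepS : cl (Φ.W s) (cl (Φ.wW [a]) (Φ.base s)) ≤ cl (Φ.wW [a]) (Φ.base s))
    (has : CommT (Φ.tbl2 a s) (s, Φ.base s) (a, Φ.base a))
    (hea : CommT (Φ.tbl2 a s) (D.P.reflectionPerm s a, cl (Φ.wW [s]) (Φ.base a)) (a, Φ.base a))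
    (haf : CommT (Φ.tbl2 a s) (a, Φ.base a) (D.P.reflectionPerm a s, cl (Φ.wW [a]) (Φ.base s)))
    (hse : CommT (Φ.tbl2 a s) (s, Φ.base s) (D.P.reflectionPerm s a, cl (Φ.wW [s]) (Φ.base a)))
    (hsf : CommT (Φ.tbl2 a s) (s, Φ.base s) (D.P.reflectionPerm a s, cl (Φ.wW [a]) (Φ.base s)))
    (hef : CommT (Φ.tbl2 a s) (D.P.reflectionPerm s a, cl (Φ.wW [s]) (Φ.base a))
      (D.P.reflectionPerm a s, cl (Φ.wW [a]) (Φ.base s))) : Φ.Table a s (Φ.tbl2 a s) := by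
  haveI := D.fintypeIdx
  haveI : Finite D.idx := Finite.of_fintype _
  obtain ⟨re, re2, rf, rf2⟩ := roots_span D.toSplitRed hA hB
  have hee : D.P.reflectionPerm a (D.P.reflectionPerm s a) = D.P.reflectionPerm s a :=
    D.P.root.injective (by rw [re, re2]; norm_num)
  have hff : D.P.reflectionPerm s (D.P.reflectionPerm a s) = D.P.reflectionPerm a s :=
    D.P.root.injective (by rw [rf, rf2]; norm_num)
  refine ⟨by simp [tbl2], by simp [tbl2], ?_, ?_, ?_, ?_, ?_⟩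
  · rintro r ⟨hr, i, j, hij⟩
    rcases mem_span_pos D ha hs hne (m := 2) hA hB (by norm_num) hr hij with ⟨rfl, rfl⟩ | ⟨rfl, rfl⟩ | h
    · exact ⟨(a, Φ.base a), by simp [tbl2], D.P.root.injective (by simp [hij])⟩
    · exact ⟨(s, Φ.base s), by simp [tbl2], D.P.root.injective (by simp [hij])⟩
    · rcases h with ⟨rfl, rfl⟩ | ⟨-, rfl, rfl⟩ | ⟨-, rfl, rfl⟩ | ⟨h, -⟩
      · exact ⟨(D.P.reflectionPerm s a, cl (Φ.wW [s]) (Φ.base a)), by simp [tbl2],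
          D.P.root.injective (re.trans hij.symm)⟩
      · exact ⟨(D.P.reflectionPerm a s, cl (Φ.wW [a]) (Φ.base s)), by simp [tbl2],
          D.P.root.injective (rf.trans hij.symm)⟩
      · refine absurd ⟨r, ?_⟩ (two_smul_root_notMem D.toSplitRed D.base (D.P.reflectionPerm s a))
        rw [re, hij]; module
      · norm_num at h
  · intro e he
    simp only [tbl2, List.mem_cons, List.not_mem_nil, or_false] at he
    rcases he with rfl | rfl | rfl | rfl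
    exacts [⟨[], a, by simp, Or.inl rfl, rfl, Φ.word_base a⟩, ⟨[], s, by simp, Or.inr rfl, rfl, Φ.word_base s⟩,
      ⟨[s], a, by simp, Or.inl rfl, by simp, rfl⟩, ⟨[a], s, by simp, Or.inr rfl, by simp, rfl⟩]
  · intro t ht e he hne'
    simp only [tbl2, List.mem_cons, List.not_mem_nil, or_false] at he
    rcases ht with ht | ht <;> subst t <;> rcases he with rfl | rfl | rfl | rfl
    · exact absurd rfl hne'
    · exact ⟨(D.P.reflectionPerm a s, cl (Φ.wW [a]) (Φ.base s)), by simp [tbl2], rfl, by rw [wW_one]⟩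
    · exact ⟨(D.P.reflectionPerm s a, cl (Φ.wW [s]) (Φ.base a)), by simp [tbl2], hee.symm, hstepA⟩
    · exact ⟨(s, Φ.base s), by simp [tbl2], (D.P.reflectionPerm_self a s).symm,
        (Φ.cl_sq_word ha [] (by simp) s).trans (cl_one _).le⟩
    · exact ⟨(D.P.reflectionPerm s a, cl (Φ.wW [s]) (Φ.base a)), by simp [tbl2], rfl, by rw [wW_one]⟩
    · exact absurd rfl hne'
    · exact ⟨(a, Φ.base a), by simp [tbl2], (D.P.reflectionPerm_self s a).symm,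
        (Φ.cl_sq_word hs [] (by simp) a).trans (cl_one _).le⟩
    · exact ⟨(D.P.reflectionPerm a s, cl (Φ.wW [a]) (Φ.base s)), by simp [tbl2], hff.symm, hstepS⟩
  · intro e he e' he' hne'
    simp only [tbl2, List.mem_cons, List.not_mem_nil, or_false] at he he'
    rcases he with rfl | rfl | rfl | rfl <;> rcases he' with rfl | rfl | rfl | rfl
    exacts [absurd rfl hne', has.symm, hea.symm, haf, has, absurd rfl hne', hse, hsf, hea, hse.symm, absurd rfl hne',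
      hef, haf.symm, hsf.symm, hef.symm, absurd rfl hne']
  · intro e he
    simp only [tbl2, List.mem_cons, List.not_mem_nil, or_false] at he
    have hn := ne_simples D ha hs hne (m := 2) hA hB (by norm_num) re one_ne_zero one_ne_zero
    have hn2 := ne_simples D ha hs hne (m := 2) hA hB (by norm_num) rf (by norm_num) one_ne_zero
    rcases he with rfl | rfl | rfl | rfl
    exacts [⟨fun _ => rfl, fun h => absurd h hne⟩, ⟨fun h => absurd h hne.symm, fun _ => rfl⟩,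
      ⟨fun h => absurd h hn.1, fun h => absurd h hn.2⟩, ⟨fun h => absurd h hn2.1, fun h => absurd h hn2.2⟩]

set_option maxHeartbeats 1000000 in
/-- type B₂ preserved -/
theorem table_two (hA' : D'.P.pairing (Φ.d s) (Φ.d a) = -2) (hB' : D'.P.pairing (Φ.d a) (Φ.d s) = -1)
    (hq : Φ.q a = Φ.q s) : Φ.Table a s (Φ.tbl2 a s) := by
  obtain ⟨re, -, rf, -⟩ := roots_span D.toSplitRed hA hB
  obtain ⟨re', -, rf', -⟩ := roots_span D'.toSplitRed hA' hB'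
  have ra : D.P.root a = (1 : ℤ) • D.P.root a + (0 : ℤ) • D.P.root s := by simp
  have rs : D.P.root s = (0 : ℤ) • D.P.root a + (1 : ℤ) • D.P.root s := by simp
  have ra' : D'.P.root (Φ.d a) = (1 : ℤ) • D'.P.root (Φ.d a) + (0 : ℤ) • D'.P.root (Φ.d s) := by simp
  have rs' : D'.P.root (Φ.d s) = (0 : ℤ) • D'.P.root (Φ.d a) + (1 : ℤ) • D'.P.root (Φ.d s) := by simp
  have haP := (Φ.hΔ a).mp ha
  have hsP := (Φ.hΔ s).mp hs
  have hneP : Φ.d a ≠ Φ.d s := fun e => hne (Φ.d.injective e)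
  have hfr := Φ.fr_eq hq
  have t := fun X x nx h => S8485.result S Φ.e₁ Φ.he₁ G D Φ.avc Φ.havc Φ.hpair Φ.w (fun _ => rfl) a s ha hs hne hA hB
    (fun X x => (toUnit X ≫ Φ.w s) * (x ≫ D.u a) * (toUnit X ≫ Φ.w s)⁻¹) (fun _ _ => rfl)
    (fun X x => (toUnit X ≫ Φ.w a) * (x ≫ D.u s) * (toUnit X ≫ Φ.w a)⁻¹) (fun _ _ => rfl) X x nx h
  have t' := fun X x nx h => S8485.result S Φ.e₁ Φ.he₁ G' D' Φ.avc' Φ.havc' Φ.hpair' Φ.w' (fun _ => rfl) _ _ haP hsP hneP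
    hA' hB' (fun X x => (toUnit X ≫ Φ.w' (Φ.d s)) * (x ≫ D'.u (Φ.d a)) * (toUnit X ≫ Φ.w' (Φ.d s))⁻¹) (fun _ _ => rfl)
    (fun X x => (toUnit X ≫ Φ.w' (Φ.d a)) * (x ≫ D'.u (Φ.d s)) * (toUnit X ≫ Φ.w' (Φ.d a))⁻¹) (fun _ _ => rfl) X x nx h
  have c := fun X x y xy xxy txy h1 h2 h3 => S8464.result S Φ.e₁ Φ.he₁ G D Φ.avc Φ.havc Φ.hpair Φ.w (fun _ => rfl) a s
    ha hs hne hA hB (fun X x => (toUnit X ≫ Φ.w s) * (x ≫ D.u a) * (toUnit X ≫ Φ.w s)⁻¹) (fun _ _ => rfl)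
    (fun X x => (toUnit X ≫ Φ.w a) * (x ≫ D.u s) * (toUnit X ≫ Φ.w a)⁻¹) (fun _ _ => rfl) X x y xy xxy txy h1 h2 h3
  have c' := fun X x y xy xxy txy h1 h2 h3 => S8464.result S Φ.e₁ Φ.he₁ G' D' Φ.avc' Φ.havc' Φ.hpair' Φ.w' (fun _ => rfl)
    _ _ haP hsP hneP hA' hB'
    (fun X x => (toUnit X ≫ Φ.w' (Φ.d s)) * (x ≫ D'.u (Φ.d a)) * (toUnit X ≫ Φ.w' (Φ.d s))⁻¹) (fun _ _ => rfl)
    (fun X x => (toUnit X ≫ Φ.w' (Φ.d a)) * (x ≫ D'.u (Φ.d s)) * (toUnit X ≫ Φ.w' (Φ.d a))⁻¹) (fun _ _ => rfl)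
    X x y xy xxy txy h1 h2 h3
  have e2 : ∀ {X : Over S} {x y z : X ⟶ Red.Ga S}, Red.gaFn z = Red.gaFn x ^ 2 * Red.gaFn y →
      Red.gaFn (z ≫ Φ.fr a) = Red.gaFn (x ≫ Φ.fr a) ^ 2 * Red.gaFn (y ≫ Φ.fr a) := fun h => by
    simp only [gaFn_fr, h, mul_pow, pow_right_comm _ 2]
  have e3 : ∀ {X : Over S} {x y z : X ⟶ Red.Ga S}, Red.gaFn z = 2 * Red.gaFn x * Red.gaFn y →
      Red.gaFn (z ≫ Φ.fr a) = 2 * Red.gaFn (x ≫ Φ.fr a) * Red.gaFn (y ≫ Φ.fr a) := fun {X x y z} h => by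
    simp only [gaFn_fr, h, mul_pow]
    have := Φ.natCast_pow_q a X 2
    rw [Nat.cast_ofNat] at this
    rw [this]
  have hsa : CommT (Φ.tbl2 a s) (s, Φ.base s) (a, Φ.base a) := by
    refine CommT.of_eq (Φ.invC_base s) (Φ.invC_base a) ?_
    rintro X _ ⟨y, rfl⟩ _ ⟨x, rfl⟩
    obtain ⟨xy, hxy⟩ := gaFn_surjective (X := X) (Red.gaFn x * Red.gaFn y)
    obtain ⟨xxy, hxxy⟩ := gaFn_surjective (X := X) (Red.gaFn x ^ 2 * Red.gaFn y)
    obtain ⟨txy, htxy⟩ := gaFn_surjective (X := X) (2 * Red.gaFn x * Red.gaFn y)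
    refine ⟨cjp (Φ.W s) (Φ.L a xy) * cjp (Φ.W a) (Φ.L s xxy), mul_mem ?_ ?_, Prod.ext ?_ ?_⟩
    · exact mem_entries (e := (D.P.reflectionPerm s a, cl (Φ.wW [s]) (Φ.base a))) (by simp [tbl2]) 1 1 le_rfl le_rfl
        (by rw [re]; module) (by rw [wW_one]; exact ⟨_, ⟨xy, rfl⟩, rfl⟩)
    · exact mem_entries (e := (D.P.reflectionPerm a s, cl (Φ.wW [a]) (Φ.base s))) (by simp [tbl2]) 1 2 le_rfl
        one_le_two (by rw [rf]; module) (by rw [wW_one]; exact ⟨_, ⟨xxy, rfl⟩, rfl⟩)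
    · exact ((c X x y xy xxy txy hxy hxxy htxy).1).trans (_root_.mul_assoc _ _ _)
    · have h := (c' X (x ≫ Φ.fr a) (y ≫ Φ.fr a) (xy ≫ Φ.fr a) (xxy ≫ Φ.fr a) (txy ≫ Φ.fr a) (Φ.fr_mul a hxy)
        (e2 hxxy) (e3 htxy)).1
      rw [hfr] at h
      simp only [Prod.snd_mul, L, hfr]
      exact h.trans (_root_.mul_assoc _ _ _)
  have hea : CommT (Φ.tbl2 a s) (D.P.reflectionPerm s a, cl (Φ.wW [s]) (Φ.base a)) (a, Φ.base a) := by
    refine CommT.of_eq ((Φ.invC_base a).cl _) (Φ.invC_base a) ?_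
    rintro X _ ⟨_, ⟨y, rfl⟩, rfl⟩ _ ⟨x, rfl⟩
    obtain ⟨xy, hxy⟩ := gaFn_surjective (X := X) (Red.gaFn x * Red.gaFn y)
    obtain ⟨xxy, hxxy⟩ := gaFn_surjective (X := X) (Red.gaFn x ^ 2 * Red.gaFn y)
    obtain ⟨txy, htxy⟩ := gaFn_surjective (X := X) (2 * Red.gaFn x * Red.gaFn y)
    refine ⟨cjp (Φ.W a) (Φ.L s txy), ?_, Prod.ext ?_ ?_⟩
    · exact mem_entries (e := (D.P.reflectionPerm a s, cl (Φ.wW [a]) (Φ.base s))) (by simp [tbl2]) 1 1 le_rfl le_rfl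
        (by rw [rf, re]; module) (by rw [wW_one]; exact ⟨_, ⟨txy, rfl⟩, rfl⟩)
    · rw [wW_one]
      exact (c X x y xy xxy txy hxy hxxy htxy).2
    · rw [wW_one]
      have h := (c' X (x ≫ Φ.fr a) (y ≫ Φ.fr a) (xy ≫ Φ.fr a) (xxy ≫ Φ.fr a) (txy ≫ Φ.fr a) (Φ.fr_mul a hxy)
        (e2 hxxy) (e3 htxy)).2
      rw [hfr] at h
      simp only [Prod.snd_mul, L, cjp, hfr]
      exact h
  have re2 := Φ.rl_wW_one (a := s) (c := a) hs
  have rf2 := Φ.rl_wW_one (a := a) (c := s) ha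
  refine Φ.table_two_of ha hs hne hA hB ?_ ?_ hsa hea
    (commT_of_roots (Φ.rl_base a) rf2 (sum_notMem2 D ha hs hA hB ra rf (by norm_num))
      (sum_notMem2 D' haP hsP hA' hB' ra' rf' (by norm_num)))
    (commT_of_roots (Φ.rl_base s) re2 (sum_notMem2 D ha hs hA hB rs re (by norm_num))
      (sum_notMem2 D' haP hsP hA' hB' rs' re' (by norm_num)))
    (commT_of_roots (Φ.rl_base s) rf2 (sum_notMem2 D ha hs hA hB rs rf (by norm_num))
      (sum_notMem2 D' haP hsP hA' hB' rs' rf' (by norm_num)))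
    (commT_of_roots re2 rf2 (sum_notMem2 D ha hs hA hB re rf (by norm_num))
      (sum_notMem2 D' haP hsP hA' hB' re' rf' (by norm_num)))
  · rintro X _ ⟨_, ⟨_, ⟨x, rfl⟩, rfl⟩, rfl⟩
    obtain ⟨nx, hnx⟩ := gaFn_surjective (X := X) (-Red.gaFn x)
    refine mem_cl.mpr ⟨Φ.L a nx, ⟨nx, rfl⟩, ?_⟩
    rw [wW_one]
    exact Prod.ext (t X x nx hnx).1.symm (t' X (x ≫ Φ.fr a) (nx ≫ Φ.fr a) (Φ.fr_neg a hnx)).1.symm
  · rintro X _ ⟨_, ⟨_, ⟨x, rfl⟩, rfl⟩, rfl⟩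
    obtain ⟨nx, hnx⟩ := gaFn_surjective (X := X) (-Red.gaFn x)
    refine mem_cl.mpr ⟨Φ.L s x, ⟨x, rfl⟩, ?_⟩
    rw [wW_one]
    exact Prod.ext (t X x nx hnx).2.2.2.symm (t' X (x ≫ Φ.fr s) (nx ≫ Φ.fr s) (Φ.fr_neg s hnx)).2.2.2.symm

set_option maxHeartbeats 1000000 in
/-- type B₂ with long and short exchanged -/
theorem table_two' (hA' : D'.P.pairing (Φ.d s) (Φ.d a) = -1) (hB' : D'.P.pairing (Φ.d a) (Φ.d s) = -2)
    (hq : Φ.q a = 2 * Φ.q s) (hz : ∀ X : Over S, (2 : Γ(X.left, ⊤)) = 0) : Φ.Table a s (Φ.tbl2 a s) := by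
  obtain ⟨re, -, rf, -⟩ := roots_span D.toSplitRed hA hB
  obtain ⟨rf', -, re', -⟩ := roots_span D'.toSplitRed hB' hA'
  have ra : D.P.root a = (1 : ℤ) • D.P.root a + (0 : ℤ) • D.P.root s := by simp
  have rs : D.P.root s = (0 : ℤ) • D.P.root a + (1 : ℤ) • D.P.root s := by simp
  have rs' : D'.P.root (Φ.d s) = (1 : ℤ) • D'.P.root (Φ.d s) + (0 : ℤ) • D'.P.root (Φ.d a) := by simp
  have ra' : D'.P.root (Φ.d a) = (0 : ℤ) • D'.P.root (Φ.d s) + (1 : ℤ) • D'.P.root (Φ.d a) := by simp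
  have haP := (Φ.hΔ a).mp ha
  have hsP := (Φ.hΔ s).mp hs
  have hneP : Φ.d s ≠ Φ.d a := fun e => hne (Φ.d.injective e).symm
  have hneg : ∀ {X : Over S} (x : X ⟶ Red.Ga S), x⁻¹ = x := fun {X} x => gaFn_injective (by
    rw [H21Rank1.gaFn_inv]; linear_combination (-Red.gaFn x) * hz X)
  have hnx : ∀ {X : Over S} (x : X ⟶ Red.Ga S), Red.gaFn x = -Red.gaFn x := fun {X} x => by
    linear_combination (Red.gaFn x) * hz X
  have h1 : ∀ {X : Over S} (x y : X ⟶ Red.Ga S), Red.gaFn (1 : X ⟶ Red.Ga S) = 2 * Red.gaFn x * Red.gaFn y :=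
    fun {X} x y => by rw [gaFn_one, hz, zero_mul, zero_mul]
  have t := fun X x nx h => S8485.result S Φ.e₁ Φ.he₁ G D Φ.avc Φ.havc Φ.hpair Φ.w (fun _ => rfl) a s ha hs hne hA hB
    (fun X x => (toUnit X ≫ Φ.w s) * (x ≫ D.u a) * (toUnit X ≫ Φ.w s)⁻¹) (fun _ _ => rfl)
    (fun X x => (toUnit X ≫ Φ.w a) * (x ≫ D.u s) * (toUnit X ≫ Φ.w a)⁻¹) (fun _ _ => rfl) X x nx h
  have t' := fun X x nx h => S8485.result S Φ.e₁ Φ.he₁ G' D' Φ.avc' Φ.havc' Φ.hpair' Φ.w' (fun _ => rfl) _ _ hsP haP hneP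
    hB' hA' (fun X x => (toUnit X ≫ Φ.w' (Φ.d a)) * (x ≫ D'.u (Φ.d s)) * (toUnit X ≫ Φ.w' (Φ.d a))⁻¹) (fun _ _ => rfl)
    (fun X x => (toUnit X ≫ Φ.w' (Φ.d s)) * (x ≫ D'.u (Φ.d a)) * (toUnit X ≫ Φ.w' (Φ.d s))⁻¹) (fun _ _ => rfl) X x nx h
  have c := fun X x y xy xxy txy h1 h2 h3 => S8464.result S Φ.e₁ Φ.he₁ G D Φ.avc Φ.havc Φ.hpair Φ.w (fun _ => rfl) a s
    ha hs hne hA hB (fun X x => (toUnit X ≫ Φ.w s) * (x ≫ D.u a) * (toUnit X ≫ Φ.w s)⁻¹) (fun _ _ => rfl)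
    (fun X x => (toUnit X ≫ Φ.w a) * (x ≫ D.u s) * (toUnit X ≫ Φ.w a)⁻¹) (fun _ _ => rfl) X x y xy xxy txy h1 h2 h3
  have c' := fun X x y xy xxy txy h1 h2 h3 => S8464.result S Φ.e₁ Φ.he₁ G' D' Φ.avc' Φ.havc' Φ.hpair' Φ.w' (fun _ => rfl)
    _ _ hsP haP hneP hB' hA'
    (fun X x => (toUnit X ≫ Φ.w' (Φ.d a)) * (x ≫ D'.u (Φ.d s)) * (toUnit X ≫ Φ.w' (Φ.d a))⁻¹) (fun _ _ => rfl)
    (fun X x => (toUnit X ≫ Φ.w' (Φ.d s)) * (x ≫ D'.u (Φ.d a)) * (toUnit X ≫ Φ.w' (Φ.d s))⁻¹) (fun _ _ => rfl)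
    X x y xy xxy txy h1 h2 h3
  have re2 := Φ.rl_wW_one (a := s) (c := a) hs
  have rf2 := Φ.rl_wW_one (a := a) (c := s) ha
  have hsa : CommT (Φ.tbl2 a s) (s, Φ.base s) (a, Φ.base a) := by
    refine CommT.of_eq (Φ.invC_base s) (Φ.invC_base a) ?_
    rintro X _ ⟨y, rfl⟩ _ ⟨x, rfl⟩
    obtain ⟨xy, hxy⟩ := gaFn_surjective (X := X) (Red.gaFn x * Red.gaFn y)
    obtain ⟨xxy, hxxy⟩ := gaFn_surjective (X := X) (Red.gaFn x ^ 2 * Red.gaFn y)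
    refine ⟨cjp (Φ.W s) (Φ.L a xy) * cjp (Φ.W a) (Φ.L s xxy), mul_mem ?_ ?_, Prod.ext ?_ ?_⟩
    · exact mem_entries (e := (D.P.reflectionPerm s a, cl (Φ.wW [s]) (Φ.base a))) (by simp [tbl2]) 1 1 le_rfl le_rfl
        (by rw [re]; module) (by rw [wW_one]; exact ⟨_, ⟨xy, rfl⟩, rfl⟩)
    · exact mem_entries (e := (D.P.reflectionPerm a s, cl (Φ.wW [a]) (Φ.base s))) (by simp [tbl2]) 1 2 le_rfl
        one_le_two (by rw [rf]; module) (by rw [wW_one]; exact ⟨_, ⟨xxy, rfl⟩, rfl⟩)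
    · exact ((c X x y xy xxy 1 hxy hxxy (h1 x y)).1).trans (_root_.mul_assoc _ _ _)
    · have h := (c' X (y ≫ Φ.fr s) (x ≫ Φ.fr a) (xxy ≫ Φ.fr s) (xy ≫ Φ.fr a) 1
        (by simp only [gaFn_fr, hxxy, mul_pow, hq, pow_mul]; ring)
        (by simp only [gaFn_fr, hxy, mul_pow, hq, pow_mul]; ring) (h1 _ _)).1
      refine (comm_swap_aux h).trans ?_
      rw [Prod.snd_mul, Prod.snd_mul, Prod.snd_mul, conj_inv', conj_inv']
      simp only [← GrpObj.inv_comp, hneg]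
      rfl
  have hea : CommT (Φ.tbl2 a s) (D.P.reflectionPerm s a, cl (Φ.wW [s]) (Φ.base a)) (a, Φ.base a) := by
    refine CommT.of_commute ?_
    rintro X _ ⟨_, ⟨y, rfl⟩, rfl⟩ _ ⟨x, rfl⟩
    obtain ⟨xy, hxy⟩ := gaFn_surjective (X := X) (Red.gaFn x * Red.gaFn y)
    obtain ⟨xxy, hxxy⟩ := gaFn_surjective (X := X) (Red.gaFn x ^ 2 * Red.gaFn y)
    refine ⟨?_, ?_⟩
    · have h := (c X x y xy xxy 1 hxy hxxy (h1 x y)).2
      rw [MonObj.one_comp, _root_.mul_one, mul_inv_cancel, _root_.mul_one] at h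
      rw [wW_one]
      exact h
    · obtain ⟨-, ⟨x', hx'⟩⟩ := re2 X _ ⟨_, ⟨y, rfl⟩, rfl⟩
      obtain ⟨h0, h'⟩ := sum_notMem2 D' hsP haP hB' hA' re' ra' (by norm_num)
      rw [hx']
      exact S8458.result S G' D'.toSplitRed _ _ h0 h' X _ _
  have hsf : CommT (Φ.tbl2 a s) (s, Φ.base s) (D.P.reflectionPerm a s, cl (Φ.wW [a]) (Φ.base s)) := by
    refine CommT.of_commute ?_
    rintro X _ ⟨y, rfl⟩ _ ⟨_, ⟨x, rfl⟩, rfl⟩
    obtain ⟨xy, hxy⟩ := gaFn_surjective (X := X) (Red.gaFn (y ≫ Φ.fr s) * Red.gaFn (x ≫ Φ.fr s))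
    obtain ⟨xxy, hxxy⟩ := gaFn_surjective (X := X) (Red.gaFn (y ≫ Φ.fr s) ^ 2 * Red.gaFn (x ≫ Φ.fr s))
    refine ⟨?_, ?_⟩
    · obtain ⟨⟨x', hx'⟩, -⟩ := rf2 X _ ⟨_, ⟨x, rfl⟩, rfl⟩
      obtain ⟨h0, h'⟩ := sum_notMem2 D ha hs hA hB rs rf (by norm_num)
      rw [hx']
      exact S8458.result S G D.toSplitRed _ _ h0 h' X _ _
    · have h := (c' X (y ≫ Φ.fr s) (x ≫ Φ.fr s) xy xxy 1 hxy hxxy (h1 _ _)).2
      rw [MonObj.one_comp, _root_.mul_one, mul_inv_cancel, _root_.mul_one] at h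
      rw [wW_one]
      exact h.symm
  refine Φ.table_two_of ha hs hne hA hB ?_ ?_ hsa hea
    (commT_of_roots (Φ.rl_base a) rf2 (sum_notMem2 D ha hs hA hB ra rf (by norm_num))
      (sum_notMem2 D' hsP haP hB' hA' ra' rf' (by norm_num)))
    (commT_of_roots (Φ.rl_base s) re2 (sum_notMem2 D ha hs hA hB rs re (by norm_num))
      (sum_notMem2 D' hsP haP hB' hA' rs' re' (by norm_num)))
    hsf
    (commT_of_roots re2 rf2 (sum_notMem2 D ha hs hA hB re rf (by norm_num))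
      (sum_notMem2 D' hsP haP hB' hA' re' rf' (by norm_num)))
  · rintro X _ ⟨_, ⟨_, ⟨x, rfl⟩, rfl⟩, rfl⟩
    refine mem_cl.mpr ⟨Φ.L a x, ⟨x, rfl⟩, ?_⟩
    rw [wW_one]
    exact Prod.ext (t X x x (hnx x)).1.symm (t' X (x ≫ Φ.fr a) (x ≫ Φ.fr a) (hnx _)).2.2.2.symm
  · rintro X _ ⟨_, ⟨_, ⟨x, rfl⟩, rfl⟩, rfl⟩
    refine mem_cl.mpr ⟨Φ.L s x, ⟨x, rfl⟩, ?_⟩
    rw [wW_one]
    exact Prod.ext (t X x x (hnx x)).2.2.2.symm (t' X (x ≫ Φ.fr s) (x ≫ Φ.fr s) (hnx _)).1.symm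

end PData

end Groth.Agent.H21Split.R3
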