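import Groth.Agent.H21Split.R3.Tables3
import Groth.Agent.H21Root.Dominance

/-!
Words in the Weyl pairs of a root of the same image carry the lines of simple roots to the same line.
-/

open CategoryTheory MonoidalCategory CartesianMonoidalCategory MonObj GrpObj AlgebraicGeometry
open CategoryTheory.Limits
open Groth.Agent.H27Witt.GaCoord (gaFn_comp gaFn_surjective gaFn_injective gaFn_one gaFn_mul)
open Groth.Agent.H21Root (sr wl)
open Groth.Agent.H21Root.SimpleZ (coxM cS coxHom)

universe u

set_option backward.isDefEq.respectTransparency false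
set_option linter.style.haveILetI false
set_option linter.unusedSectionVars false
set_option linter.unusedVariables false
set_option synthInstance.maxHeartbeats 400000
set_option maxHeartbeats 400000

noncomputable section

namespace Groth.Agent.H21Split.R3

variable {S : Scheme.{u}} {G G' : Over S} [GrpObj G] [GrpObj G']

/-- the words in the simple roots -/
def IsWord (D : Red.Pinning G) (l : List D.idx) : Prop := ∀ c ∈ l, c ∈ D.base.support

/-- the positive roots -/
abbrev PS (D : Red.Pinning G) : Set D.idx := RootD.posOf D.P (D.base.support : Set D.idx)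

theorem wordPerm_prod {I M N : Type} [AddCommGroup M] [AddCommGroup N] (P : RootPairing I ℤ M N) (l : List I)
    (x : I) : (l.map P.reflectionPerm).prod x = wl P l • x := by
  induction l generalizing x with
  | nil => simp [Groth.Agent.H21Root.wl]
  | cons a l ih => rw [List.map_cons, List.prod_cons, Groth.Agent.H21Root.wl_cons, mul_smul, ← ih]; rfl

/-- a root obtained by a word in two roots lies in their span -/
theorem span_wl (D : Red.Pinning G) {a s : D.idx} : ∀ l : List D.idx, (∀ c ∈ l, c = a ∨ c = s) → ∀ i j : ℤ,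
    ∃ i' j' : ℤ, wl D.P l • (i • D.P.root a + j • D.P.root s) = i' • D.P.root a + j' • D.P.root s
  | [], _, i, j => ⟨i, j, by simp [Groth.Agent.H21Root.wl]⟩
  | t :: l, h, i, j => by
    obtain ⟨i', j', e⟩ := span_wl D l (fun c hc => h c (List.mem_cons_of_mem t hc)) i j
    rw [Groth.Agent.H21Root.wl_cons, mul_smul, e, Groth.Agent.H21Root.sr_smul_weight]
    rcases h t List.mem_cons_self with rfl | rfl
    · exact ⟨i' - D.P.coroot' t (i' • D.P.root t + j' • D.P.root s), j', by module⟩
    · exact ⟨i', j' - D.P.coroot' t (i' • D.P.root a + j' • D.P.root t), by module⟩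

theorem wl_twice {I M N : Type} [AddCommGroup M] [AddCommGroup N] (P : RootPairing I ℤ M N) (l : List I) (t : I) :
    wl P (l ++ [t] ++ [t]) = wl P l := by
  rw [Groth.Agent.H21Root.wl_append, Groth.Agent.H21Root.wl_append, Groth.Agent.H21Root.wl_singleton,
    _root_.mul_assoc, Groth.Agent.H21Root.sr_mul_self, _root_.mul_one]

namespace PData

variable {D : Red.Pinning G} {D' : Red.Pinning G'} (Φ : PData D D')
variable [Finite D.idx] [D.P.IsReduced]

theorem wW_append (l l' : List D.idx) : Φ.wW (l ++ l') = Φ.wW l * Φ.wW l' := by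
  rw [wW, List.map_append, List.prod_append]; rfl

theorem cl_append (l l' : List D.idx) (ℓ : Line D D') :
    cl (Φ.wW (l ++ l')) ℓ = cl (Φ.wW l) (cl (Φ.wW l') ℓ) := by
  rw [wW_append, cl_mul]

/-- words of the same Weyl group element carry a stable line to the same place -/
theorem cl_wl {l l' : List D.idx} (hl : IsWord D l) (hl' : IsWord D l') (h : wl D.P l = wl D.P l')
    {ℓ : Line D D'} (hℓ : Φ.TStable ℓ) : cl (Φ.wW l) ℓ = cl (Φ.wW l') ℓ := by
  have key : ∀ l l' : List D.idx, IsWord D l → IsWord D l' → wl D.P l = wl D.P l' →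
      cl (Φ.wW l) ℓ ≤ cl (Φ.wW l') ℓ := by
    intro l l' hl hl' h
    set L : List (D.base.support : Set D.idx) := l.pmap Subtype.mk hl with hL
    set L' : List (D.base.support : Set D.idx) := l'.pmap Subtype.mk hl' with hL'
    have e : vals L = l := by rw [vals, hL, List.map_pmap]; simp
    have e' : vals L' = l' := by rw [vals, hL', List.map_pmap]; simp
    have hc : (cS (zD D)).wordProd L = (cS (zD D)).wordProd L' :=
      Groth.Agent.H21Root.SimpleZ.coxHom_injective (zD D) (by
        rw [Groth.Agent.H21Root.SimpleZ.coxHom_wordProd, Groth.Agent.H21Root.SimpleZ.coxHom_wordProd]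
        exact (congrArg (wl D.P) e).trans (h.trans (congrArg (wl D.P) e').symm))
    have h2 := Φ.cl_word_eq hc hℓ
    rwa [e, e'] at h2
  exact le_antisymm (key l l' hl hl' h) (key l' l hl' hl h.symm)

/-- the number of inversions -/
def inv (D : Red.Pinning G) (g : D.P.Aut) : ℕ := {c | c ∈ PS D ∧ g • c ∉ PS D}.ncard

theorem inv_lt' {g : D.P.Aut} {t : D.idx} (ht : t ∈ D.base.support) (h : g • t ∉ PS D) :
    inv D (g * sr D.P t) < inv D g := by
  have hS := (zD D).isPosSys
  have h1 : (g * sr D.P t) • t ∈ PS D := by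
    rw [mul_smul, Groth.Agent.H21Root.sr_smul,
      show D.P.reflectionPerm t t = Groth.Agent.H21Root.opp D.P t from rfl, Groth.Agent.H21Root.smul_opp]
    exact (hS.cover _).resolve_left h
  have := Groth.Agent.H21Root.inversions_lt hS (Groth.Agent.H21Root.subset_posOf D.P _ ht) h1
  rw [_root_.mul_assoc, Groth.Agent.H21Root.sr_mul_self, _root_.mul_one] at this
  exact this

variable {a s : D.idx} {tb : List (D.idx × Line D D')}

theorem Table.tStable {Φ : PData D D'} (T : Φ.Table a s tb) (ha : a ∈ D.base.support) (hs : s ∈ D.base.support)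
    {e : D.idx × Line D D'} (he : e ∈ tb) : Φ.TStable e.2 := by
  obtain ⟨l, α, hl, -, -, e2⟩ := T.word e he
  rw [e2]
  exact (Φ.tStable_base α).cl (Φ.nt_wW l fun c hc => by rcases hl c hc with rfl | rfl <;> assumption)

theorem Table.span {Φ : PData D D'} (T : Φ.Table a s tb) {e : D.idx × Line D D'} (he : e ∈ tb) :
    ∃ i j : ℤ, D.P.root e.1 = i • D.P.root a + j • D.P.root s := by
  obtain ⟨l, α, hl, hα, e1, -⟩ := T.word e he
  rw [← e1, wordPerm_prod, Groth.Agent.H21Root.root_smul]
  rcases hα with rfl | rfl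
  · obtain ⟨i, j, h⟩ := span_wl D (a := α) (s := s) l hl 1 0
    exact ⟨i, j, by rw [← h]; simp⟩
  · obtain ⟨i, j, h⟩ := span_wl D (a := a) (s := α) l hl 0 1
    exact ⟨i, j, by rw [← h]; simp⟩

/-- a line of the table is carried along a descent -/
theorem Table.track {Φ : PData D D'} (T : Φ.Table a s tb) (ha : a ∈ D.base.support) (hs : s ∈ D.base.support) :
    ∀ (n : ℕ) (l : List D.idx), IsWord D l → inv D (wl D.P l) = n → ∀ e ∈ tb, wl D.P l • e.1 ∈ PS D →
      ∃ l' : List D.idx, IsWord D l' ∧ ∃ e' ∈ tb, inv D (wl D.P l') ≤ n ∧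
        wl D.P l' • e'.1 = wl D.P l • e.1 ∧ wl D.P l' • a ∈ PS D ∧ wl D.P l' • s ∈ PS D ∧
        cl (Φ.wW l) e.2 ≤ cl (Φ.wW l') e'.2 := by
  intro n
  induction n using Nat.strong_induction_on with
  | _ n ih =>
    intro l hl hn e he hpos
    by_cases hneg : ∃ t, (t = a ∨ t = s) ∧ wl D.P l • t ∉ PS D
    · obtain ⟨t, ht, htn⟩ := hneg
      have htΔ : t ∈ D.base.support := by rcases ht with rfl | rfl <;> assumption
      obtain ⟨e₁, he₁, he₁', hle₁⟩ := T.step t ht e he fun h => htn (h ▸ hpos)
      have hlt : inv D (wl D.P (l ++ [t])) < n := by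
        rw [Groth.Agent.H21Root.wl_append, Groth.Agent.H21Root.wl_singleton, ← hn]
        exact inv_lt' htΔ htn
      have hl1 : IsWord D (l ++ [t]) := fun c hc => by
        rcases List.mem_append.mp hc with h | h
        exacts [hl c h, (List.mem_singleton.mp h).symm ▸ htΔ]
      have hl2 : IsWord D (l ++ [t] ++ [t]) := fun c hc => by
        rcases List.mem_append.mp hc with h | h
        exacts [hl1 c h, (List.mem_singleton.mp h).symm ▸ htΔ]
      have hroot : wl D.P (l ++ [t]) • e₁.1 = wl D.P l • e.1 := by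
        rw [he₁', Groth.Agent.H21Root.wl_append, Groth.Agent.H21Root.wl_singleton, mul_smul,
          Groth.Agent.H21Root.sr_smul, D.P.reflectionPerm_self]
      obtain ⟨l', hl', e', he', hle, h1, h2, h3, h4⟩ := ih _ hlt _ hl1 rfl e₁ he₁ (hroot.symm ▸ hpos)
      refine ⟨l', hl', e', he', by omega, h1.trans hroot, h2, h3, le_trans ?_ h4⟩
      rw [Φ.cl_wl hl hl2 (wl_twice D.P l _).symm (T.tStable ha hs he), Φ.cl_append, wW_one]
      exact cl_mono _ hle₁
    · push Not at hneg
      exact ⟨l, hl, e, he, hn.le, rfl, hneg a (Or.inl rfl), hneg s (Or.inr rfl), le_refl _⟩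

/-- a word sending a simple root to a simple root carries its line to the line -/
theorem cl_simple : ∀ (n : ℕ) (l : List D.idx), IsWord D l → inv D (wl D.P l) = n → ∀ a ∈ D.base.support,
    wl D.P l • a ∈ D.base.support → cl (Φ.wW l) (Φ.base a) ≤ Φ.base (wl D.P l • a) := by
  intro n
  induction n using Nat.strong_induction_on with
  | _ n ih =>
    intro l hl hn a ha hga
    by_cases h1 : wl D.P l = 1
    · rw [h1, one_smul, Φ.cl_wl hl (l' := []) (by simp [IsWord]) (h1.trans (by simp [Groth.Agent.H21Root.wl]))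
        (Φ.tStable_base a)]
      exact (cl_one _).le
    obtain ⟨s, hs, hsn⟩ : ∃ s ∈ D.base.support, wl D.P l • s ∉ PS D := by
      by_contra hc
      push Not at hc
      refine h1 ((zD D).eq_one_of_preserves ?_ hc)
      rw [← (zD D).closure_eq_weylGroup]
      exact Groth.Agent.H21Root.wl_mem_WOf D.P hl
    have hne : a ≠ s := fun h => hsn (h ▸ Groth.Agent.H21Root.subset_posOf D.P _ hga)
    obtain ⟨tb, T⟩ := Φ.exists_table ha hs hne
    obtain ⟨e₁, he₁, he₁', hle₁⟩ := T.step s (Or.inr rfl) _ T.memA hne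
    have hl1 : IsWord D (l ++ [s]) := fun c hc => by
      rcases List.mem_append.mp hc with h | h
      exacts [hl c h, (List.mem_singleton.mp h).symm ▸ hs]
    have hl2 : IsWord D (l ++ [s] ++ [s]) := fun c hc => by
      rcases List.mem_append.mp hc with h | h
      exacts [hl1 c h, (List.mem_singleton.mp h).symm ▸ hs]
    have hlt : inv D (wl D.P (l ++ [s])) < n := by
      rw [Groth.Agent.H21Root.wl_append, Groth.Agent.H21Root.wl_singleton, ← hn]
      exact inv_lt' hs hsn
    have hroot : wl D.P (l ++ [s]) • e₁.1 = wl D.P l • a := by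
      rw [he₁', Groth.Agent.H21Root.wl_append, Groth.Agent.H21Root.wl_singleton, mul_smul,
        Groth.Agent.H21Root.sr_smul, D.P.reflectionPerm_self]
    obtain ⟨l', hl', e', he', hle, hr, hpa, hps, h4⟩ := T.track ha hs _ _ hl1 rfl e₁ he₁
      (hroot.symm ▸ Groth.Agent.H21Root.subset_posOf D.P _ hga)
    rw [hroot] at hr
    obtain ⟨i, j, hij⟩ := T.span he'
    have hroot' : D.P.root (wl D.P l' • e'.1) =
        i • D.P.root (wl D.P l' • a) + j • D.P.root (wl D.P l' • s) := by
      rw [Groth.Agent.H21Root.root_smul, hij, smul_add, smul_comm, smul_comm (wl D.P l') j,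
        ← Groth.Agent.H21Root.root_smul, ← Groth.Agent.H21Root.root_smul]
    have hh := R2.height_comb D.base hroot'
    rw [hr, D.base.height_one_of_mem_support hga] at hh
    have ha1 : 1 ≤ D.base.height (wl D.P l' • a) := (Groth.Agent.H21Root.isPos_iff_mem_posOf D.base _).mpr hpa
    have hs1 : 1 ≤ D.base.height (wl D.P l' • s) := (Groth.Agent.H21Root.isPos_iff_mem_posOf D.base _).mpr hps
    haveI : Module.IsReflexive ℤ D.M := .of_isPerfPair D.P.toLinearMap
    haveI : IsAddTorsionFree D.M := .of_isTorsionFree ℤ D.M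
    have hcas : e'.1 = a ∨ e'.1 = s := by
      rcases R2.coord_sign D.base ha hs hne hij with ⟨hi, hj⟩ | ⟨hi, hj⟩
      · have : i + j = 1 := by nlinarith [D.P.ne_zero e'.1]
        rcases (show (i = 1 ∧ j = 0) ∨ (i = 0 ∧ j = 1) by omega) with ⟨rfl, rfl⟩ | ⟨rfl, rfl⟩
        · exact Or.inl (D.P.root.injective (by simpa using hij))
        · exact Or.inr (D.P.root.injective (by simpa using hij))
      · exfalso; nlinarith
    have hcΔ : e'.1 ∈ D.base.support := by rcases hcas with h | h <;> rw [h] <;> assumption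
    have hb : e'.2 = Φ.base e'.1 := by
      rcases hcas with h | h
      · rw [h]; exact (T.simples e' he').1 h
      · rw [h]; exact (T.simples e' he').2 h
    have hrec := ih (inv D (wl D.P l')) (by omega) l' hl' rfl e'.1 hcΔ (hr.symm ▸ hga)
    rw [hr, ← hb] at hrec
    refine le_trans (le_trans ?_ h4) hrec
    rw [Φ.cl_wl hl hl2 (wl_twice D.P l _).symm (Φ.tStable_base a), Φ.cl_append, wW_one]
    exact cl_mono _ hle₁

/-- the line of a root: any word from a simple root gives it -/
theorem cl_eq_of_smul_eq {l l' : List D.idx} (hl : IsWord D l) (hl' : IsWord D l') {a a' : D.idx}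
    (ha : a ∈ D.base.support) (ha' : a' ∈ D.base.support) (h : wl D.P l • a = wl D.P l' • a') :
    cl (Φ.wW l) (Φ.base a) = cl (Φ.wW l') (Φ.base a') := by
  have key : ∀ (l l' : List D.idx) (a a' : D.idx), IsWord D l → IsWord D l' → a ∈ D.base.support →
      a' ∈ D.base.support → wl D.P l • a = wl D.P l' • a' → cl (Φ.wW l) (Φ.base a) ≤ cl (Φ.wW l') (Φ.base a') := by
    intro l l' a a' hl hl' ha ha' h
    have hr : IsWord D l'.reverse := fun c hc => hl' c (List.mem_reverse.mp hc)
    have hm : IsWord D (l'.reverse ++ l) := fun c hc => (List.mem_append.mp hc).elim (hr c) (hl c)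
    have h2 : wl D.P (l'.reverse ++ l) • a = a' := by
      rw [Groth.Agent.H21Root.wl_append, mul_smul, h, Groth.Agent.H21Root.wl_reverse, inv_smul_smul]
    have h3 := Φ.cl_simple _ _ hm rfl a ha (h2.symm ▸ ha')
    rw [h2] at h3
    refine le_of_eq_of_le ?_ (cl_mono (Φ.wW l') h3)
    rw [← Φ.cl_append]
    exact Φ.cl_wl hl (fun c hc => (List.mem_append.mp hc).elim (hl' c) (hm c)) (by
      rw [Groth.Agent.H21Root.wl_append, Groth.Agent.H21Root.wl_append, Groth.Agent.H21Root.wl_reverse,
        mul_inv_cancel_left]) (Φ.tStable_base a)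
  exact le_antisymm (key l l' a a' hl hl' ha ha' h) (key l' l a' a hl' hl ha' ha h.symm)

end PData

end Groth.Agent.H21Split.R3
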