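import Groth.Agent.H21Split.R3.Pairs
import Groth.Agent.H21Split.R3.Cell
import Groth.Agent.H21Root.Inversions
import Groth.Agent.H21Rank1.Coord

/-!
A homomorphism out of a split group from its restriction to the torus and to the root groups.
-/

open CategoryTheory MonoidalCategory CartesianMonoidalCategory MonObj GrpObj AlgebraicGeometry
open CategoryTheory.Limits
open Groth.Agent.H27Witt.GaCoord (gaFn_comp gaFn_surjective gaFn_injective gaFn_one gaFn_mul)

universe u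

set_option backward.isDefEq.respectTransparency false
set_option linter.style.haveILetI false
set_option linter.unusedSectionVars false
set_option linter.unusedVariables false
set_option synthInstance.maxHeartbeats 400000

noncomputable section

namespace Groth.Agent.H21Split.R3

variable {S : Scheme.{u}} {G : Over S} [GrpObj G] {D : Red.SplitRed G}

theorem isUnit_of_basicOpen_eq_top {X : Scheme.{u}} {F : Γ(X, ⊤)} (h : X.basicOpen F = ⊤) : IsUnit F :=
  RingedSpace.isUnit_of_isUnit_germ _ ⊤ F fun x hx =>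
    (RingedSpace.mem_basicOpen _ F x hx).mp (h.symm.le (Set.mem_univ x))

theorem root_opp' (D : Red.SplitRed G) (a : D.idx) : D.P.root (D.P.reflectionPerm a a) = -D.P.root a := by
  rw [D.P.root_reflectionPerm, D.P.reflection_apply_self]

theorem refl_refl_self (D : Red.SplitRed G) (a : D.idx) : D.P.reflectionPerm a (D.P.reflectionPerm a a) = a :=
  D.P.reflectionPerm_self a a

/-- the positive roots with a simple root replaced by its opposite -/
def reflPos (D : Red.SplitRed G) (b : D.P.Base) (a : D.idx) : Set D.idx :=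
  insert (D.P.reflectionPerm a a) (RedSub.posRoots D.P b \ {a})

theorem posRoots_iff_isPos (b : D.P.Base) (c : D.idx) : c ∈ RedSub.posRoots D.P b ↔ b.IsPos c := by
  haveI := D.fintypeIdx
  haveI : Finite D.idx := Finite.of_fintype _
  exact (H21Root.isPos_iff_mem_posOf b c).symm

theorem refl_pos (b : D.P.Base) {a : D.idx} (ha : a ∈ b.support) {c : D.idx} (hc : c ∈ RedSub.posRoots D.P b)
    (hne : c ≠ a) : D.P.reflectionPerm a c ∈ RedSub.posRoots D.P b := by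
  haveI := D.fintypeIdx
  haveI : Finite D.idx := Finite.of_fintype _
  rw [posRoots_iff_isPos] at hc ⊢
  exact isPos_reflectionPerm D.P b hc ha hne

theorem mem_reflPos (b : D.P.Base) {a : D.idx} (ha : a ∈ b.support) (c : D.idx) :
    c ∈ reflPos D b a ↔ D.P.reflectionPerm a c ∈ RedSub.posRoots D.P b := by
  have haP : a ∈ RedSub.posRoots D.P b := AddSubmonoid.subset_closure ⟨a, ha, rfl⟩
  constructor
  · rintro (rfl | ⟨hc, hne⟩)
    · rwa [refl_refl_self]
    · exact refl_pos b ha hc hne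
  · intro h
    by_cases e : D.P.reflectionPerm a c = a
    · exact Or.inl ((D.P.reflectionPerm_self a c).symm.trans (congrArg (D.P.reflectionPerm a) e))
    · have h2 := refl_pos b ha h e
      rw [D.P.reflectionPerm_self] at h2
      exact Or.inr ⟨h2, fun (hca : c = a) => by
        subst hca
        exact (isPosSet_posRoots (P := D.P) b).noNeg c _ haP (root_opp' D c) h⟩

theorem isPosSet_reflPos [Finite D.idx] (b : D.P.Base) {a : D.idx} (ha : a ∈ b.support) :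
    IsPosSet D.P (reflPos D b a) where
  closed p q r hp hq hr := by
    rw [mem_reflPos b ha] at hp hq ⊢
    refine (isPosSet_posRoots b).closed _ _ _ hp hq ?_
    rw [D.P.root_reflectionPerm, D.P.root_reflectionPerm, D.P.root_reflectionPerm, ← map_add, hr]
  noNeg p q hp hpq hq := by
    rw [mem_reflPos b ha] at hp hq
    refine (isPosSet_posRoots b).noNeg _ _ hp ?_ hq
    rw [D.P.root_reflectionPerm, D.P.root_reflectionPerm, hpq, map_neg]

variable {H : Over S} [GrpObj H] (Q : Sys D H)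

namespace Sys

/-- the generators: torus pairs, positive root pairs, and the pairs of the opposite of simple roots -/
def gen (b : D.P.Base) (X : Over S) : Set ((X ⟶ G) × (X ⟶ H)) :=
  {z | (∃ t : X ⟶ D.T, Q.Tt t = z) ∨ (∃ c ∈ RedSub.posRoots D.P b, ∃ x : X ⟶ Red.Ga S, Q.U c x = z) ∨
    ∃ a ∈ b.support, ∃ x : X ⟶ Red.Ga S, Q.U (D.P.reflectionPerm a a) x = z}

/-- the hypotheses under which the pairs come from a homomorphism -/
structure Rel (b : D.P.Base) : Prop where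
  torus : ∀ (c : D.idx) (X : Over S) (t : X ⟶ D.T) (x x' : X ⟶ Red.Ga S),
    Red.gaFn x' = Red.gmFn (t ≫ D.split.hom.hom.hom ≫ Red.chi S (D.P.root c)) * Red.gaFn x →
      Q.Tt t * Q.U c x = Q.U c x' * Q.Tt t
  injPos : Q.Inj (RedSub.posRoots D.P b)
  injNeg : Q.Inj (RedSub.negRoots D.P b)
  injRefl : ∀ a ∈ b.support, Q.Inj (reflPos D b a)
  rank1 : ∀ a ∈ b.support, ∀ (X : Over S) (x y : X ⟶ Red.Ga S), IsUnit (1 + Red.gaFn x * Red.gaFn y) →
    ∃ (x' y' : X ⟶ Red.Ga S) (t : X ⟶ D.T),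
      Q.U a x * Q.U (D.P.reflectionPerm a a) y = Q.U (D.P.reflectionPerm a a) y' * Q.Tt t * Q.U a x'
  negGen : ∀ c ∈ RedSub.negRoots D.P b, ∀ (X : Over S) (x : X ⟶ Red.Ga S),
    Q.U c x ∈ Submonoid.closure (Q.gen b X)

variable {Q} {b : D.P.Base} (hQ : Q.Rel b)
include hQ

/-- a torus pair moves from the right of a root group to its left -/
theorem Rel.move {Ψ : Set D.idx} {X : Over S} (t : X ⟶ D.T) {z : (X ⟶ G) × (X ⟶ H)} (hz : z ∈ Q.grp Ψ X) :
    Q.Tt t * z * (Q.Tt t)⁻¹ ∈ Q.grp Ψ X :=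
  conj_mem _ (fun d hd y => by
    obtain ⟨y', hy'⟩ := gaFn_surjective (X := X)
      (Red.gmFn (t ≫ D.split.hom.hom.hom ≫ Red.chi S (D.P.root d)) * Red.gaFn y)
    rw [hQ.torus d X t y y' hy', mul_inv_cancel_right]
    exact Q.U_mem hd y') hz

omit hQ in
/-- products `N T P` of the two unipotent groups and the torus -/
def InCell (b : D.P.Base) {X : Over S} (z : (X ⟶ G) × (X ⟶ H)) : Prop :=
  ∃ N ∈ Q.grp (RedSub.negRoots D.P b) X, ∃ t : X ⟶ D.T, ∃ P ∈ Q.grp (RedSub.posRoots D.P b) X, z = N * Q.Tt t * P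

theorem Rel.cell_mul_pos {X : Over S} {z w : (X ⟶ G) × (X ⟶ H)} (hz : InCell (Q := Q) b z)
    (hw : w ∈ Q.grp (RedSub.posRoots D.P b) X) : InCell (Q := Q) b (z * w) := by
  obtain ⟨N, hN, t, P, hP, rfl⟩ := hz
  exact ⟨N, hN, t, P * w, mul_mem hP hw, by rw [_root_.mul_assoc]⟩

theorem Rel.cell_mul_T {X : Over S} {z : (X ⟶ G) × (X ⟶ H)} (hz : InCell (Q := Q) b z) (s : X ⟶ D.T) :
    InCell (Q := Q) b (z * Q.Tt s) := by
  obtain ⟨N, hN, t, P, hP, rfl⟩ := hz
  refine ⟨N, hN, t * s, Q.Tt s⁻¹ * P * (Q.Tt s⁻¹)⁻¹, hQ.move _ hP, ?_⟩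
  rw [Tt_mul, ← Tt_inv, _root_.inv_inv]
  group

/-- the product with an element of an opposite simple root group, when `1 + x y` is invertible -/
theorem Rel.cell_mul_opp {a : D.idx} (ha : a ∈ b.support) {X : Over S} {N P : (X ⟶ G) × (X ⟶ H)}
    (t : X ⟶ D.T) (x y : X ⟶ Red.Ga S) (hN : N ∈ Q.grp (RedSub.negRoots D.P b) X)
    (hP : P ∈ Q.grp (RedSub.posRoots D.P b \ {a}) X) (hu : IsUnit (1 + Red.gaFn x * Red.gaFn y)) :
    InCell (Q := Q) b (N * Q.Tt t * (P * Q.U a x) * Q.U (D.P.reflectionPerm a a) y) := by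
  haveI := D.fintypeIdx
  haveI : Finite D.idx := Finite.of_fintype _
  have haP : a ∈ RedSub.posRoots D.P b := AddSubmonoid.subset_closure ⟨a, ha, rfl⟩
  have hna : D.P.reflectionPerm a a ∈ RedSub.negRoots D.P b := by
    rw [mem_negRoots_iff, show D.P.reflectionPerm (D.P.reflectionPerm a a) (D.P.reflectionPerm a a) = a from
      D.P.root.injective (by rw [root_opp', root_opp', neg_neg])]
    exact haP
  obtain ⟨x', y', s, e1⟩ := hQ.rank1 a ha X x y hu
  have hPa : P * Q.U (D.P.reflectionPerm a a) y' ∈ Q.grp (reflPos D b a) X :=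
    mul_mem (Q.grp_mono (Set.subset_insert _ _) X hP) (Q.U_mem (Ψ := reflPos D b a) (Set.mem_insert _ _) y')
  obtain ⟨k, e', he'⟩ := exists_enumerates D (RedSub.posRoots D.P b \ {a})
  have he : RedSub.Enumerates (reflPos D b a) (Fin.cons (D.P.reflectionPerm a a) e') := by
    refine ⟨Fin.cons_injective_iff.mpr ⟨fun hmem => ?_, he'.1⟩, ?_⟩
    · rw [he'.2] at hmem
      exact (isPosSet_posRoots (P := D.P) b).noNeg a _ haP (root_opp' D a) hmem.1
    · rw [Fin.range_cons, he'.2]; rfl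
  obtain ⟨z, hz⟩ := (hQ.injRefl a ha).exists_P (isPosSet_reflPos b ha) _ he hPa
  rw [Sys.P, List.ofFn_succ, List.prod_cons] at hz
  simp only [Fin.cons_zero, Fin.cons_succ] at hz
  set P₁ := (List.ofFn fun k => Q.U (e' k) (z k.succ)).prod with hP₁
  have hP₁m : P₁ ∈ Q.grp (RedSub.posRoots D.P b) X :=
    Q.grp_mono Set.sdiff_subset X (Q.P_mem (Ψ := RedSub.posRoots D.P b \ {a}) e' (fun k => he'.2 ▸ ⟨k, rfl⟩)
      fun k => z k.succ)
  have hcalc : N * Q.Tt t * (P * Q.U a x) * Q.U (D.P.reflectionPerm a a) y =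
      N * (Q.Tt t * Q.U (D.P.reflectionPerm a a) (z 0) * (Q.Tt t)⁻¹) * Q.Tt t *
        (Q.Tt s * ((Q.Tt s)⁻¹ * P₁ * Q.Tt s) * Q.U a x') := by
    calc _ = N * Q.Tt t * (P * (Q.U a x * Q.U (D.P.reflectionPerm a a) y)) := by group
      _ = N * Q.Tt t * ((P * Q.U (D.P.reflectionPerm a a) y') * Q.Tt s * Q.U a x') := by rw [e1]; group
      _ = _ := by rw [hz]; group
  rw [hcalc]
  refine ⟨_, mul_mem hN (hQ.move t (Q.U_mem hna (z 0))), t * s, (Q.Tt s)⁻¹ * P₁ * Q.Tt s * Q.U a x', mul_mem ?_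
    (Q.U_mem haP x'), ?_⟩
  · have h := hQ.move s⁻¹ hP₁m
    rwa [← Tt_inv, _root_.inv_inv] at h
  · rw [Tt_mul]; group

omit hQ in
theorem P_of_lift {k : ℕ} (e : Fin k → D.idx) {X : Over S} (z : X ⟶ RedSub.pow (Red.Ga S) k) :
    Q.P e (fun j => z ≫ pr (Red.Ga S) k j) =
      (z ≫ RedSub.prodMap (Red.Ga S) k (fun j => D.u (e j)), z ≫ RedSub.prodMap (Red.Ga S) k (fun j => Q.φ (e j))) := by
  refine Prod.ext ?_ ?_
  · change (Q.P e fun j => z ≫ pr (Red.Ga S) k j).1 = z ≫ RedSub.prodMap (Red.Ga S) k (fun j => D.u (e j))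
    rw [P_fst, comp_prodMap]; rfl
  · change (Q.P e fun j => z ≫ pr (Red.Ga S) k j).2 = z ≫ RedSub.prodMap (Red.Ga S) k (fun j => Q.φ (e j))
    rw [P_snd, comp_prodMap]

variable {n m : ℕ} {en : Fin n → D.idx} {ep : Fin m → D.idx}

omit hQ in
/-- the morphism on the cell -/
def cellHom (Q : Sys D H) (en : Fin n → D.idx) (ep : Fin m → D.idx) :
    RedSub.pow (Red.Ga S) n ⊗ (D.T ⊗ RedSub.pow (Red.Ga S) m) ⟶ H :=
  (fst _ _ ≫ RedSub.prodMap (Red.Ga S) n (fun k => Q.φ (en k))) *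
    ((snd _ _ ≫ fst _ _ ≫ Q.fT) * (snd _ _ ≫ snd _ _ ≫ RedSub.prodMap (Red.Ga S) m (fun k => Q.φ (ep k))))

omit hQ in
theorem cell_pair {X : Over S} (σ : X ⟶ RedSub.pow (Red.Ga S) n ⊗ (D.T ⊗ RedSub.pow (Red.Ga S) m)) :
    ((σ ≫ RedSub.cellMap D en ep, σ ≫ cellHom Q en ep) : (X ⟶ G) × (X ⟶ H)) =
      Q.P en (fun k => σ ≫ fst _ _ ≫ pr (Red.Ga S) n k) * Q.Tt (σ ≫ snd _ _ ≫ fst _ _) *
        Q.P ep (fun k => σ ≫ snd _ _ ≫ snd _ _ ≫ pr (Red.Ga S) m k) := by
  have h1 := P_of_lift (Q := Q) en (σ ≫ fst _ _)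
  have h2 := P_of_lift (Q := Q) ep (σ ≫ snd _ _ ≫ snd _ _)
  simp only [Category.assoc] at h1 h2
  rw [h1, h2, RedSub.cellMap, cellHom, Tt]
  refine Prod.ext ?_ ?_ <;>
    simp only [Prod.fst_mul, Prod.snd_mul, MonObj.comp_mul, Category.assoc, _root_.mul_assoc]

variable (hen : RedSub.Enumerates (RedSub.negRoots D.P b) en) (hep : RedSub.Enumerates (RedSub.posRoots D.P b) ep)
include hen hep

theorem Rel.exists_sigma {X : Over S} {z : (X ⟶ G) × (X ⟶ H)} (hz : InCell (Q := Q) b z) :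
    ∃ σ : X ⟶ RedSub.pow (Red.Ga S) n ⊗ (D.T ⊗ RedSub.pow (Red.Ga S) m),
      σ ≫ RedSub.cellMap D en ep = z.1 ∧ σ ≫ cellHom Q en ep = z.2 := by
  haveI := D.fintypeIdx
  haveI : Finite D.idx := Finite.of_fintype _
  obtain ⟨N, hN, t, P, hP, rfl⟩ := hz
  obtain ⟨x, rfl⟩ := hQ.injNeg.exists_P (isPosSet_negRoots b) en hen hN
  obtain ⟨y, rfl⟩ := hQ.injPos.exists_P (isPosSet_posRoots b) ep hep hP
  refine ⟨lift (tuple n x) (lift t (tuple m y)), ?_⟩
  have h := cell_pair (Q := Q) (en := en) (ep := ep) (lift (tuple n x) (lift t (tuple m y)))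
  simp only [lift_fst_assoc, lift_snd_assoc, lift_fst, tuple_pr] at h
  exact ⟨congrArg Prod.fst h, congrArg Prod.snd h⟩

omit hen hep hQ in
theorem pair_inCell (hen : RedSub.Enumerates (RedSub.negRoots D.P b) en)
    (hep : RedSub.Enumerates (RedSub.posRoots D.P b) ep) {X : Over S}
    (σ : X ⟶ RedSub.pow (Red.Ga S) n ⊗ (D.T ⊗ RedSub.pow (Red.Ga S) m)) :
    InCell (Q := Q) b (σ ≫ RedSub.cellMap D en ep, σ ≫ cellHom Q en ep) :=
  ⟨_, Q.P_mem en (fun k => hen.2 ▸ ⟨k, rfl⟩) _, _, _, Q.P_mem ep (fun k => hep.2 ▸ ⟨k, rfl⟩) _, cell_pair σ⟩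

variable [GeometricallyIrreducible G.hom] [Flat G.hom] [UniversallyOpen G.hom]
  [IsOpenImmersion (RedSub.cellMap D en ep).left]

theorem Rel.good_of_inCell {X : Over S} (z : (X ⟶ G) × (X ⟶ H)) (V : (X ⊗ G).left.Opens) (hV : Meets V)
    (h : ∀ (X' : Over S) (p : X' ⟶ X) (σ : X' ⟶ RedSub.pow (Red.Ga S) n ⊗ (D.T ⊗ RedSub.pow (Red.Ga S) m)),
      Set.range (lift p (σ ≫ RedSub.cellMap D en ep)).left ⊆ V →
        InCell (Q := Q) b ((σ ≫ RedSub.cellMap D en ep, σ ≫ cellHom Q en ep) * pull p z)) :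
    Good (RedSub.cellMap D en ep) (cellHom Q en ep) z.1 z.2 :=
  ⟨V, hV, fun X' p σ hσ => hQ.exists_sigma hen hep (h X' p σ hσ)⟩

/-- the unit of the cell -/
theorem Rel.good_gen {X : Over S} (z : (X ⟶ G) × (X ⟶ H)) (hz : z ∈ Q.gen b X) :
    Good (RedSub.cellMap D en ep) (cellHom Q en ep) z.1 z.2 := by
  classical
  haveI := D.fintypeIdx
  haveI : Finite D.idx := Finite.of_fintype _
  rcases hz with ⟨t, rfl⟩ | ⟨c, hc, x, rfl⟩ | ⟨a, ha, y, rfl⟩
  · refine hQ.good_of_inCell hen hep _ ⊤ (meets_top X) fun X' p σ _ => ?_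
    rw [pull_Tt]
    exact hQ.cell_mul_T (pair_inCell hen hep σ) _
  · refine hQ.good_of_inCell hen hep _ ⊤ (meets_top X) fun X' p σ _ => ?_
    rw [pull_U]
    exact hQ.cell_mul_pos (pair_inCell hen hep σ) (Q.U_mem hc _)
  -- coordinates of the cell with `a` last
  let Ω := RedSub.pow (Red.Ga S) n ⊗ (D.T ⊗ RedSub.pow (Red.Ga S) m)
  have haP : a ∈ RedSub.posRoots D.P b := AddSubmonoid.subset_closure ⟨a, ha, rfl⟩
  obtain ⟨k, e', he'⟩ := exists_enumerates D (RedSub.posRoots D.P b \ {a})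
  have he : RedSub.Enumerates (RedSub.posRoots D.P b) (Fin.snoc e' a) := by
    refine ⟨Fin.snoc_injective_iff.mpr ⟨he'.1, fun hmem => ?_⟩, ?_⟩
    · rw [he'.2] at hmem; exact hmem.2 rfl
    · rw [Fin.range_snoc, he'.2, Set.insert_sdiff_singleton, Set.insert_eq_of_mem haP]
  obtain ⟨w, hw⟩ := exists_reorder_global D (isPosSet_posRoots b) (Fin.snoc e' a) he.1 he.2 ep
    (fun k => hep.2 ▸ ⟨k, rfl⟩) (fun j => snd _ _ ≫ snd _ _ ≫ pr (Red.Ga S) m j : Fin m → (Ω ⟶ Red.Ga S))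
  let za : Ω ⟶ Red.Ga S := w (Fin.last k)
  let F : Γ((X ⊗ Ω).left, ⊤) := 1 + Red.gaFn (snd X Ω ≫ za) * Red.gaFn (fst X Ω ≫ y)
  haveI : IsOpenImmersion (X ◁ RedSub.cellMap D en ep).left := by
    rw [Over.whiskerLeft_left]; infer_instance
  let W : (X ⊗ Ω).left.Opens := (X ⊗ Ω).left.basicOpen F
  let V : (X ⊗ G).left.Opens := (X ◁ RedSub.cellMap D en ep).left ''ᵁ W
  have hV : Meets V := by
    intro q
    let e0 : 𝟙_ (Over S) ⟶ Ω :=
      lift (tuple n fun _ => (1 : 𝟙_ (Over S) ⟶ Red.Ga S)) (lift (1 : 𝟙_ (Over S) ⟶ D.T) (tuple m fun _ => 1))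
    let s : X ⟶ X ⊗ Ω := lift (𝟙 X) (toUnit X ≫ e0)
    have hz0 : e0 ≫ za = 1 := by
      have h1 := congrArg (fun φ => e0 ≫ φ) hw
      simp only [comp_xProd, e0, lift_snd_assoc, tuple_pr] at h1
      rw [xProd_one D ep _ fun _ => rfl, ← xProd_one D (Fin.snoc e' a) (fun _ => (1 : 𝟙_ (Over S) ⟶ Red.Ga S))
        fun _ => rfl] at h1
      exact congrFun (xProd_injective D (isPosSet_posRoots b) _ he.1 he.2 h1) (Fin.last k)
    have hF : s.left.appTop F = 1 := by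
      simp only [F, map_add, map_mul, map_one, ← gaFn_comp]
      rw [show s ≫ snd X Ω ≫ za = 1 from by rw [lift_snd_assoc, Category.assoc, hz0, MonObj.comp_one], gaFn_one,
        zero_mul, add_zero]
    have hmem : s.left q ∈ W := by
      have h1 : s.left ⁻¹ᵁ W = ⊤ :=
        (Scheme.Hom.preimage_basicOpen_top s.left F).trans (by rw [show s.left.appTop F = 1 from hF, Scheme.basicOpen_of_isUnit _ isUnit_one])
      exact h1.symm.le (Set.mem_univ q)
    refine ⟨(X ◁ RedSub.cellMap D en ep).left (s.left q), ⟨s.left q, hmem, rfl⟩, ?_⟩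
    rw [comp_apply_left, comp_apply_left, whiskerLeft_fst, lift_fst]
    rfl
  refine hQ.good_of_inCell hen hep _ V hV fun X' p σ hσ => ?_
  have hu : IsUnit (1 + Red.gaFn (σ ≫ za) * Red.gaFn (p ≫ y)) := by
    have h1 : (lift p σ).left ⁻¹ᵁ W = ⊤ := by
      refine top_le_iff.mp fun q _ => ?_
      obtain ⟨r, hr, hr'⟩ := hσ ⟨q, rfl⟩
      rw [← lift_whiskerLeft, Over.comp_left, Scheme.Hom.comp_apply] at hr'
      have e := (X ◁ RedSub.cellMap D en ep).left.isOpenEmbedding.injective hr'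
      rw [e] at hr
      exact hr
    have h2 := (Scheme.Hom.preimage_basicOpen_top (lift p σ).left F).symm.trans h1
    have h3 : IsUnit ((lift p σ).left.appTop F) := isUnit_of_basicOpen_eq_top h2
    simp only [F, map_add, map_mul, map_one, ← gaFn_comp] at h3
    rwa [show lift p σ ≫ snd X Ω ≫ za = σ ≫ za from lift_snd_assoc _ _ _,
      show lift p σ ≫ fst X Ω ≫ y = p ≫ y from lift_fst_assoc _ _ _] at h3
  have hP : Q.P ep (fun j => σ ≫ snd _ _ ≫ snd _ _ ≫ pr (Red.Ga S) m j) =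
      Q.P e' (fun j => σ ≫ w j.castSucc) * Q.U a (σ ≫ za) := by
    have h1 : Q.P (Fin.snoc e' a) (fun j => σ ≫ w j) = Q.P e' (fun j => σ ≫ w j.castSucc) * Q.U a (σ ≫ za) := by
      rw [Sys.P, List.ofFn_succ_last, List.prod_append]
      simp [Sys.P, za]
    rw [← h1]
    refine hQ.injPos.eq (Q.P_mem ep (fun k => hep.2 ▸ ⟨k, rfl⟩) _)
      (Q.P_mem (Fin.snoc e' a) (fun k => he.2 ▸ ⟨k, rfl⟩) _) ?_
    rw [P_fst, P_fst]
    have h2 := congrArg (fun φ => σ ≫ φ) hw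
    simp only [comp_xProd] at h2
    exact h2.symm
  rw [pull_U, cell_pair, hP]
  exact hQ.cell_mul_opp ha _ _ _ (Q.P_mem en (fun k => hen.2 ▸ ⟨k, rfl⟩) _)
    (Q.P_mem e' (fun k => he'.2 ▸ ⟨k, rfl⟩) _) hu

omit hen hep in
theorem Rel.good_closure (hen : RedSub.Enumerates (RedSub.negRoots D.P b) en)
    (hep : RedSub.Enumerates (RedSub.posRoots D.P b) ep) {X : Over S} (z : (X ⟶ G) × (X ⟶ H))
    (hz : z ∈ Submonoid.closure (Q.gen b X)) : Good (RedSub.cellMap D en ep) (cellHom Q en ep) z.1 z.2 := by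
  induction hz using Submonoid.closure_induction with
  | mem z hz => exact hQ.good_gen hen hep z hz
  | one => exact good_one
  | mul p q _ _ hp hq => exact hp.mul hq

theorem Rel.good_cell {X : Over S} (σ : X ⟶ RedSub.pow (Red.Ga S) n ⊗ (D.T ⊗ RedSub.pow (Red.Ga S) m)) :
    Good (RedSub.cellMap D en ep) (cellHom Q en ep) (σ ≫ RedSub.cellMap D en ep) (σ ≫ cellHom Q en ep) := by
  have hmem : ((σ ≫ RedSub.cellMap D en ep, σ ≫ cellHom Q en ep) : (X ⟶ G) × (X ⟶ H)) ∈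
      Submonoid.closure (Q.gen b X) := by
    rw [cell_pair]
    refine mul_mem (mul_mem (Submonoid.list_prod_mem _ fun w hw => ?_)
      (Submonoid.subset_closure (Or.inl ⟨_, rfl⟩))) (Submonoid.list_prod_mem _ fun w hw => ?_)
    · obtain ⟨k, rfl⟩ := List.mem_ofFn.mp hw
      exact hQ.negGen _ (hen.2 ▸ ⟨k, rfl⟩) X _
    · obtain ⟨k, rfl⟩ := List.mem_ofFn.mp hw
      exact Submonoid.subset_closure (Or.inr (Or.inl ⟨_, hep.2 ▸ ⟨k, rfl⟩, _, rfl⟩))
  exact hQ.good_closure hen hep (σ ≫ RedSub.cellMap D en ep, σ ≫ cellHom Q en ep) hmem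

omit hen hep [GeometricallyIrreducible G.hom] [Flat G.hom] [UniversallyOpen G.hom]
  [IsOpenImmersion (RedSub.cellMap D en ep).left] in
/-- the homomorphism given by the pairs -/
theorem Rel.existsUnique_hom :
    ∃! f : G ⟶ H, IsMonHom f ∧ D.i ≫ f = Q.fT ∧ ∀ c, D.u c ≫ f = Q.φ c := by
  obtain ⟨n, en, hen⟩ := exists_enumerates D (RedSub.negRoots D.P b)
  obtain ⟨m, ep, hep⟩ := exists_enumerates D (RedSub.posRoots D.P b)
  obtain ⟨hD, hbij⟩ := isCellData_of_base D b hen hep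
  obtain ⟨f, ⟨hfm, hfc⟩, -⟩ := existsUnique_extension D hD hbij (cellHom Q en ep)
    fun _ _ _ _ X z => hQ.good_cell hen hep z
  haveI := hfm
  haveI := Q.hfT
  have hpt : ∀ {X : Over S} {z : (X ⟶ G) × (X ⟶ H)}, InCell (Q := Q) b z → z.1 ≫ f = z.2 := fun {X z} hz => by
    obtain ⟨σ, h1, h2⟩ := hQ.exists_sigma hen hep hz
    rw [← h1, ← h2, Category.assoc, hfc]
  refine ⟨f, ⟨hfm, ?_, fun c => ?_⟩, ?_⟩
  · have h := hpt (z := Q.Tt (𝟙 D.T)) ⟨1, one_mem _, 𝟙 D.T, 1, one_mem _, by rw [_root_.one_mul, _root_.mul_one]⟩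
    simpa [Tt] using h
  · haveI := D.fintypeIdx
    haveI : Finite D.idx := Finite.of_fintype _
    rcases mem_pos_or_neg b c with hc | hc
    · have h := hpt (z := Q.U c (𝟙 (Red.Ga S)))
        ⟨1, one_mem _, 1, _, Q.U_mem hc _, by rw [Tt_one, _root_.one_mul, _root_.one_mul]⟩
      simpa [U] using h
    · have h := hpt (z := Q.U c (𝟙 (Red.Ga S)))
        ⟨_, Q.U_mem hc (𝟙 _), 1, 1, one_mem _, by rw [Tt_one, _root_.mul_one, _root_.mul_one]⟩
      simpa [U] using h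
  · rintro f' ⟨hf', hT', hu'⟩
    refine hom_ext_cell D f' f hD hbij ?_
    rw [hfc, RedSub.cellMap, cellHom]
    simp only [MonObj.mul_comp, Category.assoc, prodMap_comp_hom, hT', hu']

end Sys

end Groth.Agent.H21Split.R3
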