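import Groth.Agent.H21Split.R3.Tables

/-!
The root groups in the span of simple roots of type G₂, with points given by functions.
-/

open CategoryTheory MonoidalCategory CartesianMonoidalCategory MonObj GrpObj AlgebraicGeometry
open CategoryTheory.Limits
open Groth.Agent.H27Witt.GaCoord (gaFn_comp gaFn_surjective gaFn_injective gaFn_one gaFn_mul)

universe u

set_option backward.isDefEq.respectTransparency false
set_option linter.style.haveILetI false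
set_option linter.unusedSectionVars false
set_option linter.unusedVariables false
set_option synthInstance.maxHeartbeats 400000
set_option maxHeartbeats 800000

noncomputable section

namespace Groth.Agent.H21Split.R3

variable {S : Scheme.{u}}

/-- the point of the additive group with a given coordinate -/
def ga {X : Over S} (v : Γ(X.left, ⊤)) : X ⟶ Red.Ga S := (gaFn_surjective v).choose

theorem gaFn_ga {X : Over S} (v : Γ(X.left, ⊤)) : Red.gaFn (ga v) = v := (gaFn_surjective v).choose_spec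

theorem ga_gaFn {X : Over S} (x : X ⟶ Red.Ga S) : ga (Red.gaFn x) = x := gaFn_injective (gaFn_ga _)

theorem ga_neg {X : Over S} (v : Γ(X.left, ⊤)) : ga (-v) = (ga v)⁻¹ :=
  gaFn_injective (by rw [gaFn_ga, H21Rank1.gaFn_inv, gaFn_ga])

theorem ga_zero_eq {X : Over S} : ga (0 : Γ(X.left, ⊤)) = 1 := gaFn_injective (by rw [gaFn_ga, gaFn_one])

variable {G₀ : Over S} [GrpObj G₀]

/-- conjugation by a section -/
def cj (w : 𝟙_ (Over S) ⟶ G₀) {X : Over S} (z : X ⟶ G₀) : X ⟶ G₀ :=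
  (toUnit X ≫ w) * z * (toUnit X ≫ w)⁻¹

theorem cj_mul (w w' : 𝟙_ (Over S) ⟶ G₀) {X : Over S} (z : X ⟶ G₀) : cj (w * w') z = cj w (cj w' z) := by
  rw [cj, cj, cj, MonObj.comp_mul]; group

theorem cj_one (w : 𝟙_ (Over S) ⟶ G₀) {X : Over S} : cj w (1 : X ⟶ G₀) = 1 := by simp [cj]

theorem cj_inv (w : 𝟙_ (Over S) ⟶ G₀) {X : Over S} (z : X ⟶ G₀) : (cj w z)⁻¹ = cj w z⁻¹ :=
  (conj_inv' _ _).trans rfl

variable (e₁ : 𝟙_ (Over S) ⟶ Red.Ga S) (D₀ : Red.Pinning G₀) (a b : D₀.idx)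

/-- the Weyl point of a root -/
abbrev gw (c : D₀.idx) : 𝟙_ (Over S) ⟶ G₀ :=
  (e₁ ≫ D₀.u c) * (e₁ ≫ D₀.u (D₀.P.reflectionPerm c c))⁻¹ * (e₁ ≫ D₀.u c)

/-- the point of a root group with a given coordinate -/
def uv (c : D₀.idx) {X : Over S} (v : Γ(X.left, ⊤)) : X ⟶ G₀ := ga v ≫ D₀.u c

def Eu {X : Over S} (v : Γ(X.left, ⊤)) : X ⟶ G₀ := cj (gw e₁ D₀ b) (uv D₀ a v)
def Fu {X : Over S} (v : Γ(X.left, ⊤)) : X ⟶ G₀ := cj (gw e₁ D₀ a * gw e₁ D₀ b) (uv D₀ a v)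
def Qu {X : Over S} (v : Γ(X.left, ⊤)) : X ⟶ G₀ := cj (gw e₁ D₀ a) (uv D₀ b (-v))
def Ru {X : Over S} (v : Γ(X.left, ⊤)) : X ⟶ G₀ := cj (gw e₁ D₀ b * gw e₁ D₀ a) (uv D₀ b (-v))

theorem uv_zero (c : D₀.idx) {X : Over S} : uv D₀ c (0 : Γ(X.left, ⊤)) = 1 := by
  rw [uv, ga_zero_eq, MonObj.one_comp]

theorem uv_neg (c : D₀.idx) {X : Over S} (v : Γ(X.left, ⊤)) : uv D₀ c (-v) = (uv D₀ c v)⁻¹ := by
  rw [uv, uv, ga_neg, GrpObj.inv_comp]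

theorem Eu_zero {X : Over S} : Eu e₁ D₀ a b (0 : Γ(X.left, ⊤)) = 1 := by rw [Eu, uv_zero, cj_one]
theorem Fu_zero {X : Over S} : Fu e₁ D₀ a b (0 : Γ(X.left, ⊤)) = 1 := by rw [Fu, uv_zero, cj_one]
theorem Qu_zero {X : Over S} : Qu e₁ D₀ a b (0 : Γ(X.left, ⊤)) = 1 := by rw [Qu, neg_zero, uv_zero, cj_one]
theorem Ru_zero {X : Over S} : Ru e₁ D₀ a b (0 : Γ(X.left, ⊤)) = 1 := by rw [Ru, neg_zero, uv_zero, cj_one]
theorem Eu_neg {X : Over S} (v : Γ(X.left, ⊤)) : Eu e₁ D₀ a b (-v) = (Eu e₁ D₀ a b v)⁻¹ := by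
  rw [Eu, Eu, cj_inv, uv_neg]
theorem Fu_neg {X : Over S} (v : Γ(X.left, ⊤)) : Fu e₁ D₀ a b (-v) = (Fu e₁ D₀ a b v)⁻¹ := by
  rw [Fu, Fu, cj_inv, uv_neg]
theorem Qu_neg {X : Over S} (v : Γ(X.left, ⊤)) : Qu e₁ D₀ a b (-v) = (Qu e₁ D₀ a b v)⁻¹ := by
  rw [Qu, Qu, cj_inv, uv_neg D₀ b (-v)]
theorem Ru_neg {X : Over S} (v : Γ(X.left, ⊤)) : Ru e₁ D₀ a b (-v) = (Ru e₁ D₀ a b v)⁻¹ := by
  rw [Ru, Ru, cj_inv, uv_neg D₀ b (-v)]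

/-- the relations in a span of type G₂ -/
structure G2Rel (X : Over S) (x y : Γ(X.left, ⊤)) : Prop where
  ab : uv D₀ b y * uv D₀ a x = uv D₀ a x * uv D₀ b y *
    (Eu e₁ D₀ a b (x * y) * Fu e₁ D₀ a b (x ^ 2 * y) * Qu e₁ D₀ a b (x ^ 3 * y) * Ru e₁ D₀ a b (x ^ 3 * y ^ 2))
  aE : Eu e₁ D₀ a b y * uv D₀ a x = uv D₀ a x * Eu e₁ D₀ a b y *
    (Fu e₁ D₀ a b (2 * x * y) * Qu e₁ D₀ a b (3 * x ^ 2 * y) * Ru e₁ D₀ a b (3 * x * y ^ 2))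
  aF : Fu e₁ D₀ a b y * uv D₀ a x = uv D₀ a x * Fu e₁ D₀ a b y * Qu e₁ D₀ a b (3 * x * y)
  bQ : Qu e₁ D₀ a b y * uv D₀ b x = uv D₀ b x * Qu e₁ D₀ a b y * Ru e₁ D₀ a b (-(x * y))
  EF : Fu e₁ D₀ a b y * Eu e₁ D₀ a b x = Eu e₁ D₀ a b x * Fu e₁ D₀ a b y * Ru e₁ D₀ a b (3 * x * y)
  aQ : Commute (uv D₀ a x) (Qu e₁ D₀ a b y)
  aR : Commute (uv D₀ a x) (Ru e₁ D₀ a b y)
  bE : Commute (uv D₀ b x) (Eu e₁ D₀ a b y)
  bF : Commute (uv D₀ b x) (Fu e₁ D₀ a b y)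
  bR : Commute (uv D₀ b x) (Ru e₁ D₀ a b y)
  EQ : Commute (Eu e₁ D₀ a b x) (Qu e₁ D₀ a b y)
  ER : Commute (Eu e₁ D₀ a b x) (Ru e₁ D₀ a b y)
  FQ : Commute (Fu e₁ D₀ a b x) (Qu e₁ D₀ a b y)
  FR : Commute (Fu e₁ D₀ a b x) (Ru e₁ D₀ a b y)
  QR : Commute (Qu e₁ D₀ a b x) (Ru e₁ D₀ a b y)
  fixA : cj (gw e₁ D₀ a) (Ru e₁ D₀ a b x) = Ru e₁ D₀ a b x
  fixB : cj (gw e₁ D₀ b) (Fu e₁ D₀ a b x) = Fu e₁ D₀ a b x

theorem g2Rel (he₁ : Red.gaFn e₁ = 1) (avc : D₀.idx → (Red.Gm S ⟶ D₀.T))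
    (havc : ∀ c, avc c = Red.DSmap S (D₀.P.coroot c).toAddMonoidHom ≫ D₀.split.inv.hom.hom)
    (hpair : PairHyp D₀ avc) (ha : a ∈ D₀.base.support) (hb : b ∈ D₀.base.support) (hne : a ≠ b)
    (hba : D₀.P.pairing b a = -3) (hab : D₀.P.pairing a b = -1) (X : Over S) (x y : Γ(X.left, ⊤)) :
    G2Rel e₁ D₀ a b X x y := by
  let w : D₀.idx → (𝟙_ (Over S) ⟶ G₀) := gw e₁ D₀
  let u11 : ∀ X : Over S, (X ⟶ Red.Ga S) → (X ⟶ G₀) := fun X x => cj (w b) (x ≫ D₀.u a)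
  let u21 : ∀ X : Over S, (X ⟶ Red.Ga S) → (X ⟶ G₀) := fun X x => cj (w a * w b) (x ≫ D₀.u a)
  let u31 : ∀ X : Over S, (X ⟶ Red.Ga S) → (X ⟶ G₀) := fun X x => cj (w a) (x ≫ D₀.u b)⁻¹
  let u32 : ∀ X : Over S, (X ⟶ Red.Ga S) → (X ⟶ G₀) := fun X x => cj (w b * w a) (x ≫ D₀.u b)⁻¹
  have eE : ∀ v : Γ(X.left, ⊤), u11 X (ga v) = Eu e₁ D₀ a b v := fun v => rfl
  have eF : ∀ v : Γ(X.left, ⊤), u21 X (ga v) = Fu e₁ D₀ a b v := fun v => rfl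
  have eQ : ∀ v : Γ(X.left, ⊤), u31 X (ga v) = Qu e₁ D₀ a b v := fun v => by rw [Qu, uv_neg]; rfl
  have eR : ∀ v : Γ(X.left, ⊤), u32 X (ga v) = Ru e₁ D₀ a b v := fun v => by rw [Ru, uv_neg]; rfl
  obtain ⟨h1, h2, h3, h4, h5⟩ := S8465.result S e₁ he₁ G₀ D₀ avc havc hpair w (fun _ => rfl) a b ha hb hne hba hab
    u11 (fun _ _ => rfl) u21 (fun _ _ => rfl) u31 (fun _ _ => rfl) u32 (fun _ _ => rfl) X (ga x) (ga y)
    (ga (x * y)) (ga (x ^ 2 * y)) (ga (x ^ 3 * y)) (ga (x ^ 3 * y ^ 2)) (ga (2 * x * y)) (ga (3 * x ^ 2 * y))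
    (ga (3 * x * y ^ 2)) (ga (3 * x * y)) (ga (-(x * y))) (ga (3 * x * y))
    (by simp only [gaFn_ga]) (by simp only [gaFn_ga]) (by simp only [gaFn_ga]) (by simp only [gaFn_ga])
    (by simp only [gaFn_ga]) (by simp only [gaFn_ga]) (by simp only [gaFn_ga]) (by simp only [gaFn_ga])
    (by simp only [gaFn_ga]) (by simp only [gaFn_ga])
  simp only [eE, eF, eQ, eR] at h1 h2 h3 h4 h5
  obtain ⟨-, -, f1, -, f2, -⟩ := S8486.result S e₁ he₁ G₀ D₀ avc havc hpair w (fun _ => rfl) a b ha hb hne hba hab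
    u11 (fun _ _ => rfl) u21 (fun _ _ => rfl) u31 (fun _ _ => rfl) u32 (fun _ _ => rfl) X (ga x) (ga x)⁻¹
    (H21Rank1.gaFn_inv _)
  rw [eR] at f1
  rw [eF] at f2
  obtain ⟨re, rf, rq, rr⟩ := PData.roots_span D₀.toSplitRed hba hab
  have ra : D₀.P.root a = (1 : ℤ) • D₀.P.root a + (0 : ℤ) • D₀.P.root b := by simp
  have rb : D₀.P.root b = (0 : ℤ) • D₀.P.root a + (1 : ℤ) • D₀.P.root b := by simp
  have hconj : ∀ t ∈ D₀.base.support, ∀ (c : D₀.idx) (z : X ⟶ Red.Ga S),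
      ∃ z' : X ⟶ Red.Ga S, cj (w t) (z ≫ D₀.u c) = z' ≫ D₀.u (D₀.P.reflectionPerm t c) := fun t ht c z =>
    PData.conj_root D₀ t c _ (weyl_acts D₀.toSplitRed e₁ he₁ t (avc t) (havc t) (hpair t ht)) z
  have E' : ∀ v : Γ(X.left, ⊤), ∃ z : X ⟶ Red.Ga S, Eu e₁ D₀ a b v = z ≫ D₀.u (D₀.P.reflectionPerm b a) :=
    fun v => hconj b hb a _
  have F' : ∀ v : Γ(X.left, ⊤), ∃ z : X ⟶ Red.Ga S,
      Fu e₁ D₀ a b v = z ≫ D₀.u (D₀.P.reflectionPerm a (D₀.P.reflectionPerm b a)) := fun v => by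
    obtain ⟨z, hz⟩ := hconj b hb a (ga v)
    obtain ⟨z', hz'⟩ := hconj a ha _ z
    exact ⟨z', by rw [Fu, cj_mul, uv]; exact (congrArg _ hz).trans hz'⟩
  have Q' : ∀ v : Γ(X.left, ⊤), ∃ z : X ⟶ Red.Ga S, Qu e₁ D₀ a b v = z ≫ D₀.u (D₀.P.reflectionPerm a b) :=
    fun v => hconj a ha b _
  have R' : ∀ v : Γ(X.left, ⊤), ∃ z : X ⟶ Red.Ga S,
      Ru e₁ D₀ a b v = z ≫ D₀.u (D₀.P.reflectionPerm b (D₀.P.reflectionPerm a b)) := fun v => by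
    obtain ⟨z, hz⟩ := hconj a ha b (ga (-v))
    obtain ⟨z', hz'⟩ := hconj b hb _ z
    exact ⟨z', by rw [Ru, cj_mul, uv]; exact (congrArg _ hz).trans hz'⟩
  have U' : ∀ c : D₀.idx, ∀ v : Γ(X.left, ⊤), ∃ z : X ⟶ Red.Ga S, uv D₀ c v = z ≫ D₀.u c := fun c v => ⟨_, rfl⟩
  have com : ∀ {c c' : D₀.idx} {i j k l : ℤ}, D₀.P.root c = i • D₀.P.root a + j • D₀.P.root b →
      D₀.P.root c' = k • D₀.P.root a + l • D₀.P.root b →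
      1 ≤ i + k ∧ 1 ≤ j + l ∧ ¬R2.IsPosRootCoord 3 (i + k) (j + l) → ∀ {z w' : X ⟶ G₀},
      (∃ r : X ⟶ Red.Ga S, z = r ≫ D₀.u c) → (∃ r : X ⟶ Red.Ga S, w' = r ≫ D₀.u c') → Commute z w' := by
    intro c c' i j k l hc hc' hn z w' ⟨r, hr⟩ ⟨r', hr'⟩
    obtain ⟨h0, h'⟩ := PData.sum_notMem D₀ ha hb hba hab (by norm_num) hc hc' hn
    subst hr hr'
    exact S8458.result S G₀ D₀.toSplitRed c c' h0 h' X r r'
  refine ⟨?_, ?_, h3, h4, h5, com ra rq ?_ (U' a x) (Q' y), com ra rr ?_ (U' a x) (R' y), com rb re ?_ (U' b x) (E' y),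
    com rb rf ?_ (U' b x) (F' y), com rb rr ?_ (U' b x) (R' y), com re rq ?_ (E' x) (Q' y), com re rr ?_ (E' x) (R' y),
    com rf rq ?_ (F' x) (Q' y), com rf rr ?_ (F' x) (R' y), com rq rr ?_ (Q' x) (R' y), f1, f2⟩
  · exact h1.trans (by simp only [uv, _root_.mul_assoc])
  · exact h2.trans (by simp only [uv, _root_.mul_assoc])
  all_goals norm_num [R2.IsPosRootCoord]

end Groth.Agent.H21Split.R3
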