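import Groth.Agent.H21Rank1.Generate
import Groth.Agent.H21Diag.Conj
import Mathlib.AlgebraicGeometry.Sites.Fpqc

/-!
Right translations which are compatible with a morphism defined on an open part of a group scheme with
irreducible fibres; extension of such a morphism to a homomorphism.
-/

open CategoryTheory MonoidalCategory CartesianMonoidalCategory MonObj GrpObj AlgebraicGeometry
open CategoryTheory.Limits

universe u

set_option backward.isDefEq.respectTransparency false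
set_option linter.style.haveILetI false
set_option linter.unusedSectionVars false
set_option synthInstance.maxHeartbeats 400000

noncomputable section

namespace Groth.Agent.H21Split.R3

variable {S : Scheme.{u}} {G : Over S} [GrpObj G]

theorem comp_apply_left {A B C : Over S} (a : A ⟶ B) (b : B ⟶ C) (x : A.left) :
    b.left (a.left x) = (a ≫ b).left x := by
  rw [Over.comp_left, Scheme.Hom.comp_apply]

/-- An open part of `X ×_S G` meeting every fibre over `X`. -/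
def Meets {X : Over S} (V : (X ⊗ G).left.Opens) : Prop :=
  ∀ x : X.left, ∃ q : (X ⊗ G).left, q ∈ V ∧ (fst X G).left q = x

/-- right translation by a point, as an automorphism of `X ×_S G` over `X` -/
def transl {X : Over S} (g : X ⟶ G) : X ⊗ G ⟶ X ⊗ G := lift (fst X G) (snd X G * (fst X G ≫ g))

theorem lift_transl {X Y : Over S} (p : Y ⟶ X) (a : Y ⟶ G) (g : X ⟶ G) :
    lift p a ≫ transl g = lift p (a * (p ≫ g)) := by
  rw [transl, comp_lift, MonObj.comp_mul, lift_fst_assoc, lift_fst, lift_snd]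

theorem transl_inv_transl {X : Over S} (g : X ⟶ G) : transl g⁻¹ ≫ transl g = 𝟙 _ := by
  conv_lhs => rw [show transl g⁻¹ = lift (fst X G) (snd X G * (fst X G ≫ g⁻¹)) from rfl, lift_transl]
  rw [GrpObj.comp_inv, inv_mul_cancel_right, lift_fst_snd]

theorem transl_fst {X : Over S} (g : X ⟶ G) : transl g ≫ fst X G = fst X G := lift_fst _ _

theorem meets_aux {A B : Over S} (a b : A ⟶ A) (π : A ⟶ B) (h₁ : b ≫ a = 𝟙 A) (h₂ : b ≫ π = π)
    (V : A.left.Opens) (x : B.left) (h : ∃ q, q ∈ V ∧ π.left q = x) : ∃ q, q ∈ a.left ⁻¹ᵁ V ∧ π.left q = x := by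
  obtain ⟨q, hq, rfl⟩ := h
  refine ⟨b.left q, ?_, ?_⟩
  · rw [show (b.left q ∈ a.left ⁻¹ᵁ V) = (a.left (b.left q) ∈ V) from rfl, comp_apply_left, h₁]
    simpa using hq
  · rw [comp_apply_left, h₂]

theorem Meets.preimage_transl {X : Over S} {V : (X ⊗ G).left.Opens} (hV : Meets V) (g : X ⟶ G) :
    Meets ((transl g).left ⁻¹ᵁ V) :=
  fun x => meets_aux (transl g) (transl g⁻¹) (fst X G) (transl_inv_transl g) (transl_fst g⁻¹) V x (hV x)

theorem meets_top (X : Over S) : Meets (G := G) (⊤ : (X ⊗ G).left.Opens) := fun x =>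
  ⟨(lift (𝟙 X) (1 : X ⟶ G)).left x, trivial, by
    change ((lift (𝟙 X) (1 : X ⟶ G)) ≫ fst X G).left x = x
    rw [lift_fst]; rfl⟩

/-- the open part of `X ×_S G` lying over an open of `G` -/
def overG (X : Over S) (U : G.left.Opens) : (X ⊗ G).left.Opens := (snd X G).left ⁻¹ᵁ U

theorem meets_overG (X : Over S) {U : G.left.Opens} (hU : ∀ s : S, η[G].left s ∈ U) : Meets (overG X U) :=
  fun x => ⟨(lift (𝟙 X) (1 : X ⟶ G)).left x, by
    change ((lift (𝟙 X) (1 : X ⟶ G)) ≫ snd X G).left x ∈ U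
    rw [lift_snd, H21Rank1.one_left_apply]; exact hU _, by
    change ((lift (𝟙 X) (1 : X ⟶ G)) ≫ fst X G).left x = x
    rw [lift_fst]; rfl⟩

variable [GeometricallyIrreducible G.hom] [Flat G.hom] [UniversallyOpen G.hom]

theorem Meets.inf {X : Over S} {V W : (X ⊗ G).left.Opens} (hV : Meets V) (hW : Meets W) : Meets (V ⊓ W) := by
  intro x
  have hirr : IsIrreducible ((pullback.fst X.hom G.hom) ⁻¹' {x}) :=
    (pullback.fst X.hom G.hom).isIrreducible_preimage (pullback.fst X.hom G.hom).isOpenMap isIrreducible_singleton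
  obtain ⟨q, hq, hqx⟩ := hV x
  obtain ⟨q', hq', hqx'⟩ := hW x
  obtain ⟨r, hr, hrV, hrW⟩ := hirr.2 _ _ V.isOpen W.isOpen ⟨q, hqx, hq⟩ ⟨q', hqx', hq'⟩
  exact ⟨r, ⟨hrV, hrW⟩, hr⟩

/-- A flat surjective cover carrying a point in the given open part. -/
theorem Meets.exists_cover {X : Over S} {V : (X ⊗ G).left.Opens} (hV : Meets V) :
    ∃ (X' : Over S) (p : X' ⟶ X) (σ : X' ⟶ G), Flat p.left ∧ Surjective p.left ∧
      Set.range (lift p σ).left ⊆ V := by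
  let X' : Over S := Over.mk (V.ι ≫ (X ⊗ G).hom)
  let j : X' ⟶ X ⊗ G := Over.homMk V.ι rfl
  refine ⟨X', j ≫ fst X G, j ≫ snd X G, ?_, ⟨fun x => ?_⟩, ?_⟩
  · change Flat (V.ι ≫ pullback.fst X.hom G.hom)
    infer_instance
  · obtain ⟨q, hq, hqx⟩ := hV x
    exact ⟨⟨q, hq⟩, hqx⟩
  · rw [← comp_lift, lift_fst_snd, Category.comp_id]
    rintro _ ⟨q, rfl⟩
    exact q.2

variable {Ω H : Over S} [GrpObj H] (c : Ω ⟶ G) [IsOpenImmersion c.left] (f : Ω ⟶ H)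

/-- The pair `(g, h)` of points is compatible with `f` under right translation, generically on each fibre. -/
def Good {X : Over S} (g : X ⟶ G) (h : X ⟶ H) : Prop :=
  ∃ V : (X ⊗ G).left.Opens, Meets V ∧ ∀ (X' : Over S) (p : X' ⟶ X) (σ : X' ⟶ Ω),
    Set.range (lift p (σ ≫ c)).left ⊆ V →
      ∃ σ' : X' ⟶ Ω, σ' ≫ c = (σ ≫ c) * (p ≫ g) ∧ σ' ≫ f = (σ ≫ f) * (p ≫ h)

variable {c f}

theorem good_one {X : Over S} : Good c f (1 : X ⟶ G) (1 : X ⟶ H) :=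
  ⟨⊤, meets_top X, fun X' p σ _ => ⟨σ, by rw [MonObj.comp_one, _root_.mul_one],
    by rw [MonObj.comp_one, _root_.mul_one]⟩⟩

theorem Good.mul {X : Over S} {g g' : X ⟶ G} {h h' : X ⟶ H} (hg : Good c f g h) (hg' : Good c f g' h') :
    Good c f (g * g') (h * h') := by
  obtain ⟨V, hV, hs⟩ := hg
  obtain ⟨V', hV', hs'⟩ := hg'
  refine ⟨V ⊓ (transl g).left ⁻¹ᵁ V', hV.inf (hV'.preimage_transl g), fun X' p σ hσ => ?_⟩
  obtain ⟨σ₁, e₁, f₁⟩ := hs X' p σ (fun z hz => (hσ hz).1)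
  obtain ⟨σ₂, e₂, f₂⟩ := hs' X' p σ₁ (by
    rintro _ ⟨z, rfl⟩
    rw [e₁, ← lift_transl]
    exact (hσ ⟨z, rfl⟩).2)
  refine ⟨σ₂, ?_, ?_⟩
  · rw [e₂, e₁, MonObj.comp_mul, _root_.mul_assoc]
  · rw [f₂, f₁, MonObj.comp_mul, _root_.mul_assoc]

theorem good_list {X : Over S} {κ : Type*} (g : κ → (X ⟶ G)) (h : κ → (X ⟶ H)) (l : List κ)
    (hl : ∀ k ∈ l, Good c f (g k) (h k)) : Good c f (l.map g).prod (l.map h).prod := by
  induction l with
  | nil => exact good_one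
  | cons k l ih =>
    rw [List.map_cons, List.map_cons, List.prod_cons, List.prod_cons]
    exact (hl k List.mem_cons_self).mul (ih fun k' hk' => hl k' (List.mem_cons_of_mem k hk'))

/-- the second point of a compatible pair is determined by the first -/
theorem Good.unique (hc : ∀ s : S, η[G].left s ∈ Set.range c.left) {X : Over S} {g : X ⟶ G} {h h' : X ⟶ H}
    (hg : Good c f g h) (hg' : Good c f g h') : h = h' := by
  obtain ⟨V, hV, hs⟩ := hg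
  obtain ⟨V', hV', hs'⟩ := hg'
  obtain ⟨X', p, τ, hp, hp', hτ⟩ :=
    ((hV.inf hV').inf (meets_overG X (U := c.left.opensRange) hc)).exists_cover
  obtain ⟨σ, rfl⟩ := H21Rank1.exists_lift_of_range_subset c τ (by
    rintro _ ⟨z, rfl⟩
    have h := (hτ ⟨z, rfl⟩).2
    change ((lift p τ) ≫ snd X G).left z ∈ c.left.opensRange at h
    rwa [lift_snd] at h)
  obtain ⟨σ₁, e₁, f₁⟩ := hs X' p σ fun z hz => (hτ hz).1.1
  obtain ⟨σ₂, e₂, f₂⟩ := hs' X' p σ fun z hz => (hτ hz).1.2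
  haveI : Mono c := (Over.forget S).mono_of_mono_map (inferInstanceAs (Mono c.left))
  obtain rfl : σ₁ = σ₂ := (cancel_mono c).mp (e₁.trans e₂.symm)
  exact H21Rank1.eq_of_flat_surjective p (mul_left_cancel (f₁.symm.trans f₂))

/-- A morphism which is multiplicative where the product stays in the open part gives compatible pairs. -/
theorem good_of_partialMul (hc : ∀ s : S, η[G].left s ∈ Set.range c.left)
    (hf : ∀ (X : Over S) (x y z : X ⟶ Ω), z ≫ c = (x ≫ c) * (y ≫ c) → z ≫ f = (x ≫ f) * (y ≫ f))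
    {X : Over S} (z : X ⟶ Ω) : Good c f (z ≫ c) (z ≫ f) := by
  refine ⟨(transl (z ≫ c)).left ⁻¹ᵁ overG X c.left.opensRange,
    (meets_overG X (U := c.left.opensRange) hc).preimage_transl _, fun X' p σ hσ => ?_⟩
  obtain ⟨σ', hσ'⟩ := H21Rank1.exists_lift_of_range_subset c ((σ ≫ c) * (p ≫ z ≫ c)) (by
    rintro _ ⟨w, rfl⟩
    have h := hσ ⟨w, rfl⟩
    change ((lift p (σ ≫ c) ≫ transl (z ≫ c)) ≫ snd X G).left w ∈ c.left.opensRange at h
    rwa [lift_transl, lift_snd] at h)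
  refine ⟨σ', hσ', hf X' σ (p ≫ z) σ' ?_⟩
  rw [hσ', Category.assoc]

theorem exists_mor_of_flat_surjective {X Y : Over S} (m : Y ⟶ X) [Flat m.left] [Surjective m.left]
    [QuasiCompact m.left] (φ : Y ⟶ H)
    (h : ∀ (Z : Over S) (z₁ z₂ : Z ⟶ Y), z₁ ≫ m = z₂ ≫ m → z₁ ≫ φ = z₂ ≫ φ) :
    ∃ ψ : X ⟶ H, m ≫ ψ = φ := by
  have hdesc : ∀ {Z : Scheme.{u}} (g₁ g₂ : Z ⟶ Y.left), g₁ ≫ m.left = g₂ ≫ m.left →
      g₁ ≫ φ.left = g₂ ≫ φ.left := fun {Z} g₁ g₂ e => by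
    have h2 : g₂ ≫ Y.hom = g₁ ≫ Y.hom := by
      rw [← Over.w m, ← Category.assoc, ← e, Category.assoc]
    let z₁ : Over.mk (g₁ ≫ Y.hom) ⟶ Y := Over.homMk g₁ rfl
    let z₂ : Over.mk (g₁ ≫ Y.hom) ⟶ Y := Over.homMk g₂ h2
    exact congrArg (fun q => q.left) (h _ z₁ z₂ (by ext : 1; exact e))
  obtain ⟨u, hu⟩ : ∃ u : X.left ⟶ H.left, m.left ≫ u = φ.left :=
    ⟨EffectiveEpi.desc m.left φ.left (fun g₁ g₂ e => hdesc g₁ g₂ e), EffectiveEpi.fac _ _ _⟩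
  refine ⟨Over.homMk u ?_, ?_⟩
  · haveI : Epi m.left := Flat.epi_of_flat_of_surjective _
    rw [← cancel_epi m.left, ← Category.assoc, hu, Over.w φ, Over.w m]
  · ext : 1
    exact hu

/-- the multiplication of two copies of an open part is flat -/
theorem flat_prodMor {Ω : Over S} (c : Ω ⟶ G) [IsOpenImmersion c.left] :
    Flat ((fst Ω Ω ≫ c) * (snd Ω Ω ≫ c)).left := by
  haveI : Flat Ω.hom := by rw [← Over.w c]; infer_instance
  let sh : Ω ⊗ G ≅ Ω ⊗ G :=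
    { hom := lift (fst Ω G) ((fst Ω G ≫ c) * snd Ω G)
      inv := lift (fst Ω G) ((fst Ω G ≫ c)⁻¹ * snd Ω G)
      hom_inv_id := by
        rw [comp_lift, MonObj.comp_mul, GrpObj.comp_inv, lift_fst, lift_fst_assoc, lift_snd, inv_mul_cancel_left,
          lift_fst_snd]
      inv_hom_id := by
        rw [comp_lift, MonObj.comp_mul, lift_fst, lift_fst_assoc, lift_snd, mul_inv_cancel_left, lift_fst_snd] }
  have e : (Ω ◁ c) ≫ sh.hom ≫ snd Ω G = (fst Ω Ω ≫ c) * (snd Ω Ω ≫ c) := by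
    simp only [sh, lift_snd, MonObj.comp_mul, whiskerLeft_fst_assoc, whiskerLeft_snd]
  rw [← e, Over.comp_left, Over.comp_left]
  haveI : IsOpenImmersion (Ω ◁ c).left := by
    rw [Over.whiskerLeft_left]; infer_instance
  haveI : IsIso sh.hom.left := ((Over.forget S).mapIso sh).isIso_hom
  haveI : Flat (snd Ω G).left := inferInstanceAs (Flat (pullback.snd Ω.hom G.hom))
  infer_instance

/-- The extension: if all points of the open part give compatible pairs, `f` extends to a homomorphism. -/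
theorem existsUnique_hom [IsAffineHom G.hom] [IsAffineHom Ω.hom] (hc : ∀ s : S, η[G].left s ∈ Set.range c.left)
    (hgood : ∀ (X : Over S) (z : X ⟶ Ω), Good c f (z ≫ c) (z ≫ f)) :
    ∃! ψ : G ⟶ H, IsMonHom ψ ∧ c ≫ ψ = f := by
  let m : Ω ⊗ Ω ⟶ G := (fst Ω Ω ≫ c) * (snd Ω Ω ≫ c)
  let φ : Ω ⊗ Ω ⟶ H := (fst Ω Ω ≫ f) * (snd Ω Ω ≫ f)
  have hm : ∀ {Z : Over S} (z : Z ⟶ Ω ⊗ Ω), z ≫ m = (z ≫ fst Ω Ω ≫ c) * (z ≫ snd Ω Ω ≫ c) := fun z =>
    MonObj.comp_mul _ _ _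
  have hφ : ∀ {Z : Over S} (z : Z ⟶ Ω ⊗ Ω), z ≫ φ = (z ≫ fst Ω Ω ≫ f) * (z ≫ snd Ω Ω ≫ f) := fun z =>
    MonObj.comp_mul _ _ _
  have hgm : ∀ {Z : Over S} (z : Z ⟶ Ω ⊗ Ω), Good c f (z ≫ m) (z ≫ φ) := fun {Z} z => by
    rw [hm, hφ]
    have h₁ := hgood Z (z ≫ fst Ω Ω)
    have h₂ := hgood Z (z ≫ snd Ω Ω)
    simp only [Category.assoc] at h₁ h₂
    exact h₁.mul h₂
  have hsplit : ∀ {Y : Over S} (g : Y ⟶ G), ∃ (Y' : Over S) (p : Y' ⟶ Y) (z : Y' ⟶ Ω ⊗ Ω),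
      Flat p.left ∧ Surjective p.left ∧ p ≫ g = z ≫ m := fun {Y} g => by
    obtain ⟨Y', p, a, b, hp, hp', ha, hb, hab⟩ := H21Rank1.exists_split (G := G) c.left.opensRange hc g
    obtain ⟨a', rfl⟩ := H21Rank1.exists_lift_of_range_subset c a ha
    obtain ⟨b', rfl⟩ := H21Rank1.exists_lift_of_range_subset c b hb
    exact ⟨Y', p, lift a' b', hp, hp', by rw [hab, hm, lift_fst_assoc, lift_snd_assoc]⟩
  haveI : Surjective m.left := ⟨fun x => by
    obtain ⟨Y', p, z, -, hp, h⟩ := hsplit (𝟙 G)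
    obtain ⟨y, rfl⟩ := hp.surj x
    rw [Category.comp_id] at h
    exact ⟨z.left y, (congrArg (fun q => q.left y) h).symm⟩⟩
  haveI : Flat m.left := flat_prodMor c
  haveI : QuasiCompact m.left := by
    haveI : IsAffineHom (pullback.fst Ω.hom Ω.hom) :=
      MorphismProperty.pullback_fst (P := @IsAffineHom) _ _ ‹IsAffineHom Ω.hom›
    haveI : IsAffineHom (Ω ⊗ Ω).hom :=
      MorphismProperty.comp_mem @IsAffineHom _ _ ‹IsAffineHom (pullback.fst Ω.hom Ω.hom)› ‹IsAffineHom Ω.hom›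
    haveI : IsAffineHom (m.left ≫ G.hom) := by rw [Over.w]; infer_instance
    haveI : IsAffineHom m.left := IsAffineHom.of_comp m.left G.hom
    infer_instance
  obtain ⟨ψ, hψ⟩ := exists_mor_of_flat_surjective m φ fun Z z₁ z₂ e => (hgm z₁).unique hc (e ▸ hgm z₂)
  have hval : ∀ {Z : Over S} (z : Z ⟶ Ω ⊗ Ω), z ≫ m ≫ ψ = z ≫ φ := fun z => by rw [hψ]
  have hmul : ∀ {Y : Over S} (x y : Y ⟶ G), (x * y) ≫ ψ = (x ≫ ψ) * (y ≫ ψ) := by
    intro Y x y
    obtain ⟨Y₁, p₁, z₁, hp₁, hp₁', h₁⟩ := hsplit x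
    obtain ⟨Y₂, p₂, z₂, hp₂, hp₂', h₂⟩ := hsplit (p₁ ≫ y)
    obtain ⟨Y₃, p₃, z₃, hp₃, hp₃', h₃⟩ := hsplit (p₂ ≫ p₁ ≫ (x * y))
    refine H21Rank1.eq_of_flat_surjective p₁ (H21Rank1.eq_of_flat_surjective p₂
      (H21Rank1.eq_of_flat_surjective p₃ ?_))
    have ex : p₃ ≫ p₂ ≫ p₁ ≫ x = (p₃ ≫ p₂ ≫ z₁) ≫ m := by rw [h₁]; simp only [Category.assoc]
    have ey : p₃ ≫ p₂ ≫ p₁ ≫ y = (p₃ ≫ z₂) ≫ m := by rw [h₂]; simp only [Category.assoc]
    have h4 : z₃ ≫ m = ((p₃ ≫ p₂ ≫ z₁) ≫ m) * ((p₃ ≫ z₂) ≫ m) := by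
      rw [← h₃, ← ex, ← ey]; simp only [MonObj.comp_mul]
    have key : z₃ ≫ φ = ((p₃ ≫ p₂ ≫ z₁) ≫ φ) * ((p₃ ≫ z₂) ≫ φ) :=
      (hgm z₃).unique hc (h4 ▸ (hgm _).mul (hgm _))
    have e3 : ∀ {W : Over S} (w : W ⟶ Ω ⊗ Ω), (w ≫ m) ≫ ψ = w ≫ φ := fun w => by rw [Category.assoc, hψ]
    have lhs : p₃ ≫ p₂ ≫ p₁ ≫ (x * y) ≫ ψ = z₃ ≫ φ := by
      rw [← Category.assoc p₁, ← Category.assoc p₂, ← Category.assoc p₃, h₃, e3]
    have rx : p₃ ≫ p₂ ≫ p₁ ≫ x ≫ ψ = (p₃ ≫ p₂ ≫ z₁) ≫ φ := by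
      rw [← Category.assoc p₁, ← Category.assoc p₂, ← Category.assoc p₃, ex, e3]
    have ry : p₃ ≫ p₂ ≫ p₁ ≫ y ≫ ψ = (p₃ ≫ z₂) ≫ φ := by
      rw [← Category.assoc p₁, ← Category.assoc p₂, ← Category.assoc p₃, ey, e3]
    simp only [MonObj.comp_mul]
    rw [lhs, rx, ry, key]
  have hcψ : c ≫ ψ = f := by
    obtain ⟨Y', p, z, hp, hp', h⟩ := hsplit c
    refine H21Rank1.eq_of_flat_surjective p ?_
    have h1 := hgood Y' p
    rw [h] at h1
    rw [← Category.assoc, h, Category.assoc, hval]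
    exact (hgm z).unique hc h1
  refine ⟨ψ, ⟨H21Diag.isMonHom_of_mul ψ fun {Y} x y => hmul x y, hcψ⟩, ?_⟩
  rintro ψ' ⟨hψ', hc'⟩
  haveI : Epi m := ⟨fun {Z} a b e => H21Rank1.eq_of_flat_surjective m e⟩
  refine (cancel_epi m).mp ?_
  rw [hψ, MonObj.mul_comp, Category.assoc, Category.assoc, hc']

end Groth.Agent.H21Split.R3
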