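import Groth.Agent.H21Root.Dominance
import Groth.Agent.H21Split.R2.WeylWord
import Mathlib.LinearAlgebra.FreeModule.Finite.Basic

/-!
Two roots which are not opposite lie, up to the Weyl group, in the positive span of two simple roots.
-/

open Function Set RootPairing
open Groth.Agent.H21Root (opp sr)

set_option linter.unusedSectionVars false

noncomputable section

namespace Groth.Agent.H21Split.R3

variable {I M N : Type} [AddCommGroup M] [AddCommGroup N] (P : RootPairing I ℤ M N)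
variable [Finite I] [P.IsReduced] [Module.Free ℤ M] [Module.Finite ℤ M]

theorem all_zero_of_sum {A : Type*} {Γ : Type*} [AddCommGroup Γ] [LinearOrder Γ] [IsOrderedAddMonoid Γ] (f : A → Γ) :
    ∀ m : Multiset A, (∀ a ∈ m, 0 ≤ f a) → (m.map f).sum = 0 → ∀ a ∈ m, f a = 0 := by
  intro m
  induction m using Multiset.induction with
  | empty => simp
  | cons a m ih =>
    intro h0 hs
    rw [Multiset.map_cons, Multiset.sum_cons] at hs
    have h1 : 0 ≤ (m.map f).sum := Multiset.sum_nonneg fun x hx => by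
      obtain ⟨b, hb, rfl⟩ := Multiset.mem_map.mp hx
      exact h0 b (Multiset.mem_cons_of_mem hb)
    obtain ⟨h2, h3⟩ := (add_eq_zero_iff_of_nonneg (h0 a (Multiset.mem_cons_self a m)) h1).mp hs
    intro b hb
    rcases Multiset.mem_cons.mp hb with rfl | hb
    exacts [h2, ih (fun x hx => h0 x (Multiset.mem_cons_of_mem hx)) h3 b hb]

theorem card_le_two {ι L : Type*} [Fintype ι] [AddCommGroup L] [IsAddTorsionFree L] {v : ι → L}
    (hv : LinearIndependent ℤ v) {n : ℤ} (hn : n ≠ 0) (x y : L)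
    (h : ∀ i, n • v i ∈ Submodule.span ℤ ({x, y} : Set L)) : Fintype.card ι ≤ 2 := by
  classical
  have hLI : LinearIndependent ℤ fun i => n • v i :=
    hv.map' (n • (LinearMap.id : L →ₗ[ℤ] L)) (LinearMap.ker_eq_bot.mpr (zsmul_right_injective hn))
  have h2 := linearIndependent_le_span' (fun i => n • v i) hLI (↑({x, y} : Finset L))
    (by rintro _ ⟨i, rfl⟩; simpa using h i)
  rw [Cardinal.mk_fintype, Nat.cast_le] at h2
  exact h2.trans ((Fintype.card_of_finset' _ (fun _ => Iff.rfl)).le.trans Finset.card_le_two)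

theorem exists_comb_of_natSpan {a s : I} {x : M} (hx : x ∈ RootD.natSpan P ({a, s} : Set I)) :
    ∃ i j : ℕ, x = (i : ℤ) • P.root a + (j : ℤ) • P.root s := by
  induction hx using AddSubmonoid.closure_induction with
  | mem y hy =>
    obtain ⟨b, hb, rfl⟩ := hy
    rcases hb with rfl | rfl
    exacts [⟨1, 0, by simp⟩, ⟨0, 1, by simp⟩]
  | zero => exact ⟨0, 0, by simp⟩
  | add y z _ _ hy hz =>
    obtain ⟨i, j, rfl⟩ := hy
    obtain ⟨i', j', rfl⟩ := hz
    exact ⟨i + i', j + j', by push_cast; module⟩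

/-- two independent roots are positive combinations of two simple roots of some simple system -/
theorem exists_simples_pair {c d : I} (hli : LinearIndependent ℤ ![P.root c, P.root d]) :
    ∃ Δ : Set I, Groth.Agent.H21Root.SimpleZ P Δ ∧ ∃ a ∈ Δ, ∃ s ∈ Δ, a ≠ s ∧
      P.root c ∈ RootD.natSpan P ({a, s} : Set I) ∧ P.root d ∈ RootD.natSpan P ({a, s} : Set I) := by
  classical
  set p := P.pairing c d with hp
  set q := P.pairing d c with hq
  have h4 := R2.pairing_prod_lt_four P hli
  have hD : (0 : ℤ) < 4 - p * q := by rw [hp, hq]; linarith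
  -- kills the plane
  let h : M →ₗ[ℤ] M := (4 - p * q) • LinearMap.id
    - ((2 : ℤ) • P.coroot' c - q • P.coroot' d).smulRight (P.root c)
    - ((2 : ℤ) • P.coroot' d - p • P.coroot' c).smulRight (P.root d)
  have hh : ∀ m, h m = (4 - p * q) • m - (2 * P.coroot' c m - q * P.coroot' d m) • P.root c
      - (2 * P.coroot' d m - p * P.coroot' c m) • P.root d := fun m => by
    simp [h]; module
  let g : M →ₗ[ℤ] ℤ := (2 - p) • P.coroot' c + (2 - q) • P.coroot' d
  have hg : ∀ m, g m = (2 - p) * P.coroot' c m + (2 - q) * P.coroot' d m := fun m => by simp [g]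
  have hc0 : h (P.root c) = 0 := by
    rw [hh, P.root_coroot'_eq_pairing, P.root_coroot'_eq_pairing, P.pairing_same, ← hp]; module
  have hd0 : h (P.root d) = 0 := by
    rw [hh, P.root_coroot'_eq_pairing, P.root_coroot'_eq_pairing, P.pairing_same, ← hq]; module
  have hgc : g (P.root c) = 4 - p * q := by
    rw [hg, P.root_coroot'_eq_pairing, P.root_coroot'_eq_pairing, P.pairing_same, ← hp]; ring
  have hgd : g (P.root d) = 4 - p * q := by
    rw [hg, P.root_coroot'_eq_pairing, P.root_coroot'_eq_pairing, P.pairing_same, ← hq]; ring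
  let e := Module.finBasis ℤ M
  let f₁ : M →+ Lex (Fin (Module.finrank ℤ M) → ℤ) :=
    AddMonoidHom.mk' (fun m => toLex fun i => e.repr (h m) i) fun x y => congrArg toLex (funext fun i => by simp)
  have hf₁ : ∀ m, f₁ m = 0 ↔ h m = 0 := fun m => by
    refine ⟨fun hm => e.repr.injective (Finsupp.ext fun i => ?_), fun hm => ?_⟩
    · rw [map_zero]
      exact congrFun (congrArg ofLex hm) i
    · refine congrArg toLex (funext fun i => ?_)
      change e.repr (h m) i = 0
      rw [hm, map_zero]; rfl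
  let f : M →+ Lex (Lex (Fin (Module.finrank ℤ M) → ℤ) × ℤ) :=
    AddMonoidHom.mk' (fun m => toLex (f₁ m, g m)) fun x y =>
      congrArg toLex (Prod.ext (map_add f₁ x y) (map_add g x y))
  obtain ⟨T, hT, hpos⟩ := Groth.Agent.H21Root.exists_posSys_nonneg (P := P) f
  have hpos' : ∀ i ∈ T, 0 < f₁ (P.root i) ∨ f₁ (P.root i) = 0 ∧ 0 ≤ g (P.root i) := fun i hi => by
    rcases Prod.Lex.le_iff.mp (hpos i hi) with h1 | ⟨h1, h2⟩
    exacts [Or.inl h1, Or.inr ⟨h1.symm, h2⟩]
  have hin : ∀ i, f₁ (P.root i) = 0 → 0 < g (P.root i) → i ∈ T := fun i h1 h2 => by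
    refine (hT.cover i).resolve_right fun ho => ?_
    rcases hpos' _ ho with h3 | ⟨-, h3⟩
    · rw [Groth.Agent.H21Root.root_opp, map_neg, h1, neg_zero] at h3; exact lt_irrefl _ h3
    · rw [Groth.Agent.H21Root.root_opp, map_neg] at h3; omega
  have hcT : c ∈ T := hin c ((hf₁ _).mpr hc0) (by rw [hgc]; exact hD)
  have hdT : d ∈ T := hin d ((hf₁ _).mpr hd0) (by rw [hgd]; exact hD)
  have hΔ := Groth.Agent.H21Root.simpleZ_simples hT
  set Δ := Groth.Agent.H21Root.simples P T with hΔdef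
  let A : Set I := {a | a ∈ Δ ∧ h (P.root a) = 0}
  have hmem : ∀ x ∈ T, h (P.root x) = 0 → P.root x ∈ RootD.natSpan P A := by
    intro x hx hx0
    obtain ⟨m, hm, hsum⟩ := Groth.Agent.H21Root.exists_simples_sum hT hx
    refine Groth.Agent.H21Root.mem_natSpan_iff P |>.mpr ⟨m, fun a ha => ⟨hm a ha, (hf₁ _).mp ?_⟩, hsum⟩
    refine all_zero_of_sum (fun a => f₁ (P.root a)) m (fun b hb => ?_) ?_ a ha
    · rcases hpos' b (Groth.Agent.H21Root.simples_subset P T (hm b hb)) with h1 | ⟨h1, -⟩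
      exacts [h1.le, h1.ge]
    · have h1 := (hf₁ _).mpr hx0
      rw [← hsum, Groth.Agent.H21Root.rsum, map_multiset_sum, Multiset.map_map] at h1
      exact h1
  have hcA := hmem c hcT hc0
  have hdA := hmem d hdT hd0
  haveI := Fintype.ofFinite I
  haveI : Module.IsReflexive ℤ M := .of_isPerfPair P.toLinearMap
  haveI : IsAddTorsionFree M := .of_isTorsionFree ℤ M
  have hcard : A.ncard ≤ 2 := by
    rw [Set.ncard_eq_toFinset_card', Set.toFinset_card]
    refine card_le_two (v := fun a : A => P.root a.1) (hΔ.li.mono fun a ha => ha.1) hD.ne' (P.root c) (P.root d)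
      fun a => ?_
    have h3 := a.2.2
    rw [hh, sub_sub, sub_eq_zero] at h3
    rw [h3]
    exact add_mem (Submodule.smul_mem _ _ (Submodule.subset_span (Set.mem_insert _ _)))
      (Submodule.smul_mem _ _ (Submodule.subset_span (Set.mem_insert_of_mem _ rfl)))
  have hcard' : ¬A.ncard ≤ 1 := by
    intro h1
    rcases (Set.ncard_le_one_iff_eq (Set.toFinite A)).mp h1 with h2 | ⟨a, h2⟩
    · rw [h2] at hcA
      simp [RootD.natSpan, P.ne_zero] at hcA
    · rw [h2, ← Set.pair_eq_singleton] at hcA hdA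
      obtain ⟨i, j, hij⟩ := exists_comb_of_natSpan P hcA
      obtain ⟨k, l, hkl⟩ := exists_comb_of_natSpan P hdA
      have h3 := LinearIndependent.pair_iff.mp hli ((k : ℤ) + l) (-((i : ℤ) + j)) (by rw [hij, hkl]; module)
      refine P.ne_zero c ?_
      rw [hij, ← add_smul, show ((i : ℤ) + j) = 0 by omega, zero_smul]
  obtain ⟨a, s, hne, hA⟩ := Set.ncard_eq_two.mp (by omega : A.ncard = 2)
  have haA : a ∈ A := by rw [hA]; simp
  have hsA : s ∈ A := by rw [hA]; simp
  exact ⟨Δ, hΔ, a, haA.1, s, hsA.1, hne, hA ▸ hcA, hA ▸ hdA⟩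

/-- two roots which are not opposite, moved by the Weyl group to the positive span of two simple roots -/
theorem exists_weyl_plane (b : P.Base) {c d : I} (hli : LinearIndependent ℤ ![P.root c, P.root d]) :
    ∃ g ∈ P.weylGroup, ∃ a ∈ b.support, ∃ s ∈ b.support, a ≠ s ∧
      ∀ x ∈ ({c, d} : Set I), g⁻¹ • x ∈ RootD.posOf P (b.support : Set I) ∧
        ∃ i j : ℤ, P.root (g⁻¹ • x) = i • P.root a + j • P.root s := by
  obtain ⟨Δ, hΔ, a, ha, s, hs, hne, hc, hd⟩ := exists_simples_pair P hli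
  obtain ⟨⟨g, hg⟩, hgΔ, -⟩ := Groth.Agent.H21Root.existsUnique_weyl_simples
    (Groth.Agent.H21Root.simpleZ_base (P := P) b) hΔ
  change (fun i => g • i) '' (b.support : Set I) = Δ at hgΔ
  rw [← hgΔ] at ha hs
  obtain ⟨a₀, ha₀, rfl⟩ := ha
  obtain ⟨s₀, hs₀, rfl⟩ := hs
  refine ⟨g, hg, a₀, ha₀, s₀, hs₀, fun h => hne (by rw [h]), fun x hx => ?_⟩
  have hx' : P.root x ∈ RootD.natSpan P ({g • a₀, g • s₀} : Set I) := by
    rcases hx with rfl | rfl
    exacts [hc, hd]
  obtain ⟨i, j, hij⟩ := exists_comb_of_natSpan P hx'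
  have he : P.root (g⁻¹ • x) = (i : ℤ) • P.root a₀ + (j : ℤ) • P.root s₀ := by
    rw [Groth.Agent.H21Root.root_smul, hij, smul_add, ← smul_comm (i : ℤ) g⁻¹, ← smul_comm (j : ℤ) g⁻¹,
      ← Groth.Agent.H21Root.root_smul, ← Groth.Agent.H21Root.root_smul, inv_smul_smul, inv_smul_smul]
  refine ⟨?_, i, j, he⟩
  change P.root (g⁻¹ • x) ∈ RootD.natSpan P _
  rw [he, natCast_zsmul, natCast_zsmul]
  exact add_mem (AddSubmonoid.nsmul_mem _ (Groth.Agent.H21Root.root_mem_natSpan P ha₀) i)
    (AddSubmonoid.nsmul_mem _ (Groth.Agent.H21Root.root_mem_natSpan P hs₀) j)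

end Groth.Agent.H21Split.R3
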