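import Groth.Agent.H21Split.R3.Lines
import Groth.Agent.H21Split.R3.Plane
import Groth.Agent.S8467

/-!
The homomorphism given by a morphism of pinned root data up to powers of `p`.
-/

open CategoryTheory MonoidalCategory CartesianMonoidalCategory MonObj GrpObj AlgebraicGeometry
open CategoryTheory.Limits
open Groth.Agent.H27Witt.GaCoord (gaFn_comp gaFn_surjective gaFn_injective gaFn_one gaFn_mul)
open Groth.Agent.H21Root (sr wl)

universe u

set_option backward.isDefEq.respectTransparency false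
set_option linter.style.haveILetI false
set_option linter.unusedSectionVars false
set_option linter.unusedVariables false
set_option synthInstance.maxHeartbeats 400000
set_option maxHeartbeats 400000

noncomputable section

namespace Groth.Agent.H21Split.R3.PData

variable {S : Scheme.{u}} {G G' : Over S} [GrpObj G] [GrpObj G']
variable {D : Red.Pinning G} {D' : Red.Pinning G'} (Φ : PData D D') [Finite D.idx] [D.P.IsReduced]

theorem tStable_line (c : D.idx) : Φ.TStable (Φ.line c) :=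
  (Φ.tStable_base _).cl (Φ.nt_wW _ (exists_presentation c).choose_spec.1)

/-- a word carries lines to lines -/
theorem cl_line {l : List D.idx} (hl : IsWord D l) (c : D.idx) :
    cl (Φ.wW l) (Φ.line c) = Φ.line (wl D.P l • c) := by
  obtain ⟨h1, h2, h3⟩ := (exists_presentation c).choose_spec
  refine Eq.trans ?_ (Φ.line_eq (l := l ++ (exists_presentation c).choose.1)
    (fun t ht => (List.mem_append.mp ht).elim (hl t) (h1 t)) h2
    (by rw [Groth.Agent.H21Root.wl_append, mul_smul, h3]))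
  rw [cl_append]
  rfl

theorem Table.line_eq {Φ : PData D D'} {a s : D.idx} {tb : List (D.idx × Line D D')} (T : Φ.Table a s tb)
    (ha : a ∈ D.base.support) (hs : s ∈ D.base.support) {e : D.idx × Line D D'} (he : e ∈ tb) :
    e.2 = Φ.line e.1 := by
  obtain ⟨l, α, hl, hα, e1, e2⟩ := T.word e he
  rw [e2]
  exact Φ.line_eq (fun c hc => by rcases hl c hc with rfl | rfl <;> assumption)
    (by rcases hα with rfl | rfl <;> assumption) (by rw [← wordPerm_prod, e1])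

/-- conjugation by a pair over the base, as a homomorphism -/
def cjHom (W : (𝟙_ (Over S) ⟶ G) × (𝟙_ (Over S) ⟶ G')) (X : Over S) :
    (X ⟶ G) × (X ⟶ G') →* (X ⟶ G) × (X ⟶ G') :=
  MonoidHom.mk' (cjp W) fun z w => (conj_mul3 _ _ _).symm

theorem not_opp_li {c d : D.idx} (hne : c ≠ d) (hopp : D.P.root d ≠ -D.P.root c) :
    LinearIndependent ℤ ![D.P.root c, D.P.root d] := by
  by_contra h
  rcases RootPairing.IsReduced.eq_or_eq_neg (P := D.P) c d h with e | e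
  · exact hne (D.P.root.injective e)
  · exact hopp (by rw [e, neg_neg])

/-- the commutator of two root pairs -/
theorem comm {c d : D.idx} (hne : c ≠ d) (hopp : D.P.root d ≠ -D.P.root c) : Φ.sys.Comm c d := by
  haveI := D.finiteM
  haveI := D.freeM
  obtain ⟨g, hg, a, ha, s, hs, has, hspan⟩ := exists_weyl_plane D.P D.base (not_opp_li hne hopp)
  obtain ⟨l, hl, rfl⟩ := Groth.Agent.H21Root.exists_word D.P ((zD D).closure_eq_weylGroup.symm ▸ hg)
  obtain ⟨tb, T⟩ := Φ.exists_table ha hs has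
  obtain ⟨hcp, i, j, hcij⟩ := hspan c (Or.inl rfl)
  obtain ⟨hdp, i', j', hdij⟩ := hspan d (Or.inr rfl)
  obtain ⟨e, he, hec⟩ := T.cover ((wl D.P l)⁻¹ • c) ⟨hcp, i, j, hcij⟩
  obtain ⟨e', he', hed⟩ := T.cover ((wl D.P l)⁻¹ • d) ⟨hdp, i', j', hdij⟩
  intro X x y
  have hx : Φ.sys.U c x ∈ cl (Φ.wW l) e.2 X := by
    rw [T.line_eq ha hs he, Φ.cl_line hl, hec, smul_inv_smul]; exact Φ.pair_mem c x
  have hy : Φ.sys.U d y ∈ cl (Φ.wW l) e'.2 X := by
    rw [T.line_eq ha hs he', Φ.cl_line hl, hed, smul_inv_smul]; exact Φ.pair_mem d y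
  obtain ⟨z, hz, hzx⟩ := hx
  obtain ⟨w, hw, hwy⟩ := hy
  have hne' : e.1 ≠ e'.1 := fun h => hne (by rw [hec, hed] at h; exact smul_left_cancel _ h)
  have h1 := Subgroup.mem_map_of_mem (cjHom (Φ.wW l) X) (T.comm e he e' he' hne' X z hz w hw)
  rw [map_mul, map_mul, map_mul, map_inv, map_inv] at h1
  have ex : cjHom (Φ.wW l) X z = Φ.sys.U c x := hzx
  have ey : cjHom (Φ.wW l) X w = Φ.sys.U d y := hwy
  rw [ex, ey, MonoidHom.map_closure] at h1
  refine Subgroup.closure_mono ?_ h1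
  rintro _ ⟨v, ⟨e₀, he₀, hb, hv⟩, rfl⟩
  have hm : cjHom (Φ.wW l) X v ∈ Φ.line (wl D.P l • e₀.1) X := by
    rw [← Φ.cl_line hl, ← T.line_eq ha hs he₀]
    exact ⟨v, hv, rfl⟩
  obtain ⟨r, hr⟩ := (Φ.mem_line_iff _).mp hm
  refine ⟨wl D.P l • e₀.1, ?_, r, hr.symm⟩
  obtain ⟨m, n, hm1, hn1, hroot⟩ := hb
  refine ⟨m, n, hm1, hn1, ?_⟩
  rw [Groth.Agent.H21Root.root_smul, hroot, hec, hed, smul_add, ← smul_comm m (wl D.P l),
    ← smul_comm n (wl D.P l), ← Groth.Agent.H21Root.root_smul, ← Groth.Agent.H21Root.root_smul, smul_inv_smul,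
    smul_inv_smul]

theorem inj_of_isPosSet {Ψ : Set D.idx} (hΨ : IsPosSet D.P Ψ) : Φ.sys.Inj Ψ :=
  Sys.inj_of_comm hΨ fun c hc d hd hne => Φ.comm hne fun h => hΨ.noNeg c d hc h hd

theorem gen_inv_mem {X : Over S} {z : (X ⟶ G) × (X ⟶ G')} (hz : z ∈ Φ.sys.gen D.base X) :
    z⁻¹ ∈ Φ.sys.gen D.base X := by
  rcases hz with ⟨t, rfl⟩ | ⟨c, hc, x, rfl⟩ | ⟨a, ha, x, rfl⟩
  exacts [Or.inl ⟨t⁻¹, (Φ.sys.Tt_inv t).symm⟩, Or.inr (Or.inl ⟨c, hc, x⁻¹, (Φ.sys.U_inv c x).symm⟩),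
    Or.inr (Or.inr ⟨a, ha, x⁻¹, (Φ.sys.U_inv _ x).symm⟩)]

theorem mem_monoid_closure {X : Over S} {z : (X ⟶ G) × (X ⟶ G')}
    (hz : z ∈ Subgroup.closure (Φ.sys.gen D.base X)) : z ∈ Submonoid.closure (Φ.sys.gen D.base X) := by
  induction hz using Subgroup.closure_induction'' with
  | mem x hx => exact Submonoid.subset_closure hx
  | inv_mem x hx => exact Submonoid.subset_closure (Φ.gen_inv_mem hx)
  | one => exact one_mem _
  | mul x y _ _ hx hy => exact mul_mem hx hy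

theorem L_mem_gen {a : D.idx} (ha : a ∈ D.base.support) {X : Over S} (x : X ⟶ Red.Ga S) :
    Φ.L a x ∈ Subgroup.closure (Φ.sys.gen D.base X) :=
  Subgroup.subset_closure (Or.inr (Or.inl ⟨a, AddSubmonoid.subset_closure ⟨a, ha, rfl⟩, x, Φ.U_simple ha x⟩))

theorem Ln_mem_gen {a : D.idx} (ha : a ∈ D.base.support) {X : Over S} (x : X ⟶ Red.Ga S) :
    Φ.Ln a x ∈ Subgroup.closure (Φ.sys.gen D.base X) :=
  Subgroup.subset_closure (Or.inr (Or.inr ⟨a, ha, x, Φ.U_opp ha x⟩))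

theorem pull_W_mem {a : D.idx} (ha : a ∈ D.base.support) (X : Over S) :
    Sys.pull (toUnit X) (Φ.W a) ∈ Subgroup.closure (Φ.sys.gen D.base X) := by
  rw [W_eq, map_mul, map_mul, map_inv, pull_L]
  refine mul_mem (mul_mem (Φ.L_mem_gen ha _) (inv_mem ?_)) (Φ.L_mem_gen ha _)
  have e : Sys.pull (toUnit X) (Φ.Ln a Φ.e₁) = Φ.Ln a (toUnit X ≫ Φ.e₁) := by
    simp only [Sys.pull_apply, Ln, Category.assoc]
  rw [e]
  exact Φ.Ln_mem_gen ha _

theorem pull_wW_mem (X : Over S) : ∀ l : List D.idx, IsWord D l →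
    Sys.pull (toUnit X) (Φ.wW l) ∈ Subgroup.closure (Φ.sys.gen D.base X)
  | [], _ => by
    rw [show Φ.wW [] = 1 from rfl, map_one]; exact one_mem _
  | a :: l, h => by
    rw [wW_cons, map_mul]
    exact mul_mem (Φ.pull_W_mem (h a List.mem_cons_self) X)
      (pull_wW_mem X l fun c hc => h c (List.mem_cons_of_mem a hc))

theorem U_mem_gen (c : D.idx) {X : Over S} (x : X ⟶ Red.Ga S) :
    Φ.sys.U c x ∈ Subgroup.closure (Φ.sys.gen D.base X) := by
  obtain ⟨hl, ha, -⟩ := (exists_presentation c).choose_spec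
  obtain ⟨z, ⟨y, rfl⟩, hz⟩ := Φ.pair_mem c x
  rw [sys_U, ← hz]
  exact mul_mem (mul_mem (Φ.pull_wW_mem X _ hl) (Φ.L_mem_gen ha y)) (inv_mem (Φ.pull_wW_mem X _ hl))

/-- the hypotheses of the engine -/
theorem rel : Φ.sys.Rel D.base where
  torus c X t x x' h := by
    have hm := Φ.tStable_line c X t _ (Φ.pair_mem c x)
    rw [← sys_Tt] at hm
    obtain ⟨y, hy, hy2⟩ := hpp_root D.toSplitRed c X t x
    have hfst : (Φ.sys.Tt t * Φ.sys.U c x * (Φ.sys.Tt t)⁻¹).1 = x' ≫ D.u c := by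
      rw [gaFn_injective (h.trans hy2.symm)]; exact hy.symm
    have h2 := Φ.eq_pair c hm x' hfst
    rw [sys_U, sys_U]
    exact mul_inv_eq_iff_eq_mul.mp h2
  injPos := Φ.inj_of_isPosSet (isPosSet_posRoots D.base)
  injNeg := Φ.inj_of_isPosSet (isPosSet_negRoots D.base)
  injRefl a ha := Φ.inj_of_isPosSet (isPosSet_reflPos D.base ha)
  rank1 a ha X x y hu := by
    obtain ⟨x', y', z, h⟩ := Φ.rank1 ha X x y hu
    exact ⟨x', y', z ≫ Φ.avc a, by rw [Φ.U_simple ha, Φ.U_opp ha, Φ.U_simple ha, Φ.U_opp ha, sys_Tt, h]⟩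
  negGen c hc X x := Φ.mem_monoid_closure (Φ.U_mem_gen c x)

end Groth.Agent.H21Split.R3.PData

namespace Groth.Agent.H21Split.R3.PData

variable {S : Scheme.{u}} {G G' : Over S} [GrpObj G] [GrpObj G']
variable {D : Red.Pinning G} {D' : Red.Pinning G'} (Φ : PData D D')

/-- what the homomorphism of a morphism of pinned root data satisfies -/
def IsHomOf (f : G ⟶ G') : Prop :=
  IsMonHom f ∧
    D.i ≫ f = D.split.hom.hom.hom ≫ Red.DSmap S Φ.hM.toAddMonoidHom ≫ D'.split.inv.hom.hom ≫ D'.i ∧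
    ∀ a ∈ D.base.support, ∀ (X : Over S) (x y : X ⟶ Red.Ga S), Red.gaFn y = Red.gaFn x ^ Φ.q a →
      (x ≫ D.u a) ≫ f = y ≫ D'.u (Φ.d a) ∧
        (x ≫ D.u (D.P.reflectionPerm a a)) ≫ f = y ≫ D'.u (D'.P.reflectionPerm (Φ.d a) (Φ.d a))

/-- the homomorphism of a morphism of pinned root data -/
theorem existsUnique_isHomOf : ∃! f : G ⟶ G', Φ.IsHomOf f := by
  haveI := D.fintypeIdx
  haveI : Finite D.idx := Finite.of_fintype _
  haveI : D.P.IsReduced := isReduced_of_base D.P D.base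
  obtain ⟨f, ⟨hf, hfT, hfu⟩, -⟩ := Φ.rel.existsUnique_hom
  haveI := hf
  have hfT' : D.i ≫ f = D.split.hom.hom.hom ≫ Red.DSmap S Φ.hM.toAddMonoidHom ≫ D'.split.inv.hom.hom ≫ D'.i :=
    hfT.trans (by simp only [sys, fT₀, Category.assoc])
  have hf2 : Φ.IsHomOf f := by
    refine ⟨hf, hfT', fun a ha X x y hy => ?_⟩
    have e : x ≫ Φ.fr a = y := gaFn_injective (by rw [gaFn_fr, hy])
    have h1 := congrArg Prod.snd (Φ.U_simple ha x)
    have h2 := congrArg Prod.snd (Φ.U_opp ha x)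
    rw [← e]
    refine ⟨(Category.assoc _ _ _).trans ?_, (Category.assoc _ _ _).trans ?_⟩
    · rw [hfu a]; exact h1
    · rw [hfu (D.P.reflectionPerm a a)]; exact h2
  refine ⟨f, hf2, ?_⟩
  rintro f' ⟨hf', hT', hu'⟩
  haveI := hf'
  have hroot : ∀ a ∈ D.base.support, D.u a ≫ f' = D.u a ≫ f ∧
      D.u (D.P.reflectionPerm a a) ≫ f' = D.u (D.P.reflectionPerm a a) ≫ f := by
    intro a ha
    have hy : Red.gaFn (Φ.fr a) = Red.gaFn (𝟙 (Red.Ga S)) ^ Φ.q a := by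
      rw [← gaFn_fr, Category.id_comp]
    obtain ⟨h1, h2⟩ := hu' a ha _ _ _ hy
    obtain ⟨g1, g2⟩ := hf2.2.2 a ha _ _ _ hy
    rw [Category.id_comp] at h1 h2 g1 g2
    exact ⟨h1.trans g1.symm, h2.trans g2.symm⟩
  refine S8467.result S Φ.e₁ Φ.he₁ G D Φ.avc Φ.havc Φ.hpair
    (fun a => (Φ.e₁ ≫ D.u a) * (Φ.e₁ ≫ D.u (D.P.reflectionPerm a a))⁻¹ * (Φ.e₁ ≫ D.u a)) (fun _ => rfl) G' f' f
    (hT'.trans hfT'.symm) (fun a ha => (hroot a ha).1) fun a ha => ?_
  simp only [MonObj.mul_comp, GrpObj.inv_comp, Category.assoc, (hroot a ha).1, (hroot a ha).2]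

end Groth.Agent.H21Split.R3.PData
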