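import Groth.Agent.H21Split.R3.Engine
import Groth.Agent.H21Split.R2.ChevExist
import Groth.Agent.H21Split.PinWeyl

/-!
A morphism of pinned root data up to powers of `p`: the induced map on the tori, the power map on the additive
group, and the pairs of root points of the simple roots and their opposites.
-/

open CategoryTheory MonoidalCategory CartesianMonoidalCategory MonObj GrpObj AlgebraicGeometry
open CategoryTheory.Limits
open Groth.Agent.H27Witt.GaCoord (gaFn_comp gaFn_surjective gaFn_injective gaFn_one gaFn_mul)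
open Groth.Agent.H21Split.R2 (phi DSmap_comp)

universe u

set_option backward.isDefEq.respectTransparency false
set_option linter.style.haveILetI false
set_option linter.unusedSectionVars false
set_option linter.unusedVariables false
set_option synthInstance.maxHeartbeats 400000
set_option maxHeartbeats 400000

noncomputable section

namespace Groth.Agent.H21Split.R3

variable {S : Scheme.{u}} {G G' : Over S} [GrpObj G] [GrpObj G']

/-- the rank one relations of the simple roots of a pinning -/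
def PairHyp (D : Red.Pinning G) (avc : D.idx → (Red.Gm S ⟶ D.T)) : Prop :=
  ∀ a ∈ D.base.support, ∀ (X : Over S) (x y : X ⟶ Red.Ga S), IsUnit (1 + Red.gaFn x * Red.gaFn y) →
    ∃ (x' y' : X ⟶ Red.Ga S) (z : X ⟶ Red.Gm S), Red.gmFn z = 1 + Red.gaFn x * Red.gaFn y ∧
      Red.gaFn x' * Red.gmFn z = Red.gaFn x ∧ Red.gaFn y' * Red.gmFn z = Red.gaFn y ∧
      (x ≫ D.u a) * (y ≫ D.u (D.P.reflectionPerm a a)) =
        (y' ≫ D.u (D.P.reflectionPerm a a)) * (z ≫ avc a ≫ D.i) * (x' ≫ D.u a)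

/-- a morphism of pinned root data up to powers of `p` -/
structure PData (D : Red.Pinning G) (D' : Red.Pinning G') where
  e₁ : 𝟙_ (Over S) ⟶ Red.Ga S
  he₁ : Red.gaFn e₁ = 1
  avc : D.idx → (Red.Gm S ⟶ D.T)
  havc : ∀ a, avc a = Red.DSmap S (D.P.coroot a).toAddMonoidHom ≫ D.split.inv.hom.hom
  hpair : PairHyp D avc
  avc' : D'.idx → (Red.Gm S ⟶ D'.T)
  havc' : ∀ a, avc' a = Red.DSmap S (D'.P.coroot a).toAddMonoidHom ≫ D'.split.inv.hom.hom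
  hpair' : PairHyp D' avc'
  p : ℕ
  hp0 : 0 < p
  hp : ∀ (X : Over S) (a b : Γ(X.left, ⊤)), (a + b) ^ p = a ^ p + b ^ p
  hM : D'.M →ₗ[ℤ] D.M
  d : D.idx ≃ D'.idx
  q : D.idx → ℕ
  hq : ∀ a, ∃ n : ℕ, q a = p ^ n
  hroot : ∀ a, hM (D'.P.root (d a)) = (q a : ℤ) • D.P.root a
  hcoroot : ∀ a, hM.dualMap (D.P.coroot a) = (q a : ℤ) • D'.P.coroot (d a)
  hΔ : ∀ a, a ∈ D.base.support ↔ d a ∈ D'.base.support

theorem map_nsmul_pow {A B : Type*} [AddMonoid A] [Monoid B] (f : A → B) (h0 : f 0 = 1)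
    (ha : ∀ x y, f (x + y) = f x * f y) (x : A) (n : ℕ) : f (n • x) = f x ^ n := by
  induction n with
  | zero => rw [zero_smul, h0, pow_zero]
  | succ n ih => rw [succ_nsmul, ha, ih, pow_succ]

theorem map_pow_pow {A B : Type*} [Monoid A] [Monoid B] (f : A → B) (h0 : f 1 = 1)
    (ha : ∀ x y, f (x * y) = f x * f y) (x : A) (n : ℕ) : f (x ^ n) = f x ^ n := by
  induction n with
  | zero => rw [pow_zero, pow_zero, h0]
  | succ n ih => rw [pow_succ, pow_succ, ha, ih]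

theorem DSmap_nsmul {M N : Type} [AddCommGroup M] [AddCommGroup N] (φ : M →+ N) (n : ℕ) :
    Red.DSmap S (n • φ) = (Red.DSmap S φ) ^ n :=
  map_nsmul_pow (Red.DSmap S) DSmap_zero DSmap_add φ n

theorem comp_pow' {X Y Z : Over S} [GrpObj Z] (f : X ⟶ Y) (g : Y ⟶ Z) (n : ℕ) : f ≫ (g ^ n) = (f ≫ g) ^ n := by
  induction n with
  | zero => rw [pow_zero, pow_zero, MonObj.comp_one]
  | succ n ih => rw [pow_succ, pow_succ, MonObj.comp_mul, ih]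

theorem pow_comp' {X Y Z : Over S} [GrpObj Y] [GrpObj Z] (f : X ⟶ Y) (g : Y ⟶ Z) [IsMonHom g] (n : ℕ) :
    (f ^ n) ≫ g = (f ≫ g) ^ n := by
  induction n with
  | zero => rw [pow_zero, pow_zero, MonObj.one_comp]
  | succ n ih => rw [pow_succ, pow_succ, MonObj.mul_comp, ih]

theorem gmFn_pow {X : Over S} (x : X ⟶ Red.Gm S) (n : ℕ) : Red.gmFn (x ^ n) = Red.gmFn x ^ n :=
  map_pow_pow Red.gmFn H21Rank1.gmFn_one H21Rank1.gmFn_mul x n

namespace PData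

variable {D : Red.Pinning G} {D' : Red.Pinning G'} (Φ : PData D D')

theorem q_pos (a : D.idx) : 0 < Φ.q a := by
  obtain ⟨n, hn⟩ := Φ.hq a
  rw [hn]; exact pow_pos Φ.hp0 n

theorem add_pow_q (a : D.idx) (X : Over S) (x y : Γ(X.left, ⊤)) : (x + y) ^ Φ.q a = x ^ Φ.q a + y ^ Φ.q a := by
  obtain ⟨n, hn⟩ := Φ.hq a
  rw [hn]
  clear hn
  induction n generalizing x y with
  | zero => simp
  | succ n ih => rw [pow_succ, pow_mul, pow_mul, pow_mul, ← Φ.hp, ← ih]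

theorem neg_one_pow_q (a : D.idx) (X : Over S) : (-1 : Γ(X.left, ⊤)) ^ Φ.q a = -1 := by
  have h := Φ.add_pow_q a X 1 (-1)
  rw [add_neg_cancel, zero_pow (Φ.q_pos a).ne', one_pow] at h
  exact (neg_eq_of_add_eq_zero_right h.symm).symm

theorem natCast_pow_q (a : D.idx) (X : Over S) (n : ℕ) : (n : Γ(X.left, ⊤)) ^ Φ.q a = n := by
  induction n with
  | zero => rw [Nat.cast_zero, zero_pow (Φ.q_pos a).ne']
  | succ n ih => rw [Nat.cast_succ, Φ.add_pow_q, ih, one_pow]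

theorem neg_pow_q (a : D.idx) {X : Over S} (x : Γ(X.left, ⊤)) : (-x) ^ Φ.q a = -(x ^ Φ.q a) := by
  rw [← neg_one_mul, mul_pow, Φ.neg_one_pow_q, neg_one_mul]

/-- the power map of the additive group -/
def fr (a : D.idx) : Red.Ga S ⟶ Red.Ga S :=
  (gaFn_surjective (Red.gaFn (𝟙 (Red.Ga S)) ^ Φ.q a)).choose

theorem gaFn_fr (a : D.idx) {X : Over S} (x : X ⟶ Red.Ga S) : Red.gaFn (x ≫ Φ.fr a) = Red.gaFn x ^ Φ.q a := by
  rw [gaFn_comp, show Red.gaFn (Φ.fr a) = Red.gaFn (𝟙 (Red.Ga S)) ^ Φ.q a from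
    (gaFn_surjective (Red.gaFn (𝟙 (Red.Ga S)) ^ Φ.q a)).choose_spec, map_pow, ← gaFn_comp, Category.comp_id]

instance isMonHom_fr (a : D.idx) : IsMonHom (Φ.fr a) :=
  H21Diag.isMonHom_of_mul _ fun {Y} x y => gaFn_injective (by
    rw [gaFn_fr, gaFn_mul, gaFn_mul, gaFn_fr, gaFn_fr, Φ.add_pow_q])

/-- the induced map of tori -/
def fT₀ : D.T ⟶ D'.T :=
  D.split.hom.hom.hom ≫ Red.DSmap S Φ.hM.toAddMonoidHom ≫ D'.split.inv.hom.hom

instance isMonHom_fT₀ : IsMonHom Φ.fT₀ :=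
  haveI := H21Diag.isMonHom_DSmap S Φ.hM.toAddMonoidHom
  inferInstanceAs (IsMonHom (_ ≫ _ ≫ _))

theorem chi_fT₀ (a : D.idx) {X : Over S} (t : X ⟶ D.T) :
    Red.gmFn ((t ≫ Φ.fT₀) ≫ D'.split.hom.hom.hom ≫ Red.chi S (D'.P.root (Φ.d a))) =
      Red.gmFn (t ≫ D.split.hom.hom.hom ≫ Red.chi S (D.P.root a)) ^ Φ.q a := by
  refine (congrArg Red.gmFn (?_ : _ = (t ≫ D.split.hom.hom.hom ≫ Red.chi S (D.P.root a)) ^ Φ.q a)).trans
    (gmFn_pow _ _)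
  refine Eq.trans ?_ ((congrArg (fun z => t ≫ z) (comp_pow' D.split.hom.hom.hom (Red.chi S (D.P.root a)) (Φ.q a))).trans
    (comp_pow' t (D.split.hom.hom.hom ≫ Red.chi S (D.P.root a)) (Φ.q a)))
  simp only [fT₀, Category.assoc]
  rw [reassoc_of% (split_inv_hom D'.toSplitRed)]
  refine congrArg (fun z => t ≫ D.split.hom.hom.hom ≫ z) ?_
  refine Eq.trans (DSmap_comp _ _) (Eq.trans ?_ (DSmap_nsmul (zmultiplesHom D.M (D.P.root a)) (Φ.q a)))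
  refine congrArg (Red.DSmap S) (AddMonoidHom.ext_int ?_)
  simp [Φ.hroot]

theorem pairing_compat (a b : D.idx) :
    (Φ.q b : ℤ) * D.P.pairing b a = (Φ.q a : ℤ) * D'.P.pairing (Φ.d b) (Φ.d a) := by
  have h := congrArg (fun f => f (D'.P.root (Φ.d b))) (Φ.hcoroot a)
  change D.P.coroot a (Φ.hM (D'.P.root (Φ.d b))) = ((Φ.q a : ℤ) • D'.P.coroot (Φ.d a)) (D'.P.root (Φ.d b)) at h
  rw [Φ.hroot, map_smul, coroot_apply D.toSplitRed, D.P.root_coroot'_eq_pairing, LinearMap.smul_apply,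
    coroot_apply D'.toSplitRed, D'.P.root_coroot'_eq_pairing, smul_eq_mul, smul_eq_mul] at h
  exact h

theorem hM_reflection (a : D.idx) (m : D'.M) :
    Φ.hM (D'.P.reflection (Φ.d a) m) = D.P.reflection a (Φ.hM m) := by
  have h := congrArg (fun f => f m) (Φ.hcoroot a)
  change D.P.coroot a (Φ.hM m) = ((Φ.q a : ℤ) • D'.P.coroot (Φ.d a)) m at h
  rw [reflection_apply' D'.toSplitRed, reflection_apply' D.toSplitRed, h, map_sub, map_smul, Φ.hroot,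
    LinearMap.smul_apply, smul_smul, smul_eq_mul, mul_comm]

theorem phi_fT₀ (a : D.idx) : phi D.toSplitRed a ≫ Φ.fT₀ = Φ.fT₀ ≫ phi D'.toSplitRed (Φ.d a) := by
  simp only [phi, fT₀, Category.assoc]
  rw [reassoc_of% (split_inv_hom D.toSplitRed), reassoc_of% (split_inv_hom D'.toSplitRed),
    reassoc_of% (DSmap_comp (S := S)), reassoc_of% (DSmap_comp (S := S))]
  congr 3
  exact AddMonoidHom.ext fun m => (Φ.hM_reflection a m).symm

theorem avc_fT₀ (a : D.idx) {X : Over S} (z : X ⟶ Red.Gm S) :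
    (z ≫ Φ.avc a) ≫ Φ.fT₀ = (z ^ Φ.q a) ≫ Φ.avc' (Φ.d a) := by
  haveI : IsMonHom (Φ.avc' (Φ.d a)) := by
    rw [Φ.havc']
    haveI := H21Diag.isMonHom_DSmap S (D'.P.coroot (Φ.d a)).toAddMonoidHom
    infer_instance
  refine Eq.trans ?_ ((comp_pow' z _ (Φ.q a)).trans (pow_comp' z (Φ.avc' (Φ.d a)) (Φ.q a)).symm)
  rw [Category.assoc]
  congr 1
  rw [Φ.havc, Φ.havc', fT₀]
  simp only [Category.assoc]
  rw [reassoc_of% (split_inv_hom D.toSplitRed), reassoc_of% (DSmap_comp (S := S))]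
  haveI := H21Diag.isMonHom_DSmap S (D'.P.coroot (Φ.d a)).toAddMonoidHom
  refine Eq.trans ?_ (pow_comp' _ _ _)
  refine congrArg (fun f => f ≫ D'.split.inv.hom.hom) (Eq.trans ?_ (DSmap_nsmul _ _))
  congr 1
  refine AddMonoidHom.ext fun m => ?_
  have h := congrArg (fun f => f m) (Φ.hcoroot a)
  change D.P.coroot a (Φ.hM m) = ((Φ.q a : ℤ) • D'.P.coroot (Φ.d a)) m at h
  change D.P.coroot a (Φ.hM m) = (Φ.q a • (D'.P.coroot (Φ.d a)).toAddMonoidHom) m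
  rw [h, LinearMap.smul_apply, AddMonoidHom.smul_apply, natCast_zsmul]
  rfl

/-- the pair of a point of the torus -/
def T2 {X : Over S} (t : X ⟶ D.T) : (X ⟶ G) × (X ⟶ G') := (t ≫ D.i, (t ≫ Φ.fT₀) ≫ D'.i)

/-- the pair of a point of the root group of `a` -/
def L (a : D.idx) {X : Over S} (x : X ⟶ Red.Ga S) : (X ⟶ G) × (X ⟶ G') :=
  (x ≫ D.u a, (x ≫ Φ.fr a) ≫ D'.u (Φ.d a))

/-- the pair of a point of the root group of the opposite of `a` -/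
def Ln (a : D.idx) {X : Over S} (x : X ⟶ Red.Ga S) : (X ⟶ G) × (X ⟶ G') :=
  (x ≫ D.u (D.P.reflectionPerm a a), (x ≫ Φ.fr a) ≫ D'.u (D'.P.reflectionPerm (Φ.d a) (Φ.d a)))

theorem T2_mul {X : Over S} (s t : X ⟶ D.T) : Φ.T2 (s * t) = Φ.T2 s * Φ.T2 t :=
  Prod.ext (MonObj.mul_comp _ _ _) (by
    change ((s * t) ≫ Φ.fT₀) ≫ D'.i = _
    rw [MonObj.mul_comp, MonObj.mul_comp]; rfl)

theorem T2_one {X : Over S} : Φ.T2 (1 : X ⟶ D.T) = 1 :=
  Prod.ext (MonObj.one_comp _) (by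
    change ((1 : X ⟶ D.T) ≫ Φ.fT₀) ≫ D'.i = 1
    rw [MonObj.one_comp, MonObj.one_comp])

theorem L_mul (a : D.idx) {X : Over S} (x y : X ⟶ Red.Ga S) : Φ.L a (x * y) = Φ.L a x * Φ.L a y := by
  haveI : IsMonHom (Φ.fr a) := Φ.isMonHom_fr a
  exact Prod.ext (MonObj.mul_comp _ _ _)
    ((congrArg (fun z => z ≫ D'.u (Φ.d a)) (MonObj.mul_comp x y (Φ.fr a))).trans (MonObj.mul_comp _ _ _))

theorem L_one (a : D.idx) {X : Over S} : Φ.L a (1 : X ⟶ Red.Ga S) = 1 := by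
  haveI : IsMonHom (Φ.fr a) := Φ.isMonHom_fr a
  exact Prod.ext (MonObj.one_comp _)
    ((congrArg (fun z => z ≫ D'.u (Φ.d a)) (MonObj.one_comp (Φ.fr a))).trans (MonObj.one_comp _))

theorem L_inv (a : D.idx) {X : Over S} (x : X ⟶ Red.Ga S) : (Φ.L a x)⁻¹ = Φ.L a x⁻¹ :=
  inv_eq_of_mul_eq_one_right (by rw [← L_mul, mul_inv_cancel, L_one])

theorem pull_L (a : D.idx) {X Y : Over S} (f : Y ⟶ X) (x : X ⟶ Red.Ga S) :
    Sys.pull f (Φ.L a x) = Φ.L a (f ≫ x) := by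
  simp only [Sys.pull_apply, L, Category.assoc]

theorem pull_T2 {X Y : Over S} (f : Y ⟶ X) (t : X ⟶ D.T) : Sys.pull f (Φ.T2 t) = Φ.T2 (f ≫ t) := by
  simp only [Sys.pull_apply, T2, Category.assoc]

/-- a torus pair normalises the pair line of a root -/
theorem T2_L (a : D.idx) {X : Over S} (t : X ⟶ D.T) (x x' : X ⟶ Red.Ga S)
    (h : Red.gaFn x' = Red.gmFn (t ≫ D.split.hom.hom.hom ≫ Red.chi S (D.P.root a)) * Red.gaFn x) :
    Φ.T2 t * Φ.L a x * (Φ.T2 t)⁻¹ = Φ.L a x' := by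
  refine Prod.ext ?_ ?_
  · obtain ⟨y, hy, hy2⟩ := hpp_root D.toSplitRed a X t x
    rw [gaFn_injective (h.trans hy2.symm)]
    exact hy.symm
  · obtain ⟨y, hy, hy2⟩ := hpp_root D'.toSplitRed (Φ.d a) X (t ≫ Φ.fT₀) (x ≫ Φ.fr a)
    rw [Φ.chi_fT₀, gaFn_fr, ← mul_pow, ← h, ← gaFn_fr] at hy2
    rw [gaFn_injective hy2] at hy
    exact hy.symm

/-- the Weyl point of a simple root, as a pair over the base -/
def W (a : D.idx) : (𝟙_ (Over S) ⟶ G) × (𝟙_ (Over S) ⟶ G') :=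
  ((Φ.e₁ ≫ D.u a) * (Φ.e₁ ≫ D.u (D.P.reflectionPerm a a))⁻¹ * (Φ.e₁ ≫ D.u a),
    (Φ.e₁ ≫ D'.u (Φ.d a)) * (Φ.e₁ ≫ D'.u (D'.P.reflectionPerm (Φ.d a) (Φ.d a)))⁻¹ * (Φ.e₁ ≫ D'.u (Φ.d a)))

theorem e₁_fr (a : D.idx) : Φ.e₁ ≫ Φ.fr a = Φ.e₁ := gaFn_injective (by rw [gaFn_fr, Φ.he₁, one_pow])

theorem W_eq (a : D.idx) : Φ.W a = Φ.L a Φ.e₁ * (Φ.Ln a Φ.e₁)⁻¹ * Φ.L a Φ.e₁ := by
  refine Prod.ext rfl ?_
  simp only [W, L, Ln, Prod.snd_mul, Prod.snd_inv, e₁_fr]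

/-- the Weyl pair acts on the torus pairs by the reflection -/
theorem W_T2 {a : D.idx} (ha : a ∈ D.base.support) {X : Over S} (t : X ⟶ D.T) :
    Sys.pull (toUnit X) (Φ.W a) * Φ.T2 t * (Sys.pull (toUnit X) (Φ.W a))⁻¹ = Φ.T2 (t ≫ phi D.toSplitRed a) := by
  refine Prod.ext ?_ ?_
  · have h := weyl_acts D.toSplitRed Φ.e₁ Φ.he₁ a (Φ.avc a) (Φ.havc a) (Φ.hpair a ha) X t
    refine h.trans ?_
    simp only [T2, phi, Category.assoc]
  · have h := weyl_acts D'.toSplitRed Φ.e₁ Φ.he₁ (Φ.d a) (Φ.avc' _) (Φ.havc' _) (Φ.hpair' _ ((Φ.hΔ a).mp ha)) X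
      (t ≫ Φ.fT₀)
    refine h.trans ?_
    simp only [T2, Category.assoc]
    rw [reassoc_of% (Φ.phi_fT₀ a)]
    simp only [phi, Category.assoc]

/-- rank one -/
theorem rank1 {a : D.idx} (ha : a ∈ D.base.support) (X : Over S) (x y : X ⟶ Red.Ga S)
    (hu : IsUnit (1 + Red.gaFn x * Red.gaFn y)) :
    ∃ (x' y' : X ⟶ Red.Ga S) (z : X ⟶ Red.Gm S), Φ.L a x * Φ.Ln a y = Φ.Ln a y' * Φ.T2 (z ≫ Φ.avc a) * Φ.L a x' := by
  obtain ⟨x', y', z, hz, hx', hy', he⟩ := Φ.hpair a ha X x y hu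
  have hu' : IsUnit (1 + Red.gaFn (x ≫ Φ.fr a) * Red.gaFn (y ≫ Φ.fr a)) := by
    rw [gaFn_fr, gaFn_fr, ← mul_pow, ← one_pow (Φ.q a), ← Φ.add_pow_q]
    exact hu.pow _
  obtain ⟨x₂, y₂, z₂, hz₂, hx₂, hy₂, he'⟩ := Φ.hpair' (Φ.d a) ((Φ.hΔ a).mp ha) X (x ≫ Φ.fr a) (y ≫ Φ.fr a) hu'
  have ez : z₂ = z ^ Φ.q a := H21Rank1.gmFn_injective (by
    rw [gmFn_pow, hz₂, hz, Φ.add_pow_q, one_pow, mul_pow, gaFn_fr, gaFn_fr])
  have hu2 : IsUnit (Red.gmFn z₂) := H21Rank1.isUnit_gmFn z₂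
  have ex : x₂ = x' ≫ Φ.fr a := gaFn_injective (hu2.mul_right_cancel (by
    rw [hx₂, gaFn_fr, gaFn_fr, ez, gmFn_pow, ← mul_pow, hx']))
  have ey : y₂ = y' ≫ Φ.fr a := gaFn_injective (hu2.mul_right_cancel (by
    rw [hy₂, gaFn_fr, gaFn_fr, ez, gmFn_pow, ← mul_pow, hy']))
  refine ⟨x', y', z, Prod.ext ?_ ?_⟩
  · simpa [L, Ln, T2, Category.assoc] using he
  · rw [ex, ey, ez, ← Category.assoc (z ^ Φ.q a), ← Φ.avc_fT₀ a z] at he'
    simpa [L, Ln, T2, Category.assoc] using he'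

end PData

end Groth.Agent.H21Split.R3
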