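import Groth.Agent.H21Split.Words
import Groth.Agent.H21Split.HomExt

/-!
Pairs of points of a split group and of a target group attached to the root groups and the torus; the groups
generated by the pairs along a set of roots.
-/

open CategoryTheory MonoidalCategory CartesianMonoidalCategory MonObj GrpObj AlgebraicGeometry
open CategoryTheory.Limits
open Groth.Agent.H27Witt.GaCoord (gaFn_comp gaFn_surjective gaFn_injective)

universe u

set_option backward.isDefEq.respectTransparency false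
set_option linter.style.haveILetI false
set_option linter.unusedSectionVars false
set_option linter.unusedVariables false
set_option synthInstance.maxHeartbeats 400000

noncomputable section

namespace Groth.Agent.H21Split.R3

variable {S : Scheme.{u}} {G : Over S} [GrpObj G]

/-- images of the torus and of the root groups in another group -/
structure Sys (D : Red.SplitRed G) (H : Over S) [GrpObj H] where
  φ : D.idx → (Red.Ga S ⟶ H)
  hφ : ∀ c, IsMonHom (φ c)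
  fT : D.T ⟶ H
  hfT : IsMonHom fT

variable {D : Red.SplitRed G} {H : Over S} [GrpObj H] (Q : Sys D H)

namespace Sys

/-- the pair of a root point -/
def U (c : D.idx) {X : Over S} (x : X ⟶ Red.Ga S) : (X ⟶ G) × (X ⟶ H) := (x ≫ D.u c, x ≫ Q.φ c)

/-- the pair of a torus point -/
def Tt {X : Over S} (t : X ⟶ D.T) : (X ⟶ G) × (X ⟶ H) := (t ≫ D.i, t ≫ Q.fT)

/-- restriction of pairs -/
def pull {X Y : Over S} (f : Y ⟶ X) : (X ⟶ G) × (X ⟶ H) →* (Y ⟶ G) × (Y ⟶ H) :=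
  MonoidHom.mk' (fun z => (f ≫ z.1, f ≫ z.2)) fun z w => Prod.ext (MonObj.comp_mul _ _ _) (MonObj.comp_mul _ _ _)

theorem pull_apply {X Y : Over S} (f : Y ⟶ X) (z : (X ⟶ G) × (X ⟶ H)) : pull f z = (f ≫ z.1, f ≫ z.2) := rfl

theorem pull_U (c : D.idx) {X Y : Over S} (f : Y ⟶ X) (x : X ⟶ Red.Ga S) : pull f (Q.U c x) = Q.U c (f ≫ x) := by
  rw [pull_apply, U, U, Category.assoc, Category.assoc]

theorem pull_Tt {X Y : Over S} (f : Y ⟶ X) (t : X ⟶ D.T) : pull f (Q.Tt t) = Q.Tt (f ≫ t) := by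
  rw [pull_apply, Tt, Tt, Category.assoc, Category.assoc]

theorem U_mul (c : D.idx) {X : Over S} (x y : X ⟶ Red.Ga S) : Q.U c (x * y) = Q.U c x * Q.U c y := by
  haveI := Q.hφ c
  exact Prod.ext (MonObj.mul_comp _ _ _) (MonObj.mul_comp _ _ _)

theorem U_one (c : D.idx) {X : Over S} : Q.U c (1 : X ⟶ Red.Ga S) = 1 := by
  haveI := Q.hφ c
  exact Prod.ext (MonObj.one_comp _) (MonObj.one_comp _)

theorem U_inv (c : D.idx) {X : Over S} (x : X ⟶ Red.Ga S) : (Q.U c x)⁻¹ = Q.U c x⁻¹ :=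
  inv_eq_of_mul_eq_one_right (by rw [← U_mul, mul_inv_cancel, U_one])

theorem Tt_mul {X : Over S} (s t : X ⟶ D.T) : Q.Tt (s * t) = Q.Tt s * Q.Tt t := by
  haveI := Q.hfT
  exact Prod.ext (MonObj.mul_comp _ _ _) (MonObj.mul_comp _ _ _)

theorem Tt_one {X : Over S} : Q.Tt (1 : X ⟶ D.T) = 1 := by
  haveI := Q.hfT
  exact Prod.ext (MonObj.one_comp _) (MonObj.one_comp _)

theorem Tt_inv {X : Over S} (t : X ⟶ D.T) : (Q.Tt t)⁻¹ = Q.Tt t⁻¹ :=
  inv_eq_of_mul_eq_one_right (by rw [← Tt_mul, mul_inv_cancel, Tt_one])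

/-- the group generated by the pairs along a set of roots -/
def grp (Ψ : Set D.idx) (X : Over S) : Subgroup ((X ⟶ G) × (X ⟶ H)) :=
  Subgroup.closure {z | ∃ c ∈ Ψ, ∃ x : X ⟶ Red.Ga S, Q.U c x = z}

theorem U_mem {Ψ : Set D.idx} {c : D.idx} (hc : c ∈ Ψ) {X : Over S} (x : X ⟶ Red.Ga S) : Q.U c x ∈ Q.grp Ψ X :=
  Subgroup.subset_closure ⟨c, hc, x, rfl⟩

theorem grp_mono {Ψ Ψ' : Set D.idx} (h : Ψ ⊆ Ψ') (X : Over S) : Q.grp Ψ X ≤ Q.grp Ψ' X :=
  Subgroup.closure_mono fun _ ⟨c, hc, x, e⟩ => ⟨c, h hc, x, e⟩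

/-- the ordered product of root pairs -/
def P {m : ℕ} (e : Fin m → D.idx) {X : Over S} (z : Fin m → (X ⟶ Red.Ga S)) : (X ⟶ G) × (X ⟶ H) :=
  (List.ofFn fun k => Q.U (e k) (z k)).prod

theorem P_fst {m : ℕ} (e : Fin m → D.idx) {X : Over S} (z : Fin m → (X ⟶ Red.Ga S)) :
    (Q.P e z).1 = xProd D e z := by
  rw [P, ← MonoidHom.coe_fst, map_prod_ofFn]
  rfl

theorem P_snd {m : ℕ} (e : Fin m → D.idx) {X : Over S} (z : Fin m → (X ⟶ Red.Ga S)) :
    (Q.P e z).2 = (List.ofFn fun k => z k ≫ Q.φ (e k)).prod := by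
  rw [P, ← MonoidHom.coe_snd, map_prod_ofFn]
  rfl

theorem P_mem {Ψ : Set D.idx} {m : ℕ} (e : Fin m → D.idx) (he : ∀ k, e k ∈ Ψ) {X : Over S}
    (z : Fin m → (X ⟶ Red.Ga S)) : Q.P e z ∈ Q.grp Ψ X :=
  Subgroup.list_prod_mem _ fun w hw => by
    obtain ⟨k, rfl⟩ := List.mem_ofFn.mp hw
    exact Q.U_mem (he k) _

theorem pull_P {m : ℕ} (e : Fin m → D.idx) {X Y : Over S} (f : Y ⟶ X) (z : Fin m → (X ⟶ Red.Ga S)) :
    pull f (Q.P e z) = Q.P e fun k => f ≫ z k := by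
  rw [P, P, map_prod_ofFn]
  simp only [pull_U]

theorem pull_mem {Ψ : Set D.idx} {X Y : Over S} (f : Y ⟶ X) {z : (X ⟶ G) × (X ⟶ H)} (hz : z ∈ Q.grp Ψ X) :
    pull f z ∈ Q.grp Ψ Y := by
  induction hz using Subgroup.closure_induction with
  | mem z hz =>
    obtain ⟨c, hc, x, rfl⟩ := hz
    rw [pull_U]
    exact Q.U_mem hc _
  | one => rw [map_one]; exact one_mem _
  | mul a b _ _ ha hb => rw [map_mul]; exact mul_mem ha hb
  | inv a _ ha => rw [map_inv]; exact inv_mem ha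

/-- the second member of a pair along `Ψ` is determined by the first -/
def Inj (Ψ : Set D.idx) : Prop :=
  ∀ (X : Over S) (z : (X ⟶ G) × (X ⟶ H)), z ∈ Q.grp Ψ X → z.1 = 1 → z = 1

variable {Q}

theorem Inj.eq {Ψ : Set D.idx} (h : Q.Inj Ψ) {X : Over S} {z w : (X ⟶ G) × (X ⟶ H)} (hz : z ∈ Q.grp Ψ X)
    (hw : w ∈ Q.grp Ψ X) (e : z.1 = w.1) : z = w :=
  mul_inv_eq_one.mp (h X _ (mul_mem hz (inv_mem hw)) (by rw [Prod.fst_mul, Prod.fst_inv, e, mul_inv_cancel]))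

variable (Q) in
theorem exists_xProd {Ψ : Set D.idx} (hΨ : IsPosSet D.P Ψ) {m : ℕ} (e : Fin m → D.idx)
    (he : RedSub.Enumerates Ψ e) {X : Over S} {z : (X ⟶ G) × (X ⟶ H)} (hz : z ∈ Q.grp Ψ X) :
    ∃ x : Fin m → (X ⟶ Red.Ga S), z.1 = xProd D e x := by
  induction hz using Subgroup.closure_induction with
  | mem z hz =>
    obtain ⟨c, hc, x, rfl⟩ := hz
    obtain ⟨y, hy⟩ := exists_reorder_global D hΨ e he.1 he.2 ![c] (fun k => by fin_cases k; exact hc) ![x]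
    exact ⟨y, by rw [hy, xProd]; simp [U]⟩
  | one => exact ⟨fun _ => 1, (xProd_one D e _ fun _ => rfl).symm⟩
  | mul a b _ _ ha hb =>
    obtain ⟨x, hx⟩ := ha
    obtain ⟨y, hy⟩ := hb
    obtain ⟨w, hw⟩ := exists_mul D hΨ e he.1 he.2 x y
    exact ⟨w, by rw [Prod.fst_mul, hx, hy, hw]⟩
  | inv a _ ha =>
    obtain ⟨x, hx⟩ := ha
    obtain ⟨w, hw⟩ := exists_inverse D hΨ e he.1 he.2 x
    exact ⟨w, by rw [Prod.fst_inv, hx, hw]⟩

/-- every pair along `Ψ` is an ordered product -/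
theorem Inj.exists_P {Ψ : Set D.idx} (h : Q.Inj Ψ) (hΨ : IsPosSet D.P Ψ) {m : ℕ} (e : Fin m → D.idx)
    (he : RedSub.Enumerates Ψ e) {X : Over S} {z : (X ⟶ G) × (X ⟶ H)} (hz : z ∈ Q.grp Ψ X) :
    ∃ x : Fin m → (X ⟶ Red.Ga S), z = Q.P e x := by
  obtain ⟨x, hx⟩ := Q.exists_xProd hΨ e he hz
  exact ⟨x, h.eq hz (Q.P_mem e (fun k => he.2 ▸ ⟨k, rfl⟩) x) (by rw [hx, P_fst])⟩

/-- the roots `i a + j b` with `i, j ≥ 1` -/
def between (D : Red.SplitRed G) (a b : D.idx) : Set D.idx :=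
  {r | ∃ i j : ℕ, 1 ≤ i ∧ 1 ≤ j ∧ D.P.root r = i • D.P.root a + j • D.P.root b}

variable (Q) in
/-- the commutator of the pairs of two roots lies along the roots between them -/
def Comm (a b : D.idx) : Prop :=
  ∀ (X : Over S) (x y : X ⟶ Red.Ga S),
    Q.U a x * Q.U b y * (Q.U a x)⁻¹ * (Q.U b y)⁻¹ ∈ Q.grp (between D a b) X

theorem conj_mem {Ψ : Set D.idx} {X : Over S} (w : (X ⟶ G) × (X ⟶ H))
    (hw : ∀ d ∈ Ψ, ∀ y : X ⟶ Red.Ga S, w * Q.U d y * w⁻¹ ∈ Q.grp Ψ X) {z : (X ⟶ G) × (X ⟶ H)}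
    (hz : z ∈ Q.grp Ψ X) : w * z * w⁻¹ ∈ Q.grp Ψ X := by
  induction hz using Subgroup.closure_induction with
  | mem z hz => obtain ⟨c, hc, x, rfl⟩ := hz; exact hw c hc x
  | one => rw [_root_.mul_one, mul_inv_cancel]; exact one_mem _
  | mul a b _ _ ha hb => rw [← conj_mul3]; exact mul_mem ha hb
  | inv a _ ha => rw [← conj_inv']; exact inv_mem ha

theorem inj_of_comm_aux : ∀ (n : ℕ) (Ψ : Set D.idx), Ψ.ncard = n → IsPosSet D.P Ψ →
    (∀ a ∈ Ψ, ∀ b ∈ Ψ, a ≠ b → Q.Comm a b) → Q.Inj Ψ := by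
  classical
  haveI := D.fintypeIdx
  haveI : Finite D.idx := Finite.of_fintype _
  intro n
  induction n using Nat.strong_induction_on with
  | _ n ih =>
    intro Ψ hn hΨ hC X z hz hz1
    rcases Ψ.eq_empty_or_nonempty with rfl | hne
    · have hbot : Q.grp (∅ : Set D.idx) X = ⊥ := Subgroup.closure_eq_bot_iff.mpr fun w ⟨c, hc, _⟩ => absurd hc id
      rwa [hbot, Subgroup.mem_bot] at hz
    obtain ⟨h, hh⟩ := hΨ.exists_functional
    obtain ⟨a, haΨ, hmin⟩ := Set.exists_min_image Ψ (fun c => h (D.P.root c)) (Set.toFinite _) hne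
    have hsub : Ψ \ {a} ⊆ Ψ := Set.sdiff_subset
    have hup : ∀ r ∈ Ψ, h (D.P.root a) < h (D.P.root r) → r ∈ Ψ \ {a} := fun r hr hlt =>
      ⟨hr, fun e => by rw [Set.mem_singleton_iff.mp e] at hlt; exact lt_irrefl _ hlt⟩
    have hΨ' : IsPosSet D.P (Ψ \ {a}) := by
      refine ⟨fun p q r hp hq hr => ?_, fun p q hp hpq hq => hΨ.noNeg p q hp.1 hpq hq.1⟩
      refine hup r (hΨ.closed p q r hp.1 hq.1 hr) ?_
      rw [← hr, map_add]
      have := hmin p hp.1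
      have := hh q hq.1
      omega
    have hlt : (Ψ \ {a}).ncard < n := hn ▸ Set.ncard_sdiff_singleton_lt_of_mem haΨ
    have hconj : ∀ (x : X ⟶ Red.Ga S), ∀ d ∈ Ψ \ {a}, ∀ y : X ⟶ Red.Ga S,
        Q.U a x * Q.U d y * (Q.U a x)⁻¹ ∈ Q.grp (Ψ \ {a}) X := by
      intro x d hd y
      have h1 := hC a haΨ d hd.1 (fun e => hd.2 (Set.mem_singleton_iff.mpr e.symm)) X x y
      have h2 : between D a d ⊆ Ψ \ {a} := by
        rintro r ⟨i, j, hi, hj, hr⟩
        refine hup r (hΨ.root_mem_of_sum _ (List.replicate i a ++ List.replicate j d) rfl (fun c hc => ?_) r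
          (by rw [hr, List.map_append, List.sum_append, List.map_replicate, List.map_replicate, List.sum_replicate,
            List.sum_replicate])) ?_
        · rcases List.mem_append.mp hc with hc | hc <;> rw [List.eq_of_mem_replicate hc]
          exacts [haΨ, hd.1]
        · rw [hr, map_add, map_nsmul, map_nsmul, nsmul_eq_mul, nsmul_eq_mul]
          have := hh a haΨ
          have := hh d hd.1
          have : h (D.P.root a) ≤ (i : ℤ) * h (D.P.root a) := le_mul_of_one_le_left (by omega) (by exact_mod_cast hi)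
          have : 0 < (j : ℤ) * h (D.P.root d) := mul_pos (by exact_mod_cast hj) (hh d hd.1)
          omega
      have h3 := mul_mem (Q.grp_mono h2 X h1) (Q.U_mem (Ψ := Ψ \ {a}) hd y)
      rwa [inv_mul_cancel_right] at h3
    -- normal form
    have hnf : ∀ w ∈ Q.grp Ψ X, ∃ x : X ⟶ Red.Ga S, ∃ w' ∈ Q.grp (Ψ \ {a}) X, w = Q.U a x * w' := by
      intro w hw
      induction hw using Subgroup.closure_induction with
      | mem w hw =>
        obtain ⟨c, hc, x, rfl⟩ := hw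
        by_cases hca : c = a
        · exact ⟨x, 1, one_mem _, by rw [hca, _root_.mul_one]⟩
        · exact ⟨1, _, Q.U_mem (Ψ := Ψ \ {a}) ⟨hc, hca⟩ x, by rw [U_one, _root_.one_mul]⟩
      | one => exact ⟨1, 1, one_mem _, by rw [U_one, _root_.one_mul]⟩
      | mul p q _ _ hp hq =>
        obtain ⟨x, p', hp', rfl⟩ := hp
        obtain ⟨y, q', hq', rfl⟩ := hq
        refine ⟨x * y, (Q.U a y⁻¹ * p' * (Q.U a y⁻¹)⁻¹) * q', mul_mem (conj_mem _ (hconj _) hp') hq', ?_⟩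
        rw [U_mul, ← U_inv, _root_.inv_inv]
        group
      | inv p _ hp =>
        obtain ⟨x, p', hp', rfl⟩ := hp
        refine ⟨x⁻¹, Q.U a x * p'⁻¹ * (Q.U a x)⁻¹, conj_mem _ (hconj _) (inv_mem hp'), ?_⟩
        rw [← U_inv, _root_.mul_inv_rev]
        group
    obtain ⟨x, z', hz', rfl⟩ := hnf z hz
    obtain ⟨k, e', he'⟩ := exists_enumerates D (Ψ \ {a})
    obtain ⟨y, hy⟩ := Q.exists_xProd hΨ' e' he' hz'
    rw [Prod.fst_mul, hy] at hz1
    have he : RedSub.Enumerates Ψ (Fin.cons a e') := by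
      refine ⟨Fin.cons_injective_iff.mpr ⟨fun hmem => ?_, he'.1⟩, ?_⟩
      · rw [he'.2] at hmem; exact hmem.2 rfl
      · rw [Fin.range_cons, he'.2, Set.insert_sdiff_singleton, Set.insert_eq_of_mem haΨ]
    have hxy : xProd D (Fin.cons a e') (Fin.cons x y : Fin (k + 1) → (X ⟶ Red.Ga S)) =
        xProd D (Fin.cons a e') (fun _ => 1) := by
      rw [xProd_one D _ (fun _ => (1 : X ⟶ Red.Ga S)) (fun _ => rfl), xProd, List.ofFn_succ, List.prod_cons]
      simpa [U, xProd] using hz1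
    have h0 := xProd_injective D hΨ _ he.1 he.2 hxy
    have hx1 : x = 1 := congrFun h0 0
    subst hx1
    rw [U_one, _root_.one_mul]
    refine ih _ hlt (Ψ \ {a}) rfl hΨ' (fun p hp q hq => hC p hp.1 q hq.1) X z' hz' ?_
    rw [hy]
    exact xProd_one D e' y fun i => congrFun h0 i.succ

/-- commutator relations between the roots of `Ψ` make the pairs along `Ψ` a graph -/
theorem inj_of_comm {Ψ : Set D.idx} (hΨ : IsPosSet D.P Ψ) (hC : ∀ a ∈ Ψ, ∀ b ∈ Ψ, a ≠ b → Q.Comm a b) : Q.Inj Ψ :=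
  inj_of_comm_aux _ Ψ rfl hΨ hC

end Sys

end Groth.Agent.H21Split.R3
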