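import Groth.Agent.H21Split.R3.Weyl
import Groth.Agent.S8458

/-!
Tables of pair lines in the span of two simple roots.
-/

open CategoryTheory MonoidalCategory CartesianMonoidalCategory MonObj GrpObj AlgebraicGeometry
open CategoryTheory.Limits
open Groth.Agent.H27Witt.GaCoord (gaFn_comp gaFn_surjective gaFn_injective gaFn_one gaFn_mul)

universe u

set_option backward.isDefEq.respectTransparency false
set_option linter.style.haveILetI false
set_option linter.unusedSectionVars false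
set_option linter.unusedVariables false
set_option synthInstance.maxHeartbeats 400000
set_option maxHeartbeats 400000

noncomputable section

namespace Groth.Agent.H21Split.R3

variable {S : Scheme.{u}} {G G' : Over S} [GrpObj G] [GrpObj G']

/-- `i a + j s` is not a root outside the positive coordinates -/
theorem comb_notMem (D : Red.Pinning G) {a s : D.idx} (ha : a ∈ D.base.support) (hs : s ∈ D.base.support) {m : ℤ}
    (hA : D.P.pairing s a = -m) (hB : D.P.pairing a s = -1) (hm : m = 1 ∨ m = 2 ∨ m = 3) {i j : ℤ} (hi : 1 ≤ i)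
    (hj : 1 ≤ j) (hn : ¬R2.IsPosRootCoord m i j) :
    i • D.P.root a + j • D.P.root s ≠ 0 ∧ i • D.P.root a + j • D.P.root s ∉ Set.range D.P.root := by
  haveI := D.fintypeIdx
  haveI : Finite D.idx := Finite.of_fintype _
  refine ⟨fun h => ?_, fun ⟨r, hr⟩ => hn
    (R2.pos_root_coord D.P hA hB hm (fun _ => D.base.sub_notMem_range_root hs ha) hr hi hj)⟩
  have := R2.comb_eq_zero D.P hA hB (by omega) h
  omega

theorem mem_span_pos (D : Red.Pinning G) {a s r : D.idx} (ha : a ∈ D.base.support) (hs : s ∈ D.base.support)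
    (hne : a ≠ s) {m : ℤ} (hA : D.P.pairing s a = -m) (hB : D.P.pairing a s = -1) (hm : m = 1 ∨ m = 2 ∨ m = 3)
    (hr : r ∈ RedSub.posRoots D.P D.base) {i j : ℤ} (h : D.P.root r = i • D.P.root a + j • D.P.root s) :
    (i = 1 ∧ j = 0) ∨ (i = 0 ∧ j = 1) ∨ R2.IsPosRootCoord m i j := by
  haveI := D.fintypeIdx
  haveI : Finite D.idx := Finite.of_fintype _
  haveI : Module.IsReflexive ℤ D.M := .of_isPerfPair D.P.toLinearMap
  haveI : IsAddTorsionFree D.M := .of_isTorsionFree ℤ D.M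
  haveI : Module.IsReflexive ℤ (Module.Dual ℤ D.M) := .of_isPerfPair D.P.flip.toLinearMap
  haveI : IsAddTorsionFree (Module.Dual ℤ D.M) := .of_isTorsionFree ℤ _
  rcases R2.coord_sign D.base ha hs hne h with ⟨hi, hj⟩ | ⟨hi, hj⟩
  · rcases (show (i = 0) ∨ (j = 0) ∨ (1 ≤ i ∧ 1 ≤ j) by omega) with rfl | rfl | ⟨hi1, hj1⟩
    · rw [zero_smul, zero_add] at h
      rcases D.base.eq_one_or_neg_one_of_mem_support_of_smul_mem s hs j ⟨r, h⟩ with e | e <;> omega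
    · rw [zero_smul, add_zero] at h
      rcases D.base.eq_one_or_neg_one_of_mem_support_of_smul_mem a ha i ⟨r, h⟩ with e | e <;> omega
    · exact Or.inr (Or.inr (R2.pos_root_coord D.P hA hB hm (fun _ => D.base.sub_notMem_range_root hs ha) h hi1 hj1))
  · exfalso
    have h1 := R2.height_comb D.base h
    have h2 : 0 < D.base.height r := by
      rw [← RootPairing.Base.isPos_iff]; exact (posRoots_iff_isPos D.base r).mp hr
    rw [D.base.height_one_of_mem_support ha, D.base.height_one_of_mem_support hs, _root_.mul_one, _root_.mul_one] at h1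
    omega

/-- the positive roots in the span of two roots -/
def span2 (D : Red.Pinning G) (a s : D.idx) : Set D.idx :=
  {r | r ∈ RedSub.posRoots D.P D.base ∧ ∃ i j : ℤ, D.P.root r = i • D.P.root a + j • D.P.root s}

theorem span2_symm (D : Red.Pinning G) (a s : D.idx) : span2 D a s = span2 D s a :=
  Set.ext fun r => ⟨fun ⟨h, i, j, e⟩ => ⟨h, j, i, by rw [e, add_comm]⟩, fun ⟨h, i, j, e⟩ => ⟨h, j, i, by rw [e, add_comm]⟩⟩

namespace PData

variable {D : Red.Pinning G} {D' : Red.Pinning G'} (Φ : PData D D')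

/-- conjugation by a pair over the base -/
def cjp (W : (𝟙_ (Over S) ⟶ G) × (𝟙_ (Over S) ⟶ G')) {X : Over S} (z : (X ⟶ G) × (X ⟶ G')) :
    (X ⟶ G) × (X ⟶ G') := Sys.pull (toUnit X) W * z * (Sys.pull (toUnit X) W)⁻¹

theorem mem_cl {W : (𝟙_ (Over S) ⟶ G) × (𝟙_ (Over S) ⟶ G')} {ℓ : Line D D'} {X : Over S}
    {z : (X ⟶ G) × (X ⟶ G')} : z ∈ cl W ℓ X ↔ ∃ w ∈ ℓ X, cjp W w = z := Iff.rfl

/-- closed under inverses -/
def InvC (ℓ : Line D D') : Prop := ∀ (X : Over S), ∀ z ∈ ℓ X, z⁻¹ ∈ ℓ X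

theorem invC_base (a : D.idx) : InvC (Φ.base a) := by
  rintro X _ ⟨x, rfl⟩
  exact ⟨x⁻¹, (Φ.L_inv a x).symm⟩

theorem InvC.cl {ℓ : Line D D'} (h : InvC ℓ) (W : (𝟙_ (Over S) ⟶ G) × (𝟙_ (Over S) ⟶ G')) : InvC (PData.cl W ℓ) := by
  rintro X _ ⟨z, hz, rfl⟩
  exact ⟨z⁻¹, h X z hz, (conj_inv' _ _).symm⟩

/-- the roots carrying a line on the two sides -/
def RL (ℓ : Line D D') (c : D.idx) (c' : D'.idx) : Prop :=
  ∀ (X : Over S), ∀ z ∈ ℓ X, (∃ x : X ⟶ Red.Ga S, z.1 = x ≫ D.u c) ∧ ∃ x : X ⟶ Red.Ga S, z.2 = x ≫ D'.u c'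

theorem rl_base (a : D.idx) : RL (Φ.base a) a (Φ.d a) := by
  rintro X _ ⟨x, rfl⟩
  exact ⟨⟨x, rfl⟩, ⟨x ≫ Φ.fr a, rfl⟩⟩

theorem conj_root {G₀ : Over S} [GrpObj G₀] (D₀ : Red.Pinning G₀) (a d : D₀.idx) (n : 𝟙_ (Over S) ⟶ G₀)
    (hn : ∀ (X : Over S) (t : X ⟶ D₀.T), (toUnit X ≫ n) * (t ≫ D₀.i) * (toUnit X ≫ n)⁻¹ =
      t ≫ D₀.split.hom.hom.hom ≫ Red.DSmap S (D₀.P.reflection a).toLinearMap.toAddMonoidHom ≫
        D₀.split.inv.hom.hom ≫ D₀.i) {X : Over S} (x : X ⟶ Red.Ga S) :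
    ∃ y : X ⟶ Red.Ga S,
      (toUnit X ≫ n) * (x ≫ D₀.u d) * (toUnit X ≫ n)⁻¹ = y ≫ D₀.u (D₀.P.reflectionPerm a d) := by
  haveI := D₀.fintypeIdx
  haveI : Finite D₀.idx := Finite.of_fintype _
  obtain ⟨c, hc, -⟩ := existsUnique_conj D₀.toSplitRed a d (two_smul_root_notMem D₀.toSplitRed D₀.base _) n hn
  obtain ⟨y, hy⟩ := gaFn_surjective (X := X) (X.hom.appTop c * Red.gaFn x)
  exact ⟨y, hc X x y hy⟩

theorem RL.cl_W {Φ : PData D D'} {ℓ : Line D D'} {c : D.idx} {c' : D'.idx} (h : RL ℓ c c') {a : D.idx}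
    (ha : a ∈ D.base.support) :
    RL (PData.cl (Φ.W a) ℓ) (D.P.reflectionPerm a c) (D'.P.reflectionPerm (Φ.d a) c') := by
  rintro X _ ⟨z, hz, rfl⟩
  obtain ⟨⟨x, hx⟩, ⟨x', hx'⟩⟩ := h X z hz
  obtain ⟨y, hy⟩ := conj_root D a c _
    (weyl_acts D.toSplitRed Φ.e₁ Φ.he₁ a (Φ.avc a) (Φ.havc a) (Φ.hpair a ha)) x
  obtain ⟨y', hy'⟩ := conj_root D' (Φ.d a) c' _
    (weyl_acts D'.toSplitRed Φ.e₁ Φ.he₁ (Φ.d a) (Φ.avc' _) (Φ.havc' _) (Φ.hpair' _ ((Φ.hΔ a).mp ha))) x'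
  refine ⟨⟨y, ?_⟩, ⟨y', ?_⟩⟩
  · change (toUnit X ≫ (Φ.W a).1) * z.1 * (toUnit X ≫ (Φ.W a).1)⁻¹ = _
    rw [hx]; exact hy
  · change (toUnit X ≫ (Φ.W a).2) * z.2 * (toUnit X ≫ (Φ.W a).2)⁻¹ = _
    rw [hx']; exact hy'

/-- the entries of a table -/
def entries (tb : List (D.idx × Line D D')) (Ψ : Set D.idx) (X : Over S) : Set ((X ⟶ G) × (X ⟶ G')) :=
  {v | ∃ e ∈ tb, e.1 ∈ Ψ ∧ v ∈ e.2 X}

/-- the commutators of two lines lie along the lines of the roots between -/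
def CommT (tb : List (D.idx × Line D D')) (e e' : D.idx × Line D D') : Prop :=
  ∀ (X : Over S), ∀ z ∈ e.2 X, ∀ w ∈ e'.2 X,
    z * w * z⁻¹ * w⁻¹ ∈ Subgroup.closure (entries tb (Sys.between D.toSplitRed e.1 e'.1) X)

theorem between_symm (D₀ : Red.SplitRed G) (r r' : D₀.idx) : Sys.between D₀ r r' = Sys.between D₀ r' r :=
  Set.ext fun c => ⟨fun ⟨i, j, hi, hj, h⟩ => ⟨j, i, hj, hi, by rw [h, add_comm]⟩,
    fun ⟨i, j, hi, hj, h⟩ => ⟨j, i, hj, hi, by rw [h, add_comm]⟩⟩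

theorem CommT.symm {tb : List (D.idx × Line D D')} {e e' : D.idx × Line D D'} (h : CommT tb e e') :
    CommT tb e' e := fun X z hz w hw => by
  have h1 := inv_mem (h X w hw z hz)
  rw [between_symm]
  convert h1 using 1
  group

theorem CommT.of_eq {tb : List (D.idx × Line D D')} {e e' : D.idx × Line D D'} (he : InvC e.2) (he' : InvC e'.2)
    (h : ∀ (X : Over S), ∀ z ∈ e.2 X, ∀ w ∈ e'.2 X, ∃ K ∈ Subgroup.closure (entries tb (Sys.between D.toSplitRed e.1 e'.1) X),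
      z * w = w * z * K) : CommT tb e e' := fun X z hz w hw => by
  obtain ⟨K, hK, hE⟩ := h X z⁻¹ (he X z hz) w⁻¹ (he' X w hw)
  convert hK using 1
  calc z * w * z⁻¹ * w⁻¹ = z * w * (z⁻¹ * w⁻¹) := by group
    _ = K := by rw [hE]; group

theorem mem_entries {tb : List (D.idx × Line D D')} {r r' : D.idx} {e : D.idx × Line D D'} (he : e ∈ tb)
    (i j : ℕ) (hi : 1 ≤ i) (hj : 1 ≤ j) (h : D.P.root e.1 = i • D.P.root r + j • D.P.root r') {X : Over S}
    {v : (X ⟶ G) × (X ⟶ G')} (hv : v ∈ e.2 X) :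
    v ∈ Subgroup.closure (entries tb (Sys.between D.toSplitRed r r') X) :=
  Subgroup.subset_closure ⟨e, he, ⟨i, j, hi, hj, h⟩, hv⟩

/-- a table of lines in the span of two simple roots -/
structure Table (a s : D.idx) (tb : List (D.idx × Line D D')) : Prop where
  memA : (a, Φ.base a) ∈ tb
  memS : (s, Φ.base s) ∈ tb
  cover : ∀ r ∈ span2 D a s, ∃ e ∈ tb, e.1 = r
  word : ∀ e ∈ tb, ∃ (l : List D.idx) (α : D.idx), (∀ c ∈ l, c = a ∨ c = s) ∧ (α = a ∨ α = s) ∧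
    (l.map D.P.reflectionPerm).prod α = e.1 ∧ e.2 = cl (Φ.wW l) (Φ.base α)
  step : ∀ t : D.idx, t = a ∨ t = s → ∀ e ∈ tb, e.1 ≠ t →
    ∃ e' ∈ tb, e'.1 = D.P.reflectionPerm t e.1 ∧ cl (Φ.W t) e.2 ≤ e'.2
  comm : ∀ e ∈ tb, ∀ e' ∈ tb, e.1 ≠ e'.1 → CommT tb e e'
  simples : ∀ e ∈ tb, (e.1 = a → e.2 = Φ.base a) ∧ (e.1 = s → e.2 = Φ.base s)

theorem Table.symm {a s : D.idx} {tb : List (D.idx × Line D D')} (h : Φ.Table a s tb) : Φ.Table s a tb where
  memA := h.memS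
  memS := h.memA
  cover r hr := h.cover r (span2_symm D a s ▸ hr)
  word e he := by
    obtain ⟨l, α, h1, h2, h3, h4⟩ := h.word e he
    exact ⟨l, α, fun c hc => (h1 c hc).symm, h2.symm, h3, h4⟩
  step t ht := h.step t ht.symm
  comm := h.comm
  simples e he := (h.simples e he).symm

/-- a root with both coordinates non-zero is not simple -/
theorem ne_simples (D₀ : Red.Pinning G) {a s c : D₀.idx} (ha : a ∈ D₀.base.support) (hs : s ∈ D₀.base.support)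
    (hne : a ≠ s) {m : ℤ} (hA : D₀.P.pairing s a = -m) (hB : D₀.P.pairing a s = -1) (hm : m ≠ 4) {i j : ℤ}
    (hc : D₀.P.root c = i • D₀.P.root a + j • D₀.P.root s) (hi : i ≠ 0) (hj : j ≠ 0) : c ≠ a ∧ c ≠ s := by
  haveI := D₀.fintypeIdx
  haveI : Finite D₀.idx := Finite.of_fintype _
  refine ⟨fun h => ?_, fun h => ?_⟩ <;> subst h
  · exact hj (R2.comb_eq_zero D₀.P hA hB hm (i := i - 1) (j := j) (by
      rw [sub_smul, one_smul, sub_add_eq_add_sub, ← hc, sub_self])).2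
  · exact hi (R2.comb_eq_zero D₀.P hA hB hm (i := i) (j := j - 1) (by
      rw [sub_smul, one_smul, ← add_sub_assoc, ← hc, sub_self])).1

theorem pairing_comb (D₀ : Red.SplitRed G) {r c d : D₀.idx} {i j : ℤ}
    (hr : D₀.P.root r = i • D₀.P.root c + j • D₀.P.root d) (t : D₀.idx) :
    D₀.P.pairing r t = i * D₀.P.pairing c t + j * D₀.P.pairing d t := by
  rw [← D₀.P.root_coroot'_eq_pairing, hr, coroot'_comb]

/-- a line fixed by a Weyl pair, from an equation on each point -/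
theorem fix_of_eq {ℓ : Line D D'} {W : (𝟙_ (Over S) ⟶ G) × (𝟙_ (Over S) ⟶ G')}
    (h : ∀ (X : Over S), ∀ z ∈ ℓ X, cjp W z ∈ ℓ X) : cl W ℓ ≤ ℓ := by
  rintro X _ ⟨z, hz, rfl⟩
  exact h X z hz

/-- two lines whose sums of roots are not roots commute -/
theorem commT_of_roots {tb : List (D.idx × Line D D')} {e e' : D.idx × Line D D'} {c c' : D'.idx}
    (h : RL e.2 e.1 c) (h' : RL e'.2 e'.1 c')
    (hG : D.P.root e.1 + D.P.root e'.1 ≠ 0 ∧ D.P.root e.1 + D.P.root e'.1 ∉ Set.range D.P.root)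
    (hG' : D'.P.root c + D'.P.root c' ≠ 0 ∧ D'.P.root c + D'.P.root c' ∉ Set.range D'.P.root) :
    CommT tb e e' := fun X z hz w hw => by
  obtain ⟨⟨x, hx⟩, ⟨x', hx'⟩⟩ := h X z hz
  obtain ⟨⟨y, hy⟩, ⟨y', hy'⟩⟩ := h' X w hw
  have hzw : z * w = w * z := by
    refine Prod.ext ?_ ?_
    · rw [Prod.fst_mul, Prod.fst_mul, hx, hy]
      exact S8458.result S G D.toSplitRed e.1 e'.1 hG.1 hG.2 X x y
    · rw [Prod.snd_mul, Prod.snd_mul, hx', hy']
      exact S8458.result S G' D'.toSplitRed c c' hG'.1 hG'.2 X x' y'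
  rw [hzw, mul_inv_cancel_right, mul_inv_cancel]
  exact one_mem _

end PData

end Groth.Agent.H21Split.R3
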