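import Groth.Agent.H21Split.R3.Rank2
import Groth.Agent.S8463
import Groth.Agent.S8464
import Groth.Agent.S8465
import Groth.Agent.S8484
import Groth.Agent.S8485
import Groth.Agent.S8486

/-!
The tables of orthogonal simple roots and of simple roots whose type is preserved.
-/

open CategoryTheory MonoidalCategory CartesianMonoidalCategory MonObj GrpObj AlgebraicGeometry
open CategoryTheory.Limits
open Groth.Agent.H27Witt.GaCoord (gaFn_comp gaFn_surjective gaFn_injective gaFn_one gaFn_mul)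

universe u

set_option backward.isDefEq.respectTransparency false
set_option linter.style.haveILetI false
set_option linter.unusedSectionVars false
set_option linter.unusedVariables false
set_option synthInstance.maxHeartbeats 400000
set_option maxHeartbeats 400000

noncomputable section

namespace Groth.Agent.H21Split.R3

variable {S : Scheme.{u}} {G G' : Over S} [GrpObj G] [GrpObj G']

theorem root_refl' {G₀ : Over S} [GrpObj G₀] (D₀ : Red.SplitRed G₀) (t r : D₀.idx) :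
    D₀.P.root (D₀.P.reflectionPerm t r) = D₀.P.root r - D₀.P.pairing r t • D₀.P.root t := by
  rw [D₀.P.root_reflectionPerm, D₀.P.reflection_apply_root]

theorem comm_ends {M : Type*} [Group M] {p q : M} (h : p * q = q * p) : p * q * p⁻¹ = q := by
  rw [h, mul_inv_cancel_right]

theorem commute_word {M : Type*} [Group M] {p q z : M} (hp : p * z = z * p) (hq : q * z = z * q) :
    p * q⁻¹ * p * z * (p * q⁻¹ * p)⁻¹ = z := by
  have h1 : Commute (p * q⁻¹ * p) z :=
    ((show Commute p z from hp).mul_left (show Commute q z from hq).inv_left).mul_left hp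
  rw [h1.eq, mul_inv_cancel_right]

namespace PData

variable {D : Red.Pinning G} {D' : Red.Pinning G'} (Φ : PData D D')

theorem wW_one (a : D.idx) : Φ.wW [a] = Φ.W a := by simp [wW]

theorem wW_two (a b : D.idx) : Φ.wW [a, b] = Φ.W a * Φ.W b := by simp [wW]

theorem word_base (c : D.idx) : Φ.base c = cl (Φ.wW []) (Φ.base c) := (cl_one _).symm

theorem rl_wW_one {a c : D.idx} (ha : a ∈ D.base.support) :
    RL (cl (Φ.wW [a]) (Φ.base c)) (D.P.reflectionPerm a c) (D'.P.reflectionPerm (Φ.d a) (Φ.d c)) := by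
  rw [wW_one]
  exact (Φ.rl_base c).cl_W ha

theorem rl_wW_two {a b c : D.idx} (ha : a ∈ D.base.support) (hb : b ∈ D.base.support) :
    RL (cl (Φ.wW [a, b]) (Φ.base c)) (D.P.reflectionPerm a (D.P.reflectionPerm b c))
      (D'.P.reflectionPerm (Φ.d a) (D'.P.reflectionPerm (Φ.d b) (Φ.d c))) := by
  rw [wW_two, cl_mul]
  exact ((Φ.rl_base c).cl_W hb).cl_W ha

theorem cl_sq_word {a : D.idx} (ha : a ∈ D.base.support) (l : List D.idx) (hl : ∀ c ∈ l, c ∈ D.base.support)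
    (c : D.idx) : cl (Φ.W a) (cl (Φ.wW (a :: l)) (Φ.base c)) ≤ cl (Φ.wW l) (Φ.base c) := by
  rw [wW_cons, cl_mul]
  exact Φ.cl_sq ha ((Φ.tStable_base c).cl (Φ.nt_wW l hl))

theorem cl_cons (a : D.idx) (l : List D.idx) (c : D.idx) :
    cl (Φ.W a) (cl (Φ.wW l) (Φ.base c)) ≤ cl (Φ.wW (a :: l)) (Φ.base c) := by
  rw [wW_cons, cl_mul]

/-- orthogonal simple roots -/
theorem table_orth {a s : D.idx} (ha : a ∈ D.base.support) (hs : s ∈ D.base.support) (hne : a ≠ s)
    (hA : D.P.pairing s a = 0) (hB : D.P.pairing a s = 0) (hB' : D'.P.pairing (Φ.d a) (Φ.d s) = 0) :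
    Φ.Table a s [(a, Φ.base a), (s, Φ.base s)] := by
  haveI := D.fintypeIdx
  haveI : Finite D.idx := Finite.of_fintype _
  haveI := D'.fintypeIdx
  haveI : Finite D'.idx := Finite.of_fintype _
  haveI : Module.IsReflexive ℤ D.M := .of_isPerfPair D.P.toLinearMap
  haveI : IsAddTorsionFree D.M := .of_isTorsionFree ℤ D.M
  haveI : Module.IsReflexive ℤ (Module.Dual ℤ D.M) := .of_isPerfPair D.P.flip.toLinearMap
  haveI : IsAddTorsionFree (Module.Dual ℤ D.M) := .of_isTorsionFree ℤ _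
  have hG := orth_sums D.toSplitRed D.base ha hs hne hB
  have hG' := orth_sums D'.toSplitRed D'.base ((Φ.hΔ a).mp ha) ((Φ.hΔ s).mp hs) (fun e => hne (Φ.d.injective e)) hB'
  have hfix : ∀ t r : D.idx, (t = a ∧ r = s) ∨ (t = s ∧ r = a) → cl (Φ.W t) (Φ.base r) ≤ Φ.base r := by
    intro t r htr
    refine fix_of_eq fun X z hz => ?_
    have e : cjp (Φ.W t) z = z := by
      obtain ⟨x, rfl⟩ := hz
      have hc : ∀ c ∈ ({t, D.P.reflectionPerm t t} : Set D.idx), D.P.root c + D.P.root r ≠ 0 ∧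
          D.P.root c + D.P.root r ∉ Set.range D.P.root := fun c hc => by
        rcases htr with ⟨rfl, rfl⟩ | ⟨rfl, rfl⟩
        · exact hG c hc _ (Or.inl rfl)
        · rw [add_comm]; exact hG _ (Or.inl rfl) c hc
      have hc' : ∀ c ∈ ({Φ.d t, D'.P.reflectionPerm (Φ.d t) (Φ.d t)} : Set D'.idx),
          D'.P.root c + D'.P.root (Φ.d r) ≠ 0 ∧ D'.P.root c + D'.P.root (Φ.d r) ∉ Set.range D'.P.root := fun c hc => by
        rcases htr with ⟨rfl, rfl⟩ | ⟨rfl, rfl⟩
        · exact hG' c hc _ (Or.inl rfl)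
        · rw [add_comm]; exact hG' _ (Or.inl rfl) c hc
      rw [cjp, W_eq]
      simp only [map_mul, map_inv]
      refine commute_word ?_ ?_ <;> simp only [Sys.pull_apply, L, Ln, Prod.mk_mul_mk, ← Category.assoc (toUnit X)]
      · exact Prod.ext (S8458.result S G D.toSplitRed t r (hc t (Or.inl rfl)).1 (hc t (Or.inl rfl)).2 X _ x)
          (S8458.result S G' D'.toSplitRed _ _ (hc' _ (Or.inl rfl)).1 (hc' _ (Or.inl rfl)).2 X _ _)
      · exact Prod.ext (S8458.result S G D.toSplitRed _ r (hc _ (Or.inr rfl)).1 (hc _ (Or.inr rfl)).2 X _ x)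
          (S8458.result S G' D'.toSplitRed _ _ (hc' _ (Or.inr rfl)).1 (hc' _ (Or.inr rfl)).2 X _ _)
    rw [e]; exact hz
  have rfix : ∀ t r : D.idx, D.P.pairing r t = 0 → D.P.reflectionPerm t r = r := fun t r h =>
    D.P.root.injective (by rw [root_refl' D.toSplitRed t r, h, zero_smul, sub_zero])
  have hcomm : CommT [(a, Φ.base a), (s, Φ.base s)] (a, Φ.base a) (s, Φ.base s) :=
    commT_of_roots (Φ.rl_base a) (Φ.rl_base s) (hG a (Or.inl rfl) s (Or.inl rfl)) (hG' _ (Or.inl rfl) _ (Or.inl rfl))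
  refine ⟨by simp, by simp, ?_, ?_, ?_, ?_, ?_⟩
  · rintro r ⟨hr, i, j, hij⟩
    have hsr : D.P.root (D.P.reflectionPerm a r) = (-i) • D.P.root a + j • D.P.root s := by
      rw [root_refl' D.toSplitRed a r, pairing_comb D.toSplitRed hij a, D.P.pairing_same, hA, hij]; module
    have h0 : i = 0 ∨ j = 0 := by
      rcases R2.coord_sign D.base ha hs hne hij with h | h <;>
        rcases R2.coord_sign D.base ha hs hne hsr with h' | h' <;> omega
    have h1 := R2.height_comb D.base hij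
    have h2 : 0 < D.base.height r := by
      rw [← RootPairing.Base.isPos_iff]; exact (posRoots_iff_isPos D.base r).mp hr
    rw [D.base.height_one_of_mem_support ha, D.base.height_one_of_mem_support hs, _root_.mul_one, _root_.mul_one] at h1
    rcases h0 with rfl | rfl
    · rw [zero_smul, zero_add] at hij
      rcases D.base.eq_one_or_neg_one_of_mem_support_of_smul_mem s hs j ⟨r, hij⟩ with rfl | rfl
      · exact ⟨(s, Φ.base s), by simp, D.P.root.injective (hij.trans (one_smul _ _)).symm⟩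
      · omega
    · rw [zero_smul, add_zero] at hij
      rcases D.base.eq_one_or_neg_one_of_mem_support_of_smul_mem a ha i ⟨r, hij⟩ with rfl | rfl
      · exact ⟨(a, Φ.base a), by simp, D.P.root.injective (hij.trans (one_smul _ _)).symm⟩
      · omega
  · intro e he
    simp only [List.mem_cons, List.not_mem_nil, or_false] at he
    rcases he with rfl | rfl
    · exact ⟨[], a, by simp, Or.inl rfl, rfl, Φ.word_base a⟩
    · exact ⟨[], s, by simp, Or.inr rfl, rfl, Φ.word_base s⟩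
  · intro t ht e he hne'
    simp only [List.mem_cons, List.not_mem_nil, or_false] at he
    rcases he with rfl | rfl
    · rcases ht with rfl | rfl
      · exact absurd rfl hne'
      · exact ⟨(a, Φ.base a), by simp, (rfix t a hB).symm, hfix t a (Or.inr ⟨rfl, rfl⟩)⟩
    · rcases ht with rfl | rfl
      · exact ⟨(s, Φ.base s), by simp, (rfix t s hA).symm, hfix t s (Or.inl ⟨rfl, rfl⟩)⟩
      · exact absurd rfl hne'
  · intro e he e' he' hne'
    simp only [List.mem_cons, List.not_mem_nil, or_false] at he he'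
    rcases he with rfl | rfl <;> rcases he' with rfl | rfl
    exacts [absurd rfl hne', hcomm, hcomm.symm, absurd rfl hne']
  · intro e he
    simp only [List.mem_cons, List.not_mem_nil, or_false] at he
    rcases he with rfl | rfl
    exacts [⟨fun _ => rfl, fun h => absurd h hne⟩, ⟨fun h => absurd h hne.symm, fun _ => rfl⟩]

variable {a s : D.idx}

/-- the lines of a table in the span -/
def tbl1 (a s : D.idx) : List (D.idx × Line D D') :=
  [(a, Φ.base a), (s, Φ.base s), (D.P.reflectionPerm s a, cl (Φ.wW [s]) (Φ.base a))]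

def tbl2 (a s : D.idx) : List (D.idx × Line D D') :=
  [(a, Φ.base a), (s, Φ.base s), (D.P.reflectionPerm s a, cl (Φ.wW [s]) (Φ.base a)),
    (D.P.reflectionPerm a s, cl (Φ.wW [a]) (Φ.base s))]

def tbl3 (a s : D.idx) : List (D.idx × Line D D') :=
  [(a, Φ.base a), (s, Φ.base s), (D.P.reflectionPerm s a, cl (Φ.wW [s]) (Φ.base a)),
    (D.P.reflectionPerm a (D.P.reflectionPerm s a), cl (Φ.wW [a, s]) (Φ.base a)),
    (D.P.reflectionPerm a s, cl (Φ.wW [a]) (Φ.base s)),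
    (D.P.reflectionPerm s (D.P.reflectionPerm a s), cl (Φ.wW [s, a]) (Φ.base s))]

theorem fr_eq (hq : Φ.q a = Φ.q s) : Φ.fr a = Φ.fr s :=
  gaFn_injective (by rw [← Category.id_comp (Φ.fr a), ← Category.id_comp (Φ.fr s), gaFn_fr, gaFn_fr, hq])

theorem fr_mul {X : Over S} (c : D.idx) {x y z : X ⟶ Red.Ga S} (h : Red.gaFn z = Red.gaFn x * Red.gaFn y) :
    Red.gaFn (z ≫ Φ.fr c) = Red.gaFn (x ≫ Φ.fr c) * Red.gaFn (y ≫ Φ.fr c) := by
  rw [gaFn_fr, gaFn_fr, gaFn_fr, h, mul_pow]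

theorem fr_neg {X : Over S} (c : D.idx) {x z : X ⟶ Red.Ga S} (h : Red.gaFn z = -Red.gaFn x) :
    Red.gaFn (z ≫ Φ.fr c) = -Red.gaFn (x ≫ Φ.fr c) := by
  rw [gaFn_fr, gaFn_fr, h, Φ.neg_pow_q]

/-- the roots of the span, in the coordinates of two simple roots -/
theorem roots_span {G₀ : Over S} [GrpObj G₀] (D₀ : Red.SplitRed G₀) {a s : D₀.idx} {m : ℤ}
    (hA : D₀.P.pairing s a = -m) (hB : D₀.P.pairing a s = -1) :
    D₀.P.root (D₀.P.reflectionPerm s a) = (1 : ℤ) • D₀.P.root a + (1 : ℤ) • D₀.P.root s ∧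
      D₀.P.root (D₀.P.reflectionPerm a (D₀.P.reflectionPerm s a)) = (m - 1) • D₀.P.root a + (1 : ℤ) • D₀.P.root s ∧
      D₀.P.root (D₀.P.reflectionPerm a s) = m • D₀.P.root a + (1 : ℤ) • D₀.P.root s ∧
      D₀.P.root (D₀.P.reflectionPerm s (D₀.P.reflectionPerm a s)) = m • D₀.P.root a + (m - 1) • D₀.P.root s := by
  have he : D₀.P.root (D₀.P.reflectionPerm s a) = (1 : ℤ) • D₀.P.root a + (1 : ℤ) • D₀.P.root s := by
    rw [root_refl' D₀ s a, hB]; module
  have hq : D₀.P.root (D₀.P.reflectionPerm a s) = m • D₀.P.root a + (1 : ℤ) • D₀.P.root s := by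
    rw [root_refl' D₀ a s, hA]; module
  refine ⟨he, ?_, hq, ?_⟩
  · rw [root_refl' D₀ a _, pairing_comb D₀ he a, D₀.P.pairing_same, hA, he]; module
  · rw [root_refl' D₀ s _, pairing_comb D₀ hq s, D₀.P.pairing_same, hB, hq]; module

/-- a sum of two members of the span is not a root -/
theorem sum_notMem {G₀ : Over S} [GrpObj G₀] (D₀ : Red.Pinning G₀) {a s : D₀.idx} (ha : a ∈ D₀.base.support)
    (hs : s ∈ D₀.base.support) {m : ℤ} (hA : D₀.P.pairing s a = -m) (hB : D₀.P.pairing a s = -1)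
    (hm : m = 1 ∨ m = 2 ∨ m = 3) {c c' : D₀.idx} {i j k l : ℤ}
    (hc : D₀.P.root c = i • D₀.P.root a + j • D₀.P.root s) (hc' : D₀.P.root c' = k • D₀.P.root a + l • D₀.P.root s)
    (hn : 1 ≤ i + k ∧ 1 ≤ j + l ∧ ¬R2.IsPosRootCoord m (i + k) (j + l)) :
    D₀.P.root c + D₀.P.root c' ≠ 0 ∧ D₀.P.root c + D₀.P.root c' ∉ Set.range D₀.P.root := by
  have e : D₀.P.root c + D₀.P.root c' = (i + k) • D₀.P.root a + (j + l) • D₀.P.root s := by rw [hc, hc']; module
  rw [e]
  exact comb_notMem D₀ ha hs hA hB hm hn.1 hn.2.1 hn.2.2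

variable (ha : a ∈ D.base.support) (hs : s ∈ D.base.support) (hne : a ≠ s) (hq : Φ.q a = Φ.q s)
include ha hs hne hq

theorem table_one (hA : D.P.pairing s a = -1) (hB : D.P.pairing a s = -1)
    (hA' : D'.P.pairing (Φ.d s) (Φ.d a) = -1) (hB' : D'.P.pairing (Φ.d a) (Φ.d s) = -1) :
    Φ.Table a s (Φ.tbl1 a s) := by
  obtain ⟨re, -, rf, -⟩ := roots_span D.toSplitRed hA hB
  obtain ⟨re', -, -, -⟩ := roots_span D'.toSplitRed hA' hB'
  have ra : D.P.root a = (1 : ℤ) • D.P.root a + (0 : ℤ) • D.P.root s := by simp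
  have rs : D.P.root s = (0 : ℤ) • D.P.root a + (1 : ℤ) • D.P.root s := by simp
  have ra' : D'.P.root (Φ.d a) = (1 : ℤ) • D'.P.root (Φ.d a) + (0 : ℤ) • D'.P.root (Φ.d s) := by simp
  have rs' : D'.P.root (Φ.d s) = (0 : ℤ) • D'.P.root (Φ.d a) + (1 : ℤ) • D'.P.root (Φ.d s) := by simp
  have hfe : D.P.reflectionPerm a s = D.P.reflectionPerm s a := D.P.root.injective (by rw [re, rf])
  have hea : D.P.reflectionPerm s (D.P.reflectionPerm s a) = a := D.P.reflectionPerm_self s a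
  have hes : D.P.reflectionPerm a (D.P.reflectionPerm s a) = s := by rw [← hfe, D.P.reflectionPerm_self]
  have haP := (Φ.hΔ a).mp ha
  have hsP := (Φ.hΔ s).mp hs
  have hneP : Φ.d a ≠ Φ.d s := fun e => hne (Φ.d.injective e)
  have hfr := Φ.fr_eq hq
  let w : D.idx → (𝟙_ (Over S) ⟶ G) := fun c =>
    (Φ.e₁ ≫ D.u c) * (Φ.e₁ ≫ D.u (D.P.reflectionPerm c c))⁻¹ * (Φ.e₁ ≫ D.u c)
  let w' : D'.idx → (𝟙_ (Over S) ⟶ G') := fun c =>
    (Φ.e₁ ≫ D'.u c) * (Φ.e₁ ≫ D'.u (D'.P.reflectionPerm c c))⁻¹ * (Φ.e₁ ≫ D'.u c)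
  have t1 := fun X x nx h => S8484.result S Φ.e₁ Φ.he₁ G D Φ.avc Φ.havc Φ.hpair w (fun _ => rfl) a s ha hs hne hA hB
    (fun X x => (toUnit X ≫ w s) * (x ≫ D.u a) * (toUnit X ≫ w s)⁻¹) (fun _ _ => rfl) X x nx h
  have t1' := fun X x nx h => S8484.result S Φ.e₁ Φ.he₁ G' D' Φ.avc' Φ.havc' Φ.hpair' w' (fun _ => rfl) _ _ haP hsP hneP
    hA' hB' (fun X x => (toUnit X ≫ w' (Φ.d s)) * (x ≫ D'.u (Φ.d a)) * (toUnit X ≫ w' (Φ.d s))⁻¹) (fun _ _ => rfl) X x nx h
  have c1 := fun X x y xy h => S8463.result S Φ.e₁ Φ.he₁ G D Φ.avc Φ.havc Φ.hpair w (fun _ => rfl) a s ha hs hne hA hB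
    (fun X x => (toUnit X ≫ w s) * (x ≫ D.u a) * (toUnit X ≫ w s)⁻¹) (fun _ _ => rfl) X x y xy h
  have c1' := fun X x y xy h => S8463.result S Φ.e₁ Φ.he₁ G' D' Φ.avc' Φ.havc' Φ.hpair' w' (fun _ => rfl) _ _ haP hsP hneP
    hA' hB' (fun X x => (toUnit X ≫ w' (Φ.d s)) * (x ≫ D'.u (Φ.d a)) * (toUnit X ≫ w' (Φ.d s))⁻¹) (fun _ _ => rfl) X x y xy h
  have rlE := Φ.rl_wW_one (a := s) (c := a) hs
  have hsa : CommT (Φ.tbl1 a s) (s, Φ.base s) (a, Φ.base a) := by
    refine CommT.of_eq (Φ.invC_base s) (Φ.invC_base a) ?_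
    rintro X _ ⟨y, rfl⟩ _ ⟨x, rfl⟩
    obtain ⟨xy, hxy⟩ := gaFn_surjective (X := X) (Red.gaFn x * Red.gaFn y)
    refine ⟨cjp (Φ.W s) (Φ.L a xy), mem_entries (e := (D.P.reflectionPerm s a, cl (Φ.wW [s]) (Φ.base a)))
      (by simp [tbl1]) 1 1 le_rfl le_rfl (by rw [re]; simp [add_comm]) ?_, Prod.ext (c1 X x y xy hxy) ?_⟩
    · rw [wW_one]; exact ⟨_, ⟨xy, rfl⟩, rfl⟩
    · change ((y ≫ Φ.fr s) ≫ D'.u (Φ.d s)) * ((x ≫ Φ.fr a) ≫ D'.u (Φ.d a)) = _
      rw [← hfr]
      refine (c1' X (x ≫ Φ.fr a) (y ≫ Φ.fr a) (xy ≫ Φ.fr a) (Φ.fr_mul a hxy)).trans ?_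
      rw [Prod.snd_mul, Prod.snd_mul, show (Φ.L s y).2 = (y ≫ Φ.fr a) ≫ D'.u (Φ.d s) by rw [hfr]; rfl]
      rfl
  have hae : CommT (Φ.tbl1 a s) (a, Φ.base a) (D.P.reflectionPerm s a, cl (Φ.wW [s]) (Φ.base a)) :=
    commT_of_roots (Φ.rl_base a) rlE (sum_notMem D ha hs hA hB (by norm_num) ra re (by norm_num [R2.IsPosRootCoord]))
      (sum_notMem D' haP hsP hA' hB' (by norm_num) ra' re' (by norm_num [R2.IsPosRootCoord]))
  have hse : CommT (Φ.tbl1 a s) (s, Φ.base s) (D.P.reflectionPerm s a, cl (Φ.wW [s]) (Φ.base a)) :=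
    commT_of_roots (Φ.rl_base s) rlE (sum_notMem D ha hs hA hB (by norm_num) rs re (by norm_num [R2.IsPosRootCoord]))
      (sum_notMem D' haP hsP hA' hB' (by norm_num) rs' re' (by norm_num [R2.IsPosRootCoord]))
  refine ⟨by simp [tbl1], by simp [tbl1], ?_, ?_, ?_, ?_, ?_⟩
  · rintro r ⟨hr, i, j, hij⟩
    rcases mem_span_pos D ha hs hne (m := 1) hA hB (by norm_num) hr hij with ⟨rfl, rfl⟩ | ⟨rfl, rfl⟩ | h
    · exact ⟨(a, Φ.base a), by simp [tbl1], D.P.root.injective (by simp [hij])⟩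
    · exact ⟨(s, Φ.base s), by simp [tbl1], D.P.root.injective (by simp [hij])⟩
    · obtain ⟨rfl, rfl⟩ : i = 1 ∧ j = 1 := by simp only [R2.IsPosRootCoord] at h; omega
      exact ⟨(D.P.reflectionPerm s a, cl (Φ.wW [s]) (Φ.base a)), by simp [tbl1], D.P.root.injective (re.trans hij.symm)⟩
  · intro e he
    simp only [tbl1, List.mem_cons, List.not_mem_nil, or_false] at he
    rcases he with rfl | rfl | rfl
    exacts [⟨[], a, by simp, Or.inl rfl, rfl, Φ.word_base a⟩, ⟨[], s, by simp, Or.inr rfl, rfl, Φ.word_base s⟩,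
      ⟨[s], a, by simp, Or.inl rfl, by simp, rfl⟩]
  · intro t ht e he hne'
    simp only [tbl1, List.mem_cons, List.not_mem_nil, or_false] at he
    rcases ht with ht | ht <;> subst t <;> rcases he with rfl | rfl | rfl
    · exact absurd rfl hne'
    · refine ⟨(D.P.reflectionPerm s a, cl (Φ.wW [s]) (Φ.base a)), by simp [tbl1], hfe.symm, ?_⟩
      rintro X _ ⟨_, ⟨x, rfl⟩, rfl⟩
      obtain ⟨nx, hnx⟩ := gaFn_surjective (X := X) (-Red.gaFn x)
      refine mem_cl.mpr ⟨Φ.L a nx, ⟨nx, rfl⟩, ?_⟩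
      rw [wW_one]
      refine Prod.ext (t1 X x nx hnx).1.symm ?_
      have h := (t1' X (x ≫ Φ.fr a) (nx ≫ Φ.fr a) (Φ.fr_neg a hnx)).1.symm
      refine h.trans ?_
      rw [hfr]; rfl
    · refine ⟨(s, Φ.base s), by simp [tbl1], hes.symm, ?_⟩
      rintro X _ ⟨_, ⟨_, ⟨x, rfl⟩, rfl⟩, rfl⟩
      obtain ⟨nx, hnx⟩ := gaFn_surjective (X := X) (-Red.gaFn x)
      refine ⟨x, ?_⟩
      rw [wW_one]
      refine Prod.ext (t1 X x nx hnx).2.1.symm ?_
      refine Eq.trans ?_ (t1' X (x ≫ Φ.fr a) (nx ≫ Φ.fr a) (Φ.fr_neg a hnx)).2.1.symm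
      change (x ≫ Φ.fr s) ≫ D'.u (Φ.d s) = _
      rw [hfr]
    · exact ⟨(D.P.reflectionPerm s a, cl (Φ.wW [s]) (Φ.base a)), by simp [tbl1], rfl, by
        rw [wW_one]⟩
    · exact absurd rfl hne'
    · exact ⟨(a, Φ.base a), by simp [tbl1], hea.symm, (Φ.cl_sq_word hs [] (by simp) a).trans (cl_one _).le⟩
  · intro e he e' he' hne'
    simp only [tbl1, List.mem_cons, List.not_mem_nil, or_false] at he he'
    rcases he with rfl | rfl | rfl <;> rcases he' with rfl | rfl | rfl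
    exacts [absurd rfl hne', hsa.symm, hae, hsa, absurd rfl hne', hse, hae.symm, hse.symm, absurd rfl hne']
  · intro e he
    simp only [tbl1, List.mem_cons, List.not_mem_nil, or_false] at he
    have hn := ne_simples D ha hs hne (m := 1) hA hB (by norm_num) re one_ne_zero one_ne_zero
    rcases he with rfl | rfl | rfl
    exacts [⟨fun _ => rfl, fun h => absurd h hne⟩, ⟨fun h => absurd h hne.symm, fun _ => rfl⟩,
      ⟨fun h => absurd h hn.1, fun h => absurd h hn.2⟩]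

end PData

end Groth.Agent.H21Split.R3
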