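import Groth.Agent.H21Split.R3.G2Vals
import Groth.Agent.H21Split.R3.Tables2

/-!
The tables of simple roots of type G₂, with the type preserved or exchanged.
-/

open CategoryTheory MonoidalCategory CartesianMonoidalCategory MonObj GrpObj AlgebraicGeometry
open CategoryTheory.Limits
open Groth.Agent.H27Witt.GaCoord (gaFn_comp gaFn_surjective gaFn_injective gaFn_one gaFn_mul)

universe u

set_option backward.isDefEq.respectTransparency false
set_option linter.style.haveILetI false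
set_option linter.unusedSectionVars false
set_option linter.unusedVariables false
set_option synthInstance.maxHeartbeats 400000
set_option maxHeartbeats 800000

noncomputable section

namespace Groth.Agent.H21Split.R3

theorem swap_g2_aux {M : Type*} [Group M] {a b E F Q R : M} (h : b * a = a * b * (E * F * Q * R))
    (hEF : Commute E F) (hEQ : Commute E Q) (hER : Commute E R) (hFQ : Commute F Q) (hFR : Commute F R)
    (hQR : Commute Q R) : a * b = b * a * (Q⁻¹ * R⁻¹ * E⁻¹ * F⁻¹) := by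
  have e : Q⁻¹ * R⁻¹ * E⁻¹ * F⁻¹ = (E * F * Q * R)⁻¹ := by
    have e1 : E * F * Q * R = F * E * (R * Q) := by rw [_root_.mul_assoc (E * F) Q R, hEF.eq, hQR.eq]
    rw [e1, _root_.mul_inv_rev, _root_.mul_inv_rev, _root_.mul_inv_rev]
    group
  rw [e, h, mul_inv_cancel_right]

variable {S : Scheme.{u}} {G G' : Over S} [GrpObj G] [GrpObj G']

namespace PData

variable {D : Red.Pinning G} {D' : Red.Pinning G'} (Φ : PData D D')

/-- the pair of a root group with a given coordinate -/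
def PL (c : D.idx) {X : Over S} (v : Γ(X.left, ⊤)) : (X ⟶ G) × (X ⟶ G') := Φ.L c (ga v)

theorem PL_snd (c : D.idx) {X : Over S} (v : Γ(X.left, ⊤)) : (Φ.PL c v).2 = uv D' (Φ.d c) (v ^ Φ.q c) :=
  congrArg (fun z => z ≫ D'.u (Φ.d c)) (gaFn_injective (by rw [gaFn_fr, gaFn_ga, gaFn_ga]))

variable (a s : D.idx)

def PE {X : Over S} (v : Γ(X.left, ⊤)) : (X ⟶ G) × (X ⟶ G') := cjp (Φ.W s) (Φ.PL a v)
def PF {X : Over S} (v : Γ(X.left, ⊤)) : (X ⟶ G) × (X ⟶ G') := cjp (Φ.W a * Φ.W s) (Φ.PL a v)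
def PQ {X : Over S} (v : Γ(X.left, ⊤)) : (X ⟶ G) × (X ⟶ G') := cjp (Φ.W a) (Φ.PL s (-v))
def PR {X : Over S} (v : Γ(X.left, ⊤)) : (X ⟶ G) × (X ⟶ G') := cjp (Φ.W s * Φ.W a) (Φ.PL s (-v))

theorem PL_fst (c : D.idx) {X : Over S} (v : Γ(X.left, ⊤)) : (Φ.PL c v).1 = uv D c v := rfl
theorem PE_fst {X : Over S} (v : Γ(X.left, ⊤)) : (Φ.PE a s v).1 = Eu Φ.e₁ D a s v := rfl
theorem PF_fst {X : Over S} (v : Γ(X.left, ⊤)) : (Φ.PF a s v).1 = Fu Φ.e₁ D a s v := rfl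
theorem PQ_fst {X : Over S} (v : Γ(X.left, ⊤)) : (Φ.PQ a s v).1 = Qu Φ.e₁ D a s v := rfl
theorem PR_fst {X : Over S} (v : Γ(X.left, ⊤)) : (Φ.PR a s v).1 = Ru Φ.e₁ D a s v := rfl

theorem cjp_snd (W : (𝟙_ (Over S) ⟶ G) × (𝟙_ (Over S) ⟶ G')) {X : Over S} (z : (X ⟶ G) × (X ⟶ G')) :
    (cjp W z).2 = cj W.2 z.2 := rfl

theorem PE_snd {X : Over S} (v : Γ(X.left, ⊤)) :
    (Φ.PE a s v).2 = Eu Φ.e₁ D' (Φ.d a) (Φ.d s) (v ^ Φ.q a) := by
  rw [PE, cjp_snd, PL_snd]; rfl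
theorem PF_snd {X : Over S} (v : Γ(X.left, ⊤)) :
    (Φ.PF a s v).2 = Fu Φ.e₁ D' (Φ.d a) (Φ.d s) (v ^ Φ.q a) := by
  rw [PF, cjp_snd, PL_snd]; rfl
theorem PQ_snd {X : Over S} (v : Γ(X.left, ⊤)) :
    (Φ.PQ a s v).2 = Qu Φ.e₁ D' (Φ.d a) (Φ.d s) (v ^ Φ.q s) := by
  rw [PQ, cjp_snd, PL_snd, Φ.neg_pow_q]; rfl
theorem PR_snd {X : Over S} (v : Γ(X.left, ⊤)) :
    (Φ.PR a s v).2 = Ru Φ.e₁ D' (Φ.d a) (Φ.d s) (v ^ Φ.q s) := by
  rw [PR, cjp_snd, PL_snd, Φ.neg_pow_q]; rfl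

theorem PE_snd' {X : Over S} (v : Γ(X.left, ⊤)) :
    (Φ.PE a s v).2 = Qu Φ.e₁ D' (Φ.d s) (Φ.d a) (-(v ^ Φ.q a)) := by
  rw [PE, cjp_snd, PL_snd, Qu, neg_neg]; rfl
theorem PF_snd' {X : Over S} (v : Γ(X.left, ⊤)) :
    (Φ.PF a s v).2 = Ru Φ.e₁ D' (Φ.d s) (Φ.d a) (-(v ^ Φ.q a)) := by
  rw [PF, cjp_snd, PL_snd, Ru, neg_neg]; rfl
theorem PQ_snd' {X : Over S} (v : Γ(X.left, ⊤)) :
    (Φ.PQ a s v).2 = Eu Φ.e₁ D' (Φ.d s) (Φ.d a) (-(v ^ Φ.q s)) := by
  rw [PQ, cjp_snd, PL_snd, Φ.neg_pow_q]; rfl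
theorem PR_snd' {X : Over S} (v : Γ(X.left, ⊤)) :
    (Φ.PR a s v).2 = Fu Φ.e₁ D' (Φ.d s) (Φ.d a) (-(v ^ Φ.q s)) := by
  rw [PR, cjp_snd, PL_snd, Φ.neg_pow_q]; rfl

/-- a table entry parametrised by coordinates -/
structure Param (e : D.idx × Line D D') (P : ∀ {X : Over S}, Γ(X.left, ⊤) → (X ⟶ G) × (X ⟶ G')) : Prop where
  mem : ∀ (X : Over S) (v : Γ(X.left, ⊤)), P v ∈ e.2 X
  exists_val : ∀ (X : Over S), ∀ z ∈ e.2 X, ∃ v, P v = z
  invC : InvC e.2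

theorem param_base (c : D.idx) : Param (c, Φ.base c) (fun {X} v => Φ.PL c v) where
  mem X v := ⟨_, rfl⟩
  exists_val := by
    rintro X _ ⟨x, rfl⟩
    exact ⟨Red.gaFn x, congrArg (Φ.L c) (ga_gaFn x)⟩
  invC := Φ.invC_base c

theorem param_cl (r c : D.idx) (W : (𝟙_ (Over S) ⟶ G) × (𝟙_ (Over S) ⟶ G')) :
    Param (r, cl W (Φ.base c)) (fun {X} v => cjp W (Φ.PL c v)) where
  mem X v := ⟨_, ⟨_, rfl⟩, rfl⟩
  exists_val := by
    rintro X _ ⟨_, ⟨x, rfl⟩, rfl⟩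
    exact ⟨Red.gaFn x, congrArg (fun z => cjp W (Φ.L c z)) (ga_gaFn x)⟩
  invC := (Φ.invC_base c).cl W

theorem param_cl_neg (r c : D.idx) (W : (𝟙_ (Over S) ⟶ G) × (𝟙_ (Over S) ⟶ G')) :
    Param (r, cl W (Φ.base c)) (fun {X} v => cjp W (Φ.PL c (-v))) where
  mem X v := ⟨_, ⟨_, rfl⟩, rfl⟩
  exists_val := by
    rintro X _ ⟨_, ⟨x, rfl⟩, rfl⟩
    exact ⟨-Red.gaFn x, congrArg (fun z => cjp W (Φ.L c z)) (by rw [neg_neg, ga_gaFn])⟩
  invC := (Φ.invC_base c).cl W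

theorem CommT.of_vals {tb : List (D.idx × Line D D')} {e e' : D.idx × Line D D'}
    {P P' : ∀ {X : Over S}, Γ(X.left, ⊤) → (X ⟶ G) × (X ⟶ G')} (he : Param e P) (he' : Param e' P')
    (h : ∀ (X : Over S) (x y : Γ(X.left, ⊤)),
      ∃ K ∈ Subgroup.closure (entries tb (Sys.between D.toSplitRed e.1 e'.1) X), P y * P' x = P' x * P y * K) :
    CommT tb e e' :=
  CommT.of_eq he.invC he'.invC fun X z hz w hw => by
    obtain ⟨y, rfl⟩ := he.exists_val X z hz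
    obtain ⟨x, rfl⟩ := he'.exists_val X w hw
    exact h X x y

theorem CommT.of_vals_comm {tb : List (D.idx × Line D D')} {e e' : D.idx × Line D D'}
    {P P' : ∀ {X : Over S}, Γ(X.left, ⊤) → (X ⟶ G) × (X ⟶ G')} (he : Param e P) (he' : Param e' P')
    (h : ∀ (X : Over S) (x y : Γ(X.left, ⊤)), P y * P' x = P' x * P y) : CommT tb e e' :=
  CommT.of_vals he he' fun X x y => ⟨1, one_mem _, by rw [_root_.mul_one]; exact h X x y⟩

variable {a s} (ha : a ∈ D.base.support) (hs : s ∈ D.base.support) (hne : a ≠ s)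
  (hA : D.P.pairing s a = -3) (hB : D.P.pairing a s = -1)
include ha hs hne hA hB

/-- the parts of the table of type G₂ which concern `G` only -/
theorem table_three_of (hfixA : ∀ (X : Over S) (v : Γ(X.left, ⊤)), cjp (Φ.W a) (Φ.PR a s v) = Φ.PR a s v)
    (hfixS : ∀ (X : Over S) (v : Γ(X.left, ⊤)), cjp (Φ.W s) (Φ.PF a s v) = Φ.PF a s v)
    (has : ∀ (X : Over S) (x y : Γ(X.left, ⊤)), Φ.PL s y * Φ.PL a x = Φ.PL a x * Φ.PL s y *
      (Φ.PE a s (x * y) * Φ.PF a s (x ^ 2 * y) * Φ.PQ a s (x ^ 3 * y) * Φ.PR a s (x ^ 3 * y ^ 2)))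
    (haE : ∀ (X : Over S) (x y : Γ(X.left, ⊤)), Φ.PE a s y * Φ.PL a x = Φ.PL a x * Φ.PE a s y *
      (Φ.PF a s (2 * x * y) * Φ.PQ a s (3 * x ^ 2 * y) * Φ.PR a s (3 * x * y ^ 2)))
    (haF : ∀ (X : Over S) (x y : Γ(X.left, ⊤)), Φ.PF a s y * Φ.PL a x = Φ.PL a x * Φ.PF a s y * Φ.PQ a s (3 * x * y))
    (hsQ : ∀ (X : Over S) (x y : Γ(X.left, ⊤)), Φ.PQ a s y * Φ.PL s x = Φ.PL s x * Φ.PQ a s y * Φ.PR a s (-(x * y)))
    (hEF : ∀ (X : Over S) (x y : Γ(X.left, ⊤)), Φ.PF a s y * Φ.PE a s x = Φ.PE a s x * Φ.PF a s y * Φ.PR a s (3 * x * y))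
    (haQ : ∀ (X : Over S) (x y : Γ(X.left, ⊤)), Φ.PQ a s y * Φ.PL a x = Φ.PL a x * Φ.PQ a s y)
    (haR : ∀ (X : Over S) (x y : Γ(X.left, ⊤)), Φ.PR a s y * Φ.PL a x = Φ.PL a x * Φ.PR a s y)
    (hsE : ∀ (X : Over S) (x y : Γ(X.left, ⊤)), Φ.PE a s y * Φ.PL s x = Φ.PL s x * Φ.PE a s y)
    (hsF : ∀ (X : Over S) (x y : Γ(X.left, ⊤)), Φ.PF a s y * Φ.PL s x = Φ.PL s x * Φ.PF a s y)
    (hsR : ∀ (X : Over S) (x y : Γ(X.left, ⊤)), Φ.PR a s y * Φ.PL s x = Φ.PL s x * Φ.PR a s y)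
    (hEQ : ∀ (X : Over S) (x y : Γ(X.left, ⊤)), Φ.PQ a s y * Φ.PE a s x = Φ.PE a s x * Φ.PQ a s y)
    (hER : ∀ (X : Over S) (x y : Γ(X.left, ⊤)), Φ.PR a s y * Φ.PE a s x = Φ.PE a s x * Φ.PR a s y)
    (hFQ : ∀ (X : Over S) (x y : Γ(X.left, ⊤)), Φ.PQ a s y * Φ.PF a s x = Φ.PF a s x * Φ.PQ a s y)
    (hFR : ∀ (X : Over S) (x y : Γ(X.left, ⊤)), Φ.PR a s y * Φ.PF a s x = Φ.PF a s x * Φ.PR a s y)
    (hQR : ∀ (X : Over S) (x y : Γ(X.left, ⊤)), Φ.PR a s y * Φ.PQ a s x = Φ.PQ a s x * Φ.PR a s y) :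
    Φ.Table a s (Φ.tbl3 a s) := by
  haveI := D.fintypeIdx
  haveI : Finite D.idx := Finite.of_fintype _
  obtain ⟨re, rf, rq, rr⟩ := roots_span D.toSplitRed hA hB
  set eE : D.idx × Line D D' := (D.P.reflectionPerm s a, cl (Φ.wW [s]) (Φ.base a)) with heE
  set eF : D.idx × Line D D' :=
    (D.P.reflectionPerm a (D.P.reflectionPerm s a), cl (Φ.wW [a, s]) (Φ.base a)) with heF
  set eQ : D.idx × Line D D' := (D.P.reflectionPerm a s, cl (Φ.wW [a]) (Φ.base s)) with heQ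
  set eR : D.idx × Line D D' :=
    (D.P.reflectionPerm s (D.P.reflectionPerm a s), cl (Φ.wW [s, a]) (Φ.base s)) with heR
  have pE : Param eE (fun {X} v => Φ.PE a s v) := by rw [heE, wW_one]; exact Φ.param_cl _ a _
  have pF : Param eF (fun {X} v => Φ.PF a s v) := by rw [heF, wW_two]; exact Φ.param_cl _ a _
  have pQ : Param eQ (fun {X} v => Φ.PQ a s v) := by rw [heQ, wW_one]; exact Φ.param_cl_neg _ s _
  have pR : Param eR (fun {X} v => Φ.PR a s v) := by rw [heR, wW_two]; exact Φ.param_cl_neg _ s _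
  have pa := Φ.param_base a
  have ps := Φ.param_base s
  have mE : eE ∈ Φ.tbl3 a s := by simp [tbl3, heE]
  have mF : eF ∈ Φ.tbl3 a s := by simp [tbl3, heF]
  have mQ : eQ ∈ Φ.tbl3 a s := by simp [tbl3, heQ]
  have mR : eR ∈ Φ.tbl3 a s := by simp [tbl3, heR]
  have kas : CommT (Φ.tbl3 a s) (s, Φ.base s) (a, Φ.base a) := CommT.of_vals ps pa fun X x y =>
    ⟨_, mul_mem (mul_mem (mul_mem (mem_entries mE 1 1 le_rfl le_rfl (by rw [heE, re]; module) (pE.mem X _))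
      (mem_entries mF 1 2 le_rfl one_le_two (by rw [heF, rf]; module) (pF.mem X _)))
      (mem_entries mQ 1 3 le_rfl (by norm_num) (by rw [heQ, rq]; module) (pQ.mem X _)))
      (mem_entries mR 2 3 one_le_two (by norm_num) (by rw [heR, rr]; module) (pR.mem X _)), has X x y⟩
  have kaE : CommT (Φ.tbl3 a s) eE (a, Φ.base a) := CommT.of_vals pE pa fun X x y =>
    ⟨_, mul_mem (mul_mem (mem_entries mF 1 1 le_rfl le_rfl (by rw [heE, heF, re, rf]; module) (pF.mem X _))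
      (mem_entries mQ 1 2 le_rfl one_le_two (by rw [heE, heQ, re, rq]; module) (pQ.mem X _)))
      (mem_entries mR 2 1 one_le_two le_rfl (by rw [heE, heR, re, rr]; module) (pR.mem X _)), haE X x y⟩
  have kaF : CommT (Φ.tbl3 a s) eF (a, Φ.base a) := CommT.of_vals pF pa fun X x y =>
    ⟨_, mem_entries mQ 1 1 le_rfl le_rfl (by rw [heF, heQ, rf, rq]; module) (pQ.mem X _), haF X x y⟩
  have ksQ : CommT (Φ.tbl3 a s) eQ (s, Φ.base s) := CommT.of_vals pQ ps fun X x y =>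
    ⟨_, mem_entries mR 1 1 le_rfl le_rfl (by rw [heQ, heR, rq, rr]; module) (pR.mem X _), hsQ X x y⟩
  have kEF : CommT (Φ.tbl3 a s) eF eE := CommT.of_vals pF pE fun X x y =>
    ⟨_, mem_entries mR 1 1 le_rfl le_rfl (by rw [heE, heF, heR, re, rf, rr]; module) (pR.mem X _), hEF X x y⟩
  have kaQ : CommT (Φ.tbl3 a s) eQ (a, Φ.base a) := CommT.of_vals_comm pQ pa haQ
  have kaR : CommT (Φ.tbl3 a s) eR (a, Φ.base a) := CommT.of_vals_comm pR pa haR
  have ksE : CommT (Φ.tbl3 a s) eE (s, Φ.base s) := CommT.of_vals_comm pE ps hsE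
  have ksF : CommT (Φ.tbl3 a s) eF (s, Φ.base s) := CommT.of_vals_comm pF ps hsF
  have ksR : CommT (Φ.tbl3 a s) eR (s, Φ.base s) := CommT.of_vals_comm pR ps hsR
  have kEQ : CommT (Φ.tbl3 a s) eQ eE := CommT.of_vals_comm pQ pE hEQ
  have kER : CommT (Φ.tbl3 a s) eR eE := CommT.of_vals_comm pR pE hER
  have kFQ : CommT (Φ.tbl3 a s) eQ eF := CommT.of_vals_comm pQ pF hFQ
  have kFR : CommT (Φ.tbl3 a s) eR eF := CommT.of_vals_comm pR pF hFR
  have kQR : CommT (Φ.tbl3 a s) eR eQ := CommT.of_vals_comm pR pQ hQR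
  have hFF : D.P.reflectionPerm s eF.1 = eF.1 := D.P.root.injective (by
    rw [heF, root_refl' D.toSplitRed s _, pairing_comb D.toSplitRed rf s, D.P.pairing_same, hB]
    norm_num)
  have hRR : D.P.reflectionPerm a eR.1 = eR.1 := D.P.root.injective (by
    rw [heR, root_refl' D.toSplitRed a _, pairing_comb D.toSplitRed rr a, D.P.pairing_same, hA]
    norm_num)
  refine ⟨by simp [tbl3], by simp [tbl3], ?_, ?_, ?_, ?_, ?_⟩
  · rintro r ⟨hr, i, j, hij⟩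
    rcases mem_span_pos D ha hs hne (m := 3) hA hB (by norm_num) hr hij with ⟨rfl, rfl⟩ | ⟨rfl, rfl⟩ | h
    · exact ⟨(a, Φ.base a), by simp [tbl3], D.P.root.injective (by simp [hij])⟩
    · exact ⟨(s, Φ.base s), by simp [tbl3], D.P.root.injective (by simp [hij])⟩
    · rcases h with ⟨rfl, rfl⟩ | ⟨-, rfl, rfl⟩ | ⟨h, -⟩ | ⟨-, ⟨rfl, rfl⟩ | ⟨rfl, rfl⟩⟩
      · exact ⟨eE, mE, D.P.root.injective (re.trans hij.symm)⟩
      · exact ⟨eF, mF, D.P.root.injective ((rf.trans (by norm_num)).trans hij.symm)⟩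
      · norm_num at h
      · exact ⟨eQ, mQ, D.P.root.injective (rq.trans hij.symm)⟩
      · exact ⟨eR, mR, D.P.root.injective ((rr.trans (by norm_num)).trans hij.symm)⟩
  · intro e he
    simp only [tbl3, List.mem_cons, List.not_mem_nil, or_false] at he
    rcases he with rfl | rfl | rfl | rfl | rfl | rfl
    exacts [⟨[], a, by simp, Or.inl rfl, rfl, Φ.word_base a⟩, ⟨[], s, by simp, Or.inr rfl, rfl, Φ.word_base s⟩,
      ⟨[s], a, by simp, Or.inl rfl, by simp, rfl⟩, ⟨[a, s], a, by simp, Or.inl rfl, by simp, rfl⟩,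
      ⟨[a], s, by simp, Or.inr rfl, by simp, rfl⟩, ⟨[s, a], s, by simp, Or.inr rfl, by simp, rfl⟩]
  · intro t ht e he hne'
    simp only [tbl3, List.mem_cons, List.not_mem_nil, or_false] at he
    rcases ht with ht | ht <;> subst t <;> rcases he with rfl | rfl | rfl | rfl | rfl | rfl
    · exact absurd rfl hne'
    · exact ⟨eQ, mQ, rfl, by rw [heQ, wW_one]⟩
    · exact ⟨eF, mF, rfl, Φ.cl_cons a [s] a⟩
    · exact ⟨eE, mE, (D.P.reflectionPerm_self a _).symm, Φ.cl_sq_word ha [s] (by simp [hs]) a⟩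
    · exact ⟨(s, Φ.base s), by simp [tbl3], (D.P.reflectionPerm_self a s).symm,
        (Φ.cl_sq_word ha [] (by simp) s).trans (cl_one _).le⟩
    · refine ⟨eR, mR, hRR.symm, fix_of_eq fun X z hz => ?_⟩
      obtain ⟨v, rfl⟩ := pR.exists_val X z hz
      rw [hfixA X v]; exact pR.mem X v
    · exact ⟨eE, mE, rfl, by rw [heE, wW_one]⟩
    · exact absurd rfl hne'
    · exact ⟨(a, Φ.base a), by simp [tbl3], (D.P.reflectionPerm_self s a).symm,
        (Φ.cl_sq_word hs [] (by simp) a).trans (cl_one _).le⟩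
    · refine ⟨eF, mF, hFF.symm, fix_of_eq fun X z hz => ?_⟩
      obtain ⟨v, rfl⟩ := pF.exists_val X z hz
      rw [hfixS X v]; exact pF.mem X v
    · exact ⟨eR, mR, rfl, Φ.cl_cons s [a] s⟩
    · exact ⟨eQ, mQ, (D.P.reflectionPerm_self s _).symm, Φ.cl_sq_word hs [a] (by simp [ha]) s⟩
  · intro e he e' he' hne'
    simp only [tbl3, List.mem_cons, List.not_mem_nil, or_false, ← heE, ← heF, ← heQ, ← heR] at he he'
    rcases he with rfl | rfl | rfl | rfl | rfl | rfl <;> rcases he' with rfl | rfl | rfl | rfl | rfl | rfl <;>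
      first
        | exact absurd rfl hne'
        | assumption
        | (refine CommT.symm ?_; assumption)
  · intro e he
    simp only [tbl3, List.mem_cons, List.not_mem_nil, or_false] at he
    have hn := fun {c : D.idx} {i j : ℤ} (hc : D.P.root c = i • D.P.root a + j • D.P.root s) (hi : i ≠ 0)
      (hj : j ≠ 0) => ne_simples D ha hs hne (m := 3) hA hB (by norm_num) hc hi hj
    rcases he with rfl | rfl | rfl | rfl | rfl | rfl
    · exact ⟨fun _ => rfl, fun h => absurd h hne⟩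
    · exact ⟨fun h => absurd h hne.symm, fun _ => rfl⟩
    · exact ⟨fun h => absurd h (hn re one_ne_zero one_ne_zero).1, fun h => absurd h (hn re one_ne_zero one_ne_zero).2⟩
    · exact ⟨fun h => absurd h (hn rf (by norm_num) one_ne_zero).1, fun h => absurd h (hn rf (by norm_num) one_ne_zero).2⟩
    · exact ⟨fun h => absurd h (hn rq (by norm_num) one_ne_zero).1, fun h => absurd h (hn rq (by norm_num) one_ne_zero).2⟩
    · exact ⟨fun h => absurd h (hn rr (by norm_num) (by norm_num)).1, fun h => absurd h (hn rr (by norm_num) (by norm_num)).2⟩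

theorem table_three (hA' : D'.P.pairing (Φ.d s) (Φ.d a) = -3) (hB' : D'.P.pairing (Φ.d a) (Φ.d s) = -1)
    (hq : Φ.q a = Φ.q s) : Φ.Table a s (Φ.tbl3 a s) := by
  have R := fun X x y => g2Rel Φ.e₁ D a s Φ.he₁ Φ.avc Φ.havc Φ.hpair ha hs hne hA hB X x y
  have R' := fun X x y => g2Rel Φ.e₁ D' (Φ.d a) (Φ.d s) Φ.he₁ Φ.avc' Φ.havc' Φ.hpair' ((Φ.hΔ a).mp ha) ((Φ.hΔ s).mp hs)
    (fun e => hne (Φ.d.injective e)) hA' hB' X x y
  have n2 : ∀ X : Over S, (2 : Γ(X.left, ⊤)) ^ Φ.q s = 2 := fun X => by simpa using Φ.natCast_pow_q s X 2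
  have n3 : ∀ X : Over S, (3 : Γ(X.left, ⊤)) ^ Φ.q s = 3 := fun X => by simpa using Φ.natCast_pow_q s X 3
  have n : ∀ {X : Over S} (x : Γ(X.left, ⊤)) (k : ℕ), (x ^ k) ^ Φ.q s = (x ^ Φ.q s) ^ k :=
    fun x k => pow_right_comm x k _
  apply Φ.table_three_of ha hs hne hA hB
  · exact fun X v => Prod.ext (R X v v).fixA (by rw [cjp_snd, PR_snd]; exact (R' X _ (v ^ Φ.q s)).fixA)
  · exact fun X v => Prod.ext (R X v v).fixB (by rw [cjp_snd, PF_snd]; exact (R' X _ (v ^ Φ.q a)).fixB)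
  all_goals intro X x y
  all_goals refine Prod.ext ?_ ?_
  all_goals simp only [Prod.fst_mul, Prod.snd_mul, PL_fst, PE_fst, PF_fst, PQ_fst, PR_fst, PL_snd, PE_snd, PF_snd,
    PQ_snd, PR_snd, hq, mul_pow, Φ.neg_pow_q, n2, n3, n]
  · exact (R X x y).ab
  · exact (R' X _ _).ab
  · exact (R X x y).aE
  · exact (R' X _ _).aE
  · exact (R X x y).aF
  · exact (R' X _ _).aF
  · exact (R X x y).bQ
  · exact (R' X _ _).bQ
  · exact (R X x y).EF
  · exact (R' X _ _).EF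
  · exact (R X x y).aQ.eq.symm
  · exact (R' X _ _).aQ.eq.symm
  · exact (R X x y).aR.eq.symm
  · exact (R' X _ _).aR.eq.symm
  · exact (R X x y).bE.eq.symm
  · exact (R' X _ _).bE.eq.symm
  · exact (R X x y).bF.eq.symm
  · exact (R' X _ _).bF.eq.symm
  · exact (R X x y).bR.eq.symm
  · exact (R' X _ _).bR.eq.symm
  · exact (R X x y).EQ.eq.symm
  · exact (R' X _ _).EQ.eq.symm
  · exact (R X x y).ER.eq.symm
  · exact (R' X _ _).ER.eq.symm
  · exact (R X x y).FQ.eq.symm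
  · exact (R' X _ _).FQ.eq.symm
  · exact (R X x y).FR.eq.symm
  · exact (R' X _ _).FR.eq.symm
  · exact (R X x y).QR.eq.symm
  · exact (R' X _ _).QR.eq.symm

/-- type G₂ with long and short exchanged -/
theorem table_three' (hA' : D'.P.pairing (Φ.d s) (Φ.d a) = -1) (hB' : D'.P.pairing (Φ.d a) (Φ.d s) = -3)
    (hq : Φ.q a = 3 * Φ.q s) (hz : ∀ X : Over S, (3 : Γ(X.left, ⊤)) = 0) : Φ.Table a s (Φ.tbl3 a s) := by
  have R := fun X x y => g2Rel Φ.e₁ D a s Φ.he₁ Φ.avc Φ.havc Φ.hpair ha hs hne hA hB X x y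
  have R' := fun X x y => g2Rel Φ.e₁ D' (Φ.d s) (Φ.d a) Φ.he₁ Φ.avc' Φ.havc' Φ.hpair' ((Φ.hΔ s).mp hs) ((Φ.hΔ a).mp ha)
    (fun e => hne (Φ.d.injective e).symm) hB' hA' X x y
  have n2 : ∀ X : Over S, (2 : Γ(X.left, ⊤)) ^ Φ.q s = 2 := fun X => by simpa using Φ.natCast_pow_q s X 2
  have qa : ∀ {X : Over S} (x : Γ(X.left, ⊤)), x ^ Φ.q a = (x ^ Φ.q s) ^ 3 := fun x => by
    rw [hq, mul_comm, pow_mul]
  have n : ∀ {X : Over S} (x : Γ(X.left, ⊤)) (k : ℕ), (x ^ k) ^ Φ.q s = (x ^ Φ.q s) ^ k :=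
    fun x k => pow_right_comm x k _
  have two : ∀ X : Over S, (2 : Γ(X.left, ⊤)) = -1 := fun X => by linear_combination hz X
  have hEF : ∀ (X : Over S) (x y : Γ(X.left, ⊤)), Commute (Eu Φ.e₁ D a s x) (Fu Φ.e₁ D a s y) := fun X x y => by
    have h := (R X x y).EF
    rw [hz, zero_mul, zero_mul, Ru_zero, _root_.mul_one] at h
    exact h.symm
  have hEF' : ∀ (X : Over S) (x y : Γ(X.left, ⊤)),
      Commute (Eu Φ.e₁ D' (Φ.d s) (Φ.d a) x) (Fu Φ.e₁ D' (Φ.d s) (Φ.d a) y) := fun X x y => by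
    have h := (R' X x y).EF
    rw [hz, zero_mul, zero_mul, Ru_zero, _root_.mul_one] at h
    exact h.symm
  apply Φ.table_three_of ha hs hne hA hB
  · exact fun X v => Prod.ext (R X v v).fixA (by rw [cjp_snd, PR_snd']; exact (R' X (-(v ^ Φ.q s)) v).fixB)
  · exact fun X v => Prod.ext (R X v v).fixB (by rw [cjp_snd, PF_snd']; exact (R' X (-(v ^ Φ.q a)) v).fixA)
  all_goals intro X x y
  all_goals refine Prod.ext ?_ ?_
  all_goals simp only [Prod.fst_mul, Prod.snd_mul, PL_fst, PE_fst, PF_fst, PQ_fst, PR_fst, PL_snd, PE_snd', PF_snd',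
    PQ_snd', PR_snd']
  · exact (R X x y).ab
  · refine (swap_g2_aux (R' X (y ^ Φ.q s) (x ^ Φ.q a)).ab (hEF' X _ _) (R' X _ _).EQ (R' X _ _).ER (R' X _ _).FQ
      (R' X _ _).FR (R' X _ _).QR).trans ?_
    simp only [← Qu_neg, ← Ru_neg, ← Eu_neg, ← Fu_neg, qa, mul_pow, n]
    ring_nf
  · exact (R X x y).aE
  · refine (R' X _ _).bQ.trans ?_
    simp only [hz, zero_mul, zero_pow (Φ.q_pos _).ne', neg_zero, Eu_zero, Fu_zero, _root_.mul_one, mul_pow, two,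
      Φ.neg_one_pow_q]
    ring_nf
  · exact (R X x y).aF
  · simp only [hz, zero_mul, zero_pow (Φ.q_pos _).ne', neg_zero, Eu_zero, _root_.mul_one]
    exact (R' X _ _).bR.eq.symm
  · exact (R X x y).bQ
  · refine (R' X _ _).aE.trans ?_
    simp only [hz, zero_mul, Qu_zero, Ru_zero, _root_.mul_one, Φ.neg_pow_q, mul_pow, two, neg_neg]
    ring_nf
  · exact (R X x y).EF
  · simp only [hz, zero_mul, zero_pow (Φ.q_pos _).ne', neg_zero, Fu_zero, _root_.mul_one]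
    exact (R' X _ _).QR.eq.symm
  · exact (R X x y).aQ.eq.symm
  · exact (R' X _ _).bE.eq.symm
  · exact (R X x y).aR.eq.symm
  · exact (R' X _ _).bF.eq.symm
  · exact (R X x y).bE.eq.symm
  · exact (R' X _ _).aQ.eq.symm
  · exact (R X x y).bF.eq.symm
  · exact (R' X _ _).aR.eq.symm
  · exact (R X x y).bR.eq.symm
  · have h := (R' X (x ^ Φ.q s) (-(y ^ Φ.q s))).aF
    rwa [hz, zero_mul, zero_mul, Qu_zero, _root_.mul_one] at h
  · exact (R X x y).EQ.eq.symm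
  · exact (R' X _ _).EQ.eq
  · exact (R X x y).ER.eq.symm
  · exact (R' X _ _).FQ.eq
  · exact (R X x y).FQ.eq.symm
  · exact (R' X _ _).ER.eq
  · exact (R X x y).FR.eq.symm
  · exact (R' X _ _).FR.eq
  · exact (R X x y).QR.eq.symm
  · exact (hEF' X _ _).eq.symm

omit ha hs hne hA hB in
/-- every pair of simple roots has a table -/
theorem exists_table {a s : D.idx} (ha : a ∈ D.base.support) (hs : s ∈ D.base.support) (hne : a ≠ s) :
    ∃ tb, Φ.Table a s tb := by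
  suffices h : ∀ a s : D.idx, a ∈ D.base.support → s ∈ D.base.support → a ≠ s → Φ.Kind a s → ∃ tb, Φ.Table a s tb by
    rcases Φ.kind ha hs hne with hk | hk
    · exact h a s ha hs hne hk
    · obtain ⟨tb, htb⟩ := h s a hs ha hne.symm hk
      exact ⟨tb, htb.symm⟩
  clear ha hs hne
  intro a s ha hs hne hk
  rcases hk with ⟨hA, hB, hA', hB'⟩ | ⟨m, hm, hA, hB, hA', hB', hq⟩ | ⟨m, hm, hA, hB, hA', hB', hq, hz⟩
  · exact ⟨_, Φ.table_orth ha hs hne hA hB hB'⟩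
  · rcases hm with rfl | rfl | rfl
    · exact ⟨_, Φ.table_one ha hs hne hq hA hB hA' hB'⟩
    · exact ⟨_, Φ.table_two ha hs hne hA hB hA' hB' hq⟩
    · exact ⟨_, Φ.table_three ha hs hne hA hB hA' hB' hq⟩
  · rcases hm with rfl | rfl
    · exact ⟨_, Φ.table_two' ha hs hne hA hB hA' hB' hq fun X => by simpa using hz X⟩
    · exact ⟨_, Φ.table_three' ha hs hne hA hB hA' hB' hq fun X => by simpa using hz X⟩

end PData

end Groth.Agent.H21Split.R3
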