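import Groth.Agent.H21Split.R3.PData
import Groth.Agent.H21Split.R2.WeylWord
import Groth.Agent.H21Split.R2.PairOrder
import Groth.Agent.S8459
import Groth.Agent.S8460
import Groth.Agent.S8461
import Groth.Agent.S8462

/-!
The group of Weyl pairs modulo the torus pairs, and pair lines carried by Weyl pairs.
-/

open CategoryTheory MonoidalCategory CartesianMonoidalCategory MonObj GrpObj AlgebraicGeometry
open CategoryTheory.Limits
open Groth.Agent.H27Witt.GaCoord (gaFn_comp gaFn_surjective gaFn_injective gaFn_one gaFn_mul)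
open Groth.Agent.H21Split.R2 (phi DSmap_comp phi_phi)
open Groth.Agent.H21Root (sr wl)
open Groth.Agent.H21Root.SimpleZ (coxM cS coxHom)

universe u

set_option backward.isDefEq.respectTransparency false
set_option linter.style.haveILetI false
set_option linter.unusedSectionVars false
set_option linter.unusedVariables false
set_option synthInstance.maxHeartbeats 400000
set_option maxHeartbeats 400000

noncomputable section

namespace Groth.Agent.H21Split.R3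

variable {S : Scheme.{u}} {G G' : Over S} [GrpObj G] [GrpObj G']

theorem conj_comp {M : Type*} [Group M] (V W z : M) : V * (W * z * W⁻¹) * V⁻¹ = V * W * z * (V * W)⁻¹ := by group

theorem conj_inv_pair {M : Type*} [Group M] {V z w : M} (h : V * z * V⁻¹ = w) : V⁻¹ * w * V⁻¹⁻¹ = z := by
  rw [← h]; group

namespace PData

variable {D : Red.Pinning G} {D' : Red.Pinning G'} (Φ : PData D D')

/-- a family of sets of pairs, one for each scheme over the base -/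
abbrev Line (D : Red.Pinning G) (D' : Red.Pinning G') : Type (u + 1) :=
  ∀ X : Over S, Set ((X ⟶ G) × (X ⟶ G'))

/-- the pair line of the root group of a root -/
def base (a : D.idx) : Line D D' := fun X => Set.range (Φ.L a (X := X))

/-- the line carried by a pair over the base -/
def cl (W : (𝟙_ (Over S) ⟶ G) × (𝟙_ (Over S) ⟶ G')) (ℓ : Line D D') : Line D D' := fun X =>
  (fun z => Sys.pull (toUnit X) W * z * (Sys.pull (toUnit X) W)⁻¹) '' ℓ X

theorem cl_mul (W V : (𝟙_ (Over S) ⟶ G) × (𝟙_ (Over S) ⟶ G')) (ℓ : Line D D') :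
    cl (W * V) ℓ = cl W (cl V ℓ) := by
  funext X
  rw [cl, cl, cl, Set.image_image]
  refine Set.image_congr fun z _ => ?_
  rw [conj_comp, map_mul]

theorem cl_one (ℓ : Line D D') : cl (1 : (𝟙_ (Over S) ⟶ G) × (𝟙_ (Over S) ⟶ G')) ℓ = ℓ := by
  funext X
  rw [cl]
  simp

theorem cl_mono (W : (𝟙_ (Over S) ⟶ G) × (𝟙_ (Over S) ⟶ G')) {ℓ ℓ' : Line D D'} (h : ℓ ≤ ℓ') : cl W ℓ ≤ cl W ℓ' :=
  fun X => Set.image_mono (h X)

/-- stable under conjugation by torus pairs -/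
def TStable (ℓ : Line D D') : Prop :=
  ∀ (X : Over S) (t : X ⟶ D.T), ∀ z ∈ ℓ X, Φ.T2 t * z * (Φ.T2 t)⁻¹ ∈ ℓ X

theorem tStable_base (a : D.idx) : Φ.TStable (Φ.base a) := by
  rintro X t _ ⟨x, rfl⟩
  obtain ⟨x', hx'⟩ := gaFn_surjective (X := X)
    (Red.gmFn (t ≫ D.split.hom.hom.hom ≫ Red.chi S (D.P.root a)) * Red.gaFn x)
  exact ⟨x', (Φ.T2_L a t x x' hx').symm⟩

/-- normalising the torus pairs -/
def NT (W : (𝟙_ (Over S) ⟶ G) × (𝟙_ (Over S) ⟶ G')) : Prop :=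
  ∀ (X : Over S) (t : X ⟶ D.T), (∃ s : X ⟶ D.T,
    Sys.pull (toUnit X) W * Φ.T2 t * (Sys.pull (toUnit X) W)⁻¹ = Φ.T2 s) ∧
    ∃ s : X ⟶ D.T, (Sys.pull (toUnit X) W)⁻¹ * Φ.T2 t * Sys.pull (toUnit X) W = Φ.T2 s

theorem nt_one : Φ.NT 1 := fun X t => by
  refine ⟨⟨t, ?_⟩, ⟨t, ?_⟩⟩ <;> simp

theorem NT.mul {Φ : PData D D'} {W V : (𝟙_ (Over S) ⟶ G) × (𝟙_ (Over S) ⟶ G')} (hW : Φ.NT W) (hV : Φ.NT V) :
    Φ.NT (W * V) := fun X t => by
  refine ⟨?_, ?_⟩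
  · obtain ⟨s, hs⟩ := (hV X t).1
    obtain ⟨r, hr⟩ := (hW X s).1
    exact ⟨r, by rw [map_mul, ← hr, ← hs]; group⟩
  · obtain ⟨s, hs⟩ := (hW X t).2
    obtain ⟨r, hr⟩ := (hV X s).2
    exact ⟨r, by rw [map_mul, ← hr, ← hs]; group⟩

theorem nt_W {a : D.idx} (ha : a ∈ D.base.support) : Φ.NT (Φ.W a) := fun X t => by
  refine ⟨⟨_, Φ.W_T2 ha t⟩, ⟨t ≫ phi D.toSplitRed a, ?_⟩⟩
  have h := Φ.W_T2 ha (t ≫ phi D.toSplitRed a)
  rw [Category.assoc, phi_phi, Category.comp_id] at h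
  rw [← h]; group

theorem TStable.cl {Φ : PData D D'} {W : (𝟙_ (Over S) ⟶ G) × (𝟙_ (Over S) ⟶ G')} (hW : Φ.NT W) {ℓ : Line D D'}
    (hℓ : Φ.TStable ℓ) : Φ.TStable (PData.cl W ℓ) := by
  rintro X t _ ⟨z, hz, rfl⟩
  obtain ⟨s, hs⟩ := (hW X t).2
  exact ⟨_, hℓ X s z hz, by rw [← hs]; group⟩

/-- a word in the Weyl pairs -/
def wW (l : List D.idx) : (𝟙_ (Over S) ⟶ G) × (𝟙_ (Over S) ⟶ G') := (l.map Φ.W).prod

theorem wW_cons (a : D.idx) (l : List D.idx) : Φ.wW (a :: l) = Φ.W a * Φ.wW l := by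
  rw [wW, List.map_cons, List.prod_cons]; rfl

theorem nt_wW : ∀ l : List D.idx, (∀ c ∈ l, c ∈ D.base.support) → Φ.NT (Φ.wW l)
  | [], _ => Φ.nt_one
  | a :: l, h => by
    rw [wW_cons]
    exact (Φ.nt_W (h a List.mem_cons_self)).mul (nt_wW l fun c hc => h c (List.mem_cons_of_mem a hc))

/-- the torus pairs over the base -/
def torT : Subgroup ((𝟙_ (Over S) ⟶ G) × (𝟙_ (Over S) ⟶ G')) :=
  (MonoidHom.mk' (fun t : 𝟙_ (Over S) ⟶ D.T => Φ.T2 t) Φ.T2_mul).range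

theorem mem_torT {z : (𝟙_ (Over S) ⟶ G) × (𝟙_ (Over S) ⟶ G')} : z ∈ Φ.torT ↔ ∃ t, Φ.T2 t = z := Iff.rfl

theorem cl_torT {z : (𝟙_ (Over S) ⟶ G) × (𝟙_ (Over S) ⟶ G')} (hz : z ∈ Φ.torT) {ℓ : Line D D'}
    (hℓ : Φ.TStable ℓ) : cl z ℓ ≤ ℓ := by
  obtain ⟨t, rfl⟩ := (Φ.mem_torT).mp hz
  rintro X _ ⟨w, hw, rfl⟩
  change Sys.pull (toUnit X) (Φ.T2 t) * w * (Sys.pull (toUnit X) (Φ.T2 t))⁻¹ ∈ ℓ X
  rw [pull_T2]
  exact hℓ X _ w hw

theorem W_mem_normalizer {a : D.idx} (ha : a ∈ D.base.support) : Φ.W a ∈ (Subgroup.normalizer (Φ.torT : Set _)) := by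
  have e : Sys.pull (toUnit (𝟙_ (Over S))) (Φ.W a) = Φ.W a := by
    rw [toUnit_unique (toUnit (𝟙_ (Over S))) (𝟙 _), Sys.pull_apply, Category.id_comp, Category.id_comp]
  rw [Subgroup.mem_normalizer_iff]
  refine fun z => ⟨fun hz => ?_, fun hz => ?_⟩
  · obtain ⟨t, rfl⟩ := (Φ.mem_torT).mp hz
    obtain ⟨s, hs⟩ := ((Φ.nt_W ha) _ t).1
    rw [e] at hs
    exact (Φ.mem_torT).mpr ⟨s, hs.symm⟩
  · obtain ⟨t, ht⟩ := (Φ.mem_torT).mp hz
    obtain ⟨s, hs⟩ := ((Φ.nt_W ha) _ t).2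
    rw [e, ht] at hs
    exact (Φ.mem_torT).mpr ⟨s, by rw [← hs]; group⟩

/-- the element `-1` of the multiplicative group -/
def m₁ : 𝟙_ (Over S) ⟶ Red.Gm S :=
  (H21Rank1.gmFn_surjective (X := 𝟙_ (Over S)) (-1) isUnit_one.neg).choose

theorem gmFn_m₁ : Red.gmFn (m₁ (S := S)) = -1 :=
  (H21Rank1.gmFn_surjective (X := 𝟙_ (Over S)) (-1) isUnit_one.neg).choose_spec

theorem m₁_pow_q (a : D.idx) : (m₁ (S := S)) ^ Φ.q a = m₁ :=
  H21Rank1.gmFn_injective (by rw [gmFn_pow, gmFn_m₁, Φ.neg_one_pow_q])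

theorem T2_avc_m₁ (a : D.idx) :
    Φ.T2 (m₁ ≫ Φ.avc a) = (m₁ ≫ Φ.avc a ≫ D.i, m₁ ≫ Φ.avc' (Φ.d a) ≫ D'.i) := by
  refine Prod.ext (Category.assoc _ _ _) ?_
  change ((m₁ ≫ Φ.avc a) ≫ Φ.fT₀) ≫ D'.i = _
  rw [Φ.avc_fT₀, m₁_pow_q, Category.assoc]

theorem W_sq {a : D.idx} (ha : a ∈ D.base.support) : Φ.W a * Φ.W a = Φ.T2 (m₁ ≫ Φ.avc a) := by
  rw [T2_avc_m₁, ← pow_two]
  exact Prod.ext (weyl_sq D.toSplitRed Φ.e₁ Φ.he₁ m₁ gmFn_m₁ a (Φ.avc a) (Φ.havc a) (Φ.hpair a ha))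
    (weyl_sq D'.toSplitRed Φ.e₁ Φ.he₁ m₁ gmFn_m₁ (Φ.d a) (Φ.avc' _) (Φ.havc' _) (Φ.hpair' _ ((Φ.hΔ a).mp ha)))

theorem cl_sq {a : D.idx} (ha : a ∈ D.base.support) {ℓ : Line D D'} (hℓ : Φ.TStable ℓ) :
    cl (Φ.W a) (cl (Φ.W a) ℓ) ≤ ℓ := by
  rw [← cl_mul, W_sq _ ha]
  exact Φ.cl_torT ⟨_, rfl⟩ hℓ

/-- `p = 0` on functions when `p ≥ 2` -/
theorem p_eq_zero (h2 : 2 ≤ Φ.p) (X : Over S) : (Φ.p : Γ(X.left, ⊤)) = 0 := by
  obtain ⟨y, hy⟩ := gaFn_surjective (X := X) (Φ.p : Γ(X.left, ⊤))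
  rw [← hy, show y = 1 from hom_ext_pt fun R _ g j => ?_, gaFn_one]
  refine gv_injective g ?_
  rw [MonObj.comp_one, ← ga_zero, gv_ga, R2.gv_comp, hy, map_natCast]
  let e := (Scheme.ΓSpecIso (CommRingCat.of (Polynomial R))).inv.hom
  let e' := (Scheme.ΓSpecIso (CommRingCat.of (Polynomial R))).hom.hom
  have he : ∀ z, e' (e z) = z := fun z => Iso.inv_hom_id_apply (Scheme.ΓSpecIso (CommRingCat.of (Polynomial R))) z
  have h := congrArg e' (Φ.hp (pt g (Polynomial R)) (e Polynomial.X) (e 1))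
  simp only [map_add, map_pow, he, one_pow] at h
  have hc := congrArg (fun f : Polynomial R => f.coeff 1) h
  simp only [Polynomial.coeff_X_add_one_pow, Polynomial.coeff_add, Polynomial.coeff_X_pow, Polynomial.coeff_one,
    Nat.choose_one_right, if_neg (show ¬(1 = Φ.p) by omega), if_neg one_ne_zero, add_zero] at hc
  exact hc

/-- the types of a pair of simple roots and of its image -/
inductive Kind (a s : D.idx) : Prop
  | orth (hA : D.P.pairing s a = 0) (hB : D.P.pairing a s = 0)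
      (hA' : D'.P.pairing (Φ.d s) (Φ.d a) = 0) (hB' : D'.P.pairing (Φ.d a) (Φ.d s) = 0)
  | same (m : ℤ) (hm : m = 1 ∨ m = 2 ∨ m = 3) (hA : D.P.pairing s a = -m) (hB : D.P.pairing a s = -1)
      (hA' : D'.P.pairing (Φ.d s) (Φ.d a) = -m) (hB' : D'.P.pairing (Φ.d a) (Φ.d s) = -1) (hq : Φ.q a = Φ.q s)
  | swap (m : ℕ) (hm : m = 2 ∨ m = 3) (hA : D.P.pairing s a = -(m : ℤ)) (hB : D.P.pairing a s = -1)
      (hA' : D'.P.pairing (Φ.d s) (Φ.d a) = -1) (hB' : D'.P.pairing (Φ.d a) (Φ.d s) = -(m : ℤ))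
      (hq : Φ.q a = m * Φ.q s) (hz : ∀ X : Over S, (m : Γ(X.left, ⊤)) = 0)

theorem kind_aux {a s : D.idx} (ha : a ∈ D.base.support) (hs : s ∈ D.base.support) (hne : a ≠ s) (m : ℕ)
    (hm : m = 1 ∨ m = 2 ∨ m = 3) (hA : D.P.pairing s a = -(m : ℤ)) (hB : D.P.pairing a s = -1) : Φ.Kind a s := by
  have h1 := Φ.pairing_compat a s
  have h2 := Φ.pairing_compat s a
  rw [hA] at h1
  rw [hB] at h2
  set A' := D'.P.pairing (Φ.d s) (Φ.d a) with hA'
  set B' := D'.P.pairing (Φ.d a) (Φ.d s) with hB'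
  have hqa : (0 : ℤ) < Φ.q a := by exact_mod_cast Φ.q_pos a
  have hqs : (0 : ℤ) < Φ.q s := by exact_mod_cast Φ.q_pos s
  have hprod : A' * B' = m := by
    have e : ((Φ.q a : ℤ) * Φ.q s) * (A' * B') = ((Φ.q a : ℤ) * Φ.q s) * m := by
      linear_combination (Φ.q a : ℤ) * h1 + (-(Φ.q a : ℤ) * A') * h2
    exact mul_left_cancel₀ (mul_pos hqa hqs).ne' e
  have hA'neg : A' < 0 := by
    rcases lt_trichotomy A' 0 with h | h | h
    · exact h
    · rw [h, zero_mul] at hprod; omega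
    · nlinarith
  have hB'neg : B' < 0 := by nlinarith
  have hA'ge : -(m : ℤ) ≤ A' := by nlinarith
  have hcase : (A' = -(m : ℤ) ∧ B' = -1) ∨ (A' = -1 ∧ B' = -(m : ℤ)) := by
    rcases hm with rfl | rfl | rfl
    · have : A' = -1 := by omega
      exact Or.inl ⟨this, by rw [this] at hprod; omega⟩
    · rcases (show A' = -1 ∨ A' = -2 by omega) with h | h <;> rw [h] at hprod
      · exact Or.inr ⟨h, by omega⟩
      · exact Or.inl ⟨h, by omega⟩
    · rcases (show A' = -1 ∨ A' = -2 ∨ A' = -3 by omega) with h | h | h <;> rw [h] at hprod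
      · exact Or.inr ⟨h, by omega⟩
      · omega
      · exact Or.inl ⟨h, by omega⟩
  by_cases h1m : m = 1
  · subst h1m
    rcases hcase with ⟨hA2, hB2⟩ | ⟨hA2, hB2⟩
    all_goals exact .same 1 (Or.inl rfl) hA hB (by simpa using hA2) (by simpa using hB2) (by rw [hB2] at h2; push_cast at h2; omega)
  rcases hcase with ⟨hA2, hB2⟩ | ⟨hA2, hB2⟩
  · refine .same m (by rcases hm with rfl | rfl | rfl <;> simp) hA hB hA2 hB2 ?_
    rw [hB2] at h2; omega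
  · have hq : Φ.q a = m * Φ.q s := by
      rw [hB2] at h2
      have : (Φ.q a : ℤ) = (m : ℤ) * Φ.q s := by linarith
      exact_mod_cast this
    obtain ⟨i, hi⟩ := Φ.hq a
    obtain ⟨j, hj⟩ := Φ.hq s
    have hm' : Nat.Prime m := by
      rcases hm with rfl | rfl | rfl
      exacts [absurd rfl h1m, Nat.prime_two, Nat.prime_three]
    have hpm : Φ.p = m := by
      rw [hi, hj] at hq
      rcases Nat.le_total i j with hij | hij
      · exfalso
        have hle : Φ.p ^ i ≤ Φ.p ^ j := Nat.pow_le_pow_right Φ.hp0 hij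
        have : 0 < Φ.p ^ j := pow_pos Φ.hp0 j
        have := hm'.two_le
        nlinarith
      · obtain ⟨k, rfl⟩ := Nat.exists_eq_add_of_le hij
        rw [pow_add, mul_comm] at hq
        exact (hm'.pow_eq_iff.mp (Nat.eq_of_mul_eq_mul_right (pow_pos Φ.hp0 j) hq)).1
    exact .swap m (by rcases hm with rfl | rfl | rfl <;> simp_all) hA hB hA2 hB2 hq fun X =>
      hpm ▸ Φ.p_eq_zero (hpm ▸ hm'.two_le) X

/-- the classification -/
theorem kind {a s : D.idx} (ha : a ∈ D.base.support) (hs : s ∈ D.base.support) (hne : a ≠ s) :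
    Φ.Kind a s ∨ Φ.Kind s a := by
  haveI := D.fintypeIdx
  haveI : Finite D.idx := Finite.of_fintype _
  haveI : Module.IsReflexive ℤ D.M := .of_isPerfPair D.P.toLinearMap
  haveI : IsAddTorsionFree D.M := .of_isTorsionFree ℤ D.M
  haveI : D.P.IsReduced := isReduced_of_base D.P D.base
  have hli : LinearIndependent ℤ ![D.P.root a, D.P.root s] := by
    have h := LinearIndependent.comp D.base.linearIndepOn_root
      ![(⟨a, ha⟩ : (D.base.support : Set D.idx)), ⟨s, hs⟩] (by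
        intro i j hij
        fin_cases i <;> fin_cases j <;> simp_all [hne.symm])
    have e : ((fun x : (D.base.support : Set D.idx) => D.P.root x.1) ∘ ![(⟨a, ha⟩ : (D.base.support : Set D.idx)),
      ⟨s, hs⟩]) = ![D.P.root a, D.P.root s] := funext fun i => by fin_cases i <;> rfl
    exact e ▸ h
  have e : ∀ p q : D.idx, D.P.pairingIn ℤ p q = D.P.pairing p q := fun p q => by
    simpa using D.P.algebraMap_pairingIn ℤ p q
  have h1 : D.P.pairing s a ≤ 0 := e s a ▸ D.base.pairingIn_le_zero_of_ne hne.symm hs ha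
  have h2 : D.P.pairing a s ≤ 0 := e a s ▸ D.base.pairingIn_le_zero_of_ne hne ha hs
  have h4 := R2.pairing_prod_lt_four D.P hli
  have h0 : D.P.pairing s a = 0 ↔ D.P.pairing a s = 0 := D.P.pairing_eq_zero_iff'
  by_cases hz : D.P.pairing s a = 0
  · refine Or.inl (.orth hz (h0.mp hz) ?_ ?_)
    · have h := Φ.pairing_compat a s
      rw [hz, mul_zero] at h
      exact (mul_eq_zero.mp h.symm).resolve_left (by exact_mod_cast (Φ.q_pos a).ne')
    · have h := Φ.pairing_compat s a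
      rw [h0.mp hz, mul_zero] at h
      exact (mul_eq_zero.mp h.symm).resolve_left (by exact_mod_cast (Φ.q_pos s).ne')
  · have hz' : D.P.pairing a s ≠ 0 := fun h => hz (h0.mpr h)
    have hy1 : D.P.pairing s a ≤ -1 := by omega
    have hx1 : D.P.pairing a s ≤ -1 := by omega
    have hx : -3 ≤ D.P.pairing a s := by nlinarith
    have hy : -3 ≤ D.P.pairing s a := by nlinarith
    interval_cases hA : D.P.pairing s a <;> interval_cases hB : D.P.pairing a s <;> norm_num at h4 <;> first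
      | exact Or.inl (Φ.kind_aux ha hs hne 1 (by simp) (by simpa using hA) hB)
      | exact Or.inl (Φ.kind_aux ha hs hne 2 (by simp) (by simpa using hA) hB)
      | exact Or.inl (Φ.kind_aux ha hs hne 3 (by simp) (by simpa using hA) hB)
      | exact Or.inr (Φ.kind_aux hs ha hne.symm 2 (by simp) (by simpa using hB) hA)
      | exact Or.inr (Φ.kind_aux hs ha hne.symm 3 (by simp) (by simpa using hB) hA)

theorem pow_aux {M : Type*} [Group M] {W V : M} {n : ℕ} {z : M} (h : (W * V) ^ n = z) : (W * V) ^ n = z := h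

/-- the Coxeter powers are torus pairs -/
theorem pow_mem {a s : D.idx} (ha : a ∈ D.base.support) (hs : s ∈ D.base.support) (hne : a ≠ s)
    (hk : Φ.Kind a s) : (Φ.W a * Φ.W s) ^ orderOf (sr D.P a * sr D.P s) ∈ Φ.torT ∧
      (Φ.W s * Φ.W a) ^ orderOf (sr D.P a * sr D.P s) ∈ Φ.torT := by
  haveI := D.fintypeIdx
  haveI : Finite D.idx := Finite.of_fintype _
  let w : D.idx → (𝟙_ (Over S) ⟶ G) := fun c =>
    (Φ.e₁ ≫ D.u c) * (Φ.e₁ ≫ D.u (D.P.reflectionPerm c c))⁻¹ * (Φ.e₁ ≫ D.u c)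
  let w' : D'.idx → (𝟙_ (Over S) ⟶ G') := fun c =>
    (Φ.e₁ ≫ D'.u c) * (Φ.e₁ ≫ D'.u (D'.P.reflectionPerm c c))⁻¹ * (Φ.e₁ ≫ D'.u c)
  have hW : ∀ c, Φ.W c = (w c, w' (Φ.d c)) := fun c => rfl
  have hne' : Φ.d a ≠ Φ.d s := fun e => hne (Φ.d.injective e)
  have ha' := (Φ.hΔ a).mp ha
  have hs' := (Φ.hΔ s).mp hs
  rcases hk with ⟨hA, hB, hA', hB'⟩ | ⟨m, hm, hA, hB, hA', hB', hq⟩ | ⟨m, hm, hA, hB, hA', hB', hq, hz⟩
  · rw [R2.orderOf_eq_two hA hB]
    obtain ⟨g1, g2⟩ := S8459.result S Φ.e₁ Φ.he₁ G D Φ.avc Φ.havc Φ.hpair w (fun _ => rfl) m₁ gmFn_m₁ a s ha hs hne hA hB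
    obtain ⟨g1', g2'⟩ := S8459.result S Φ.e₁ Φ.he₁ G' D' Φ.avc' Φ.havc' Φ.hpair' w' (fun _ => rfl) m₁ gmFn_m₁ _ _ ha'
      hs' hne' hA' hB'
    refine ⟨⟨(m₁ ≫ Φ.avc a) * (m₁ ≫ Φ.avc s), ?_⟩, ⟨(m₁ ≫ Φ.avc a) * (m₁ ≫ Φ.avc s), ?_⟩⟩ <;>
      refine ((Φ.T2_mul _ _).trans ?_) <;>
      rw [T2_avc_m₁, T2_avc_m₁, hW a, hW s, Prod.mk_mul_mk, Prod.mk_mul_mk, Prod.pow_mk]
    · exact Prod.ext g1.symm g1'.symm
    · exact Prod.ext g2.symm g2'.symm
  · rcases hm with rfl | rfl | rfl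
    · rw [R2.orderOf_A2 hA hB]
      obtain ⟨g1, g2⟩ := S8460.result S Φ.e₁ Φ.he₁ G D Φ.avc Φ.havc Φ.hpair w (fun _ => rfl) a s ha hs hne hA hB
      obtain ⟨g1', g2'⟩ := S8460.result S Φ.e₁ Φ.he₁ G' D' Φ.avc' Φ.havc' Φ.hpair' w' (fun _ => rfl) _ _ ha'
        hs' hne' hA' hB'
      refine ⟨?_, ?_⟩ <;> rw [hW a, hW s, Prod.mk_mul_mk, Prod.pow_mk]
      · rw [g1, g1']; exact one_mem _
      · rw [g2, g2']; exact one_mem _
    · rw [R2.orderOf_B2 hA hB]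
      obtain ⟨g1, g2⟩ := S8461.result S Φ.e₁ Φ.he₁ G D Φ.avc Φ.havc Φ.hpair w (fun _ => rfl) m₁ gmFn_m₁ a s ha hs hne hA hB
      obtain ⟨g1', g2'⟩ := S8461.result S Φ.e₁ Φ.he₁ G' D' Φ.avc' Φ.havc' Φ.hpair' w' (fun _ => rfl) m₁ gmFn_m₁ _ _ ha'
        hs' hne' hA' hB'
      refine ⟨⟨m₁ ≫ Φ.avc a, ?_⟩, ⟨m₁ ≫ Φ.avc a, ?_⟩⟩ <;> refine (Φ.T2_avc_m₁ a).trans ?_ <;>
        rw [hW a, hW s, Prod.mk_mul_mk, Prod.pow_mk]
      · exact Prod.ext g1.symm g1'.symm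
      · exact Prod.ext g2.symm g2'.symm
    · rw [R2.orderOf_G2 hA hB]
      obtain ⟨g1, g2⟩ := S8462.result S Φ.e₁ Φ.he₁ G D Φ.avc Φ.havc Φ.hpair w (fun _ => rfl) a s ha hs hne hA hB
      obtain ⟨g1', g2'⟩ := S8462.result S Φ.e₁ Φ.he₁ G' D' Φ.avc' Φ.havc' Φ.hpair' w' (fun _ => rfl) _ _ ha'
        hs' hne' hA' hB'
      refine ⟨?_, ?_⟩ <;> rw [hW a, hW s, Prod.mk_mul_mk, Prod.pow_mk]
      · rw [g1, g1']; exact one_mem _
      · rw [g2, g2']; exact one_mem _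
  · rcases hm with rfl | rfl
    · rw [R2.orderOf_B2 hA hB]
      have hm1 : (m₁ (S := S)) = 1 := H21Rank1.gmFn_injective (by
        rw [gmFn_m₁, H21Rank1.gmFn_one]
        have h := hz (𝟙_ (Over S))
        push_cast at h
        linear_combination -h)
      obtain ⟨g1, g2⟩ := S8461.result S Φ.e₁ Φ.he₁ G D Φ.avc Φ.havc Φ.hpair w (fun _ => rfl) m₁ gmFn_m₁ a s ha hs hne hA hB
      obtain ⟨g1', g2'⟩ := S8461.result S Φ.e₁ Φ.he₁ G' D' Φ.avc' Φ.havc' Φ.hpair' w' (fun _ => rfl) m₁ gmFn_m₁ _ _ hs'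
        ha' hne'.symm hB' hA'
      have h1 : ∀ {G₀ : Over S} [GrpObj G₀] {T₀ : Over S} [GrpObj T₀] (f : Red.Gm S ⟶ T₀) [IsMonHom f]
          (i₀ : T₀ ⟶ G₀) [IsMonHom i₀], m₁ ≫ f ≫ i₀ = 1 := fun f _ i₀ _ => by
        rw [hm1, ← Category.assoc, MonObj.one_comp, MonObj.one_comp]
      haveI : IsMonHom (Φ.avc a) := by
        rw [Φ.havc]; haveI := H21Diag.isMonHom_DSmap S (D.P.coroot a).toAddMonoidHom; infer_instance
      haveI : IsMonHom (Φ.avc' (Φ.d s)) := by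
        rw [Φ.havc']; haveI := H21Diag.isMonHom_DSmap S (D'.P.coroot (Φ.d s)).toAddMonoidHom; infer_instance
      rw [h1] at g1 g2 g1' g2'
      refine ⟨?_, ?_⟩ <;> rw [hW a, hW s, Prod.mk_mul_mk, Prod.pow_mk]
      · rw [g1, g2']; exact one_mem _
      · rw [g2, g1']; exact one_mem _
    · rw [R2.orderOf_G2 hA hB]
      obtain ⟨g1, g2⟩ := S8462.result S Φ.e₁ Φ.he₁ G D Φ.avc Φ.havc Φ.hpair w (fun _ => rfl) a s ha hs hne hA hB
      obtain ⟨g1', g2'⟩ := S8462.result S Φ.e₁ Φ.he₁ G' D' Φ.avc' Φ.havc' Φ.hpair' w' (fun _ => rfl) _ _ hs'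
        ha' hne'.symm hB' hA'
      refine ⟨?_, ?_⟩ <;> rw [hW a, hW s, Prod.mk_mul_mk, Prod.pow_mk]
      · rw [g1, g2']; exact one_mem _
      · rw [g2, g1']; exact one_mem _

variable [Finite D.idx] [D.P.IsReduced]

variable (D) in
/-- the simple roots as a simple system -/
abbrev zD : Groth.Agent.H21Root.SimpleZ D.P (D.base.support : Set D.idx) :=
  Groth.Agent.H21Root.simpleZ_base (P := D.P) D.base

/-- the Weyl pairs in the quotient of the normaliser of the torus pairs -/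
def wS (a : (D.base.support : Set D.idx)) : (Subgroup.normalizer (Φ.torT : Set _)) ⧸ Φ.torT.subgroupOf (Subgroup.normalizer (Φ.torT : Set _)) :=
  QuotientGroup.mk ⟨Φ.W a.1, Φ.W_mem_normalizer a.2⟩

theorem wS_liftable : (coxM (zD D)).IsLiftable Φ.wS := by
  intro a s
  change ((QuotientGroup.mk (⟨Φ.W a.1, Φ.W_mem_normalizer a.2⟩ : (Subgroup.normalizer (Φ.torT : Set _))) *
    QuotientGroup.mk (⟨Φ.W s.1, Φ.W_mem_normalizer s.2⟩ : (Subgroup.normalizer (Φ.torT : Set _))) :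
      (Subgroup.normalizer (Φ.torT : Set _)) ⧸ Φ.torT.subgroupOf (Subgroup.normalizer (Φ.torT : Set _)))) ^ orderOf (sr D.P a.1 * sr D.P s.1) = 1
  rw [← QuotientGroup.mk_mul, ← QuotientGroup.mk_pow, QuotientGroup.eq_one_iff, Subgroup.mem_subgroupOf]
  change (Φ.W a.1 * Φ.W s.1) ^ orderOf (sr D.P a.1 * sr D.P s.1) ∈ Φ.torT
  by_cases h : a = s
  · subst h
    rw [Groth.Agent.H21Root.sr_mul_self, orderOf_one, pow_one, Φ.W_sq a.2]
    exact ⟨_, rfl⟩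
  have hne : a.1 ≠ s.1 := fun e => h (Subtype.ext e)
  rcases Φ.kind a.2 s.2 hne with hk | hk
  · exact (Φ.pow_mem a.2 s.2 hne hk).1
  · have h' : orderOf (sr D.P a.1 * sr D.P s.1) = orderOf (sr D.P s.1 * sr D.P a.1) := by
      rw [← orderOf_inv (sr D.P a.1 * sr D.P s.1), _root_.mul_inv_rev, ← eq_inv_of_mul_eq_one_left
        (Groth.Agent.H21Root.sr_mul_self D.P a.1), ← eq_inv_of_mul_eq_one_left (Groth.Agent.H21Root.sr_mul_self D.P s.1)]
    rw [h']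
    exact (Φ.pow_mem s.2 a.2 hne.symm hk).2

/-- the Weyl group to Weyl pairs modulo torus pairs -/
def wLift : (coxM (zD D)).Group →*
    (Subgroup.normalizer (Φ.torT : Set _)) ⧸ Φ.torT.subgroupOf (Subgroup.normalizer (Φ.torT : Set _)) :=
  (cS (zD D)).lift ⟨Φ.wS, Φ.wS_liftable⟩

/-- a word as a list of roots -/
abbrev vals (l : List (D.base.support : Set D.idx)) : List D.idx := l.map Subtype.val

theorem wW_mem (l : List (D.base.support : Set D.idx)) : Φ.wW (vals l) ∈ (Subgroup.normalizer (Φ.torT : Set _)) := by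
  refine Subgroup.list_prod_mem _ fun z hz => ?_
  simp only [List.map_map, List.mem_map] at hz
  obtain ⟨c, -, rfl⟩ := hz
  exact Φ.W_mem_normalizer c.2

theorem wLift_word (l : List (D.base.support : Set D.idx)) :
    Φ.wLift ((cS (zD D)).wordProd l) = QuotientGroup.mk ⟨Φ.wW (vals l), Φ.wW_mem l⟩ := by
  induction l with
  | nil =>
    rw [(cS (zD D)).wordProd_nil, map_one]
    exact (QuotientGroup.mk_one _).symm.trans (congrArg QuotientGroup.mk (Subtype.ext rfl))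
  | cons a l ih =>
    rw [(cS (zD D)).wordProd_cons, map_mul, ih, wLift,
      (cS (zD D)).lift_apply_simple]
    exact (QuotientGroup.mk_mul _ _ _).symm.trans (congrArg QuotientGroup.mk (Subtype.ext (Φ.wW_cons a.1 (vals l)).symm))

/-- two words of the same element of the Weyl group carry a stable line to the same place -/
theorem cl_word_eq {l l' : List (D.base.support : Set D.idx)}
    (h : (cS (zD D)).wordProd l = (cS (zD D)).wordProd l')
    {ℓ : Line D D'} (hℓ : Φ.TStable ℓ) : cl (Φ.wW (vals l)) ℓ ≤ cl (Φ.wW (vals l')) ℓ := by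
  have h1 := congrArg Φ.wLift h
  rw [wLift_word, wLift_word, QuotientGroup.eq, Subgroup.mem_subgroupOf] at h1
  change (Φ.wW (vals l))⁻¹ * Φ.wW (vals l') ∈ Φ.torT at h1
  have e : Φ.wW (vals l) = Φ.wW (vals l') * ((Φ.wW (vals l))⁻¹ * Φ.wW (vals l'))⁻¹ := by group
  rw [e, cl_mul]
  exact cl_mono _ (Φ.cl_torT (inv_mem h1) hℓ)

end PData

end Groth.Agent.H21Split.R3
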